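import Mathlib
import Cfsg.Agent.Lib.Helper60.AICDefs
import Cfsg.Agent.Lib.Helper15.Lifting

/-!
# Keystone K-S2202-Q: the quotient by the center is a BSW group
-/

set_option autoImplicit false
set_option linter.style.haveILetI false

namespace Cfsg.Agent.Lib.Helper01.AIC

open Subgroup Cfsg.Agent.Lib.Helper60.AIC

universe u

variable {G : Type u} [Group G] [Finite G]

/-- under `Hyp`, a non-normal Sylow 2-subgroup forces the center to have odd order -/
theorem odd_card_center (hG : Hyp G) (S : Sylow 2 G) (hnn : ¬ (S : Subgroup G).Normal) :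
    Odd (Nat.card (center G)) := by
  rw [← Nat.not_even_iff_odd, even_iff_two_dvd]
  intro h2
  haveI : Fact (Nat.Prime 2) := ⟨Nat.prime_two⟩
  obtain ⟨z, hz⟩ := exists_prime_orderOf_dvd_card' 2 h2
  have hz' : orderOf (z : G) = 2 := by rw [Subgroup.orderOf_coe]; exact hz
  have hcomm : ∀ x y : G, x * y = y * x := by
    intro x y
    apply hG (z : G) hz'
    · rw [Subgroup.mem_centralizer_iff]
      intro h hh
      rw [Set.mem_singleton_iff] at hh
      subst hh
      exact ((Subgroup.mem_center_iff.mp z.2) x).symm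
    · rw [Subgroup.mem_centralizer_iff]
      intro h hh
      rw [Set.mem_singleton_iff] at hh
      subst hh
      exact ((Subgroup.mem_center_iff.mp z.2) y).symm
  apply hnn
  refine ⟨fun n hn g => ?_⟩
  rw [hcomm g n, mul_inv_cancel_right]
  exact hn

/-- involutions of `G ⧸ Z(G)` lift to involutions when `Z(G)` has odd order -/
theorem exists_invol_lift (hodd : Odd (Nat.card (center G))) (τ : G ⧸ center G)
    (hτ : orderOf τ = 2) : ∃ t : G, orderOf t = 2 ∧ (t : G ⧸ center G) = τ := by
  obtain ⟨g, rfl⟩ := QuotientGroup.mk_surjective τ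
  obtain ⟨k, hk⟩ := hodd
  have hsq : ((g : G ⧸ center G)) ^ 2 = 1 := by rw [← hτ]; exact pow_orderOf_eq_one _
  have hg2 : g ^ 2 ∈ center G := by
    rw [← QuotientGroup.eq_one_iff]
    rw [QuotientGroup.mk_pow]; exact hsq
  refine ⟨g ^ Nat.card (center G), ?_, ?_⟩
  · have h1 : (g ^ Nat.card (center G)) ^ 2 = 1 := by
      rw [← pow_mul, mul_comm, pow_mul]
      have h5 := pow_card_eq_one' (G := center G) (x := ⟨g ^ 2, hg2⟩)
      have h6 := congrArg Subtype.val h5
      rw [Subgroup.coe_pow, Subgroup.coe_one] at h6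
      exact h6
    have h2 : g ^ Nat.card (center G) ≠ 1 := by
      intro h
      have h3 : ((g ^ Nat.card (center G) : G) : G ⧸ center G) = 1 := by rw [h]; rfl
      rw [QuotientGroup.mk_pow, hk, pow_succ, pow_mul, hsq, one_pow, one_mul] at h3
      rw [h3, orderOf_one] at hτ
      omega
    exact orderOf_eq_prime h1 h2
  · rw [QuotientGroup.mk_pow, hk, pow_succ, pow_mul, hsq, one_pow, one_mul]

/-- the centralizer of an involution of `G ⧸ Z(G)` is the image of an involution centralizer -/
theorem exists_lift_of_mem_centralizer (hodd : Odd (Nat.card (center G))) {t : G}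
    (ht : orderOf t = 2) {c : G ⧸ center G}
    (hc : c ∈ centralizer ({(t : G ⧸ center G)} : Set (G ⧸ center G))) :
    ∃ c' ∈ centralizer ({t} : Set G), (c' : G ⧸ center G) = c := by
  haveI : Fact (Nat.Prime 2) := ⟨Nat.prime_two⟩
  have hcop : (Nat.card (center G)).Coprime 2 := Nat.Coprime.symm (Nat.coprime_two_left.mpr hodd)
  have hX : IsPGroup 2 (zpowers t) := by
    apply IsPGroup.of_card (n := 1)
    rw [Nat.card_zpowers, ht, pow_one]
  have key := Cfsg.Agent.Lib.Helper15.centralizer_map_mk_of_coprime (center G) hcop (zpowers t) hX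
  have hc' : c ∈ centralizer (((zpowers t).map (QuotientGroup.mk' (center G)) :
      Subgroup (G ⧸ center G)) : Set (G ⧸ center G)) := by
    rw [Subgroup.mem_centralizer_iff]
    rintro y ⟨x, hx, rfl⟩
    obtain ⟨n, rfl⟩ := Subgroup.mem_zpowers_iff.mp hx
    have h1 : (t : G ⧸ center G) * c = c * (t : G ⧸ center G) :=
      (Subgroup.mem_centralizer_iff.mp hc) _ rfl
    show ((QuotientGroup.mk' (center G)) (t ^ n)) * c = c * ((QuotientGroup.mk' (center G)) (t ^ n))
    rw [map_zpow]
    exact (Commute.zpow_left (show Commute ((QuotientGroup.mk' (center G)) t) c from h1) n).eq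
  rw [key] at hc'
  obtain ⟨c', hc'mem, rfl⟩ := hc'
  refine ⟨c', ?_, rfl⟩
  rw [Subgroup.mem_centralizer_iff]
  intro h hh
  rw [Set.mem_singleton_iff] at hh
  subst hh
  exact (Subgroup.mem_centralizer_iff.mp hc'mem) h (Subgroup.mem_zpowers h)

/-- K-Q: if the squares of the elements of involution centralizers are central, `G ⧸ Z(G)`
satisfies the hypotheses of S1230. -/
theorem bswHyp_quotient_center (hG : Hyp G) (hc : Concl G) (S : Sylow 2 G)
    (hnc : ¬ IsCyclic (S : Subgroup G)) (hnn : ¬ (S : Subgroup G).Normal) :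
    BSWHyp (G ⧸ center G) ∧ Odd (Nat.card (center G)) ∧
      ∃ T : Sylow 2 (G ⧸ center G), ¬ IsCyclic (T : Subgroup (G ⧸ center G)) ∧
        ¬ (T : Subgroup (G ⧸ center G)).Normal ∧ Nat.card T = Nat.card S := by
  haveI : Fact (Nat.Prime 2) := ⟨Nat.prime_two⟩
  have hodd := odd_card_center hG S hnn
  have hcop : (Nat.card (center G)).Coprime 2 := Nat.Coprime.symm (Nat.coprime_two_left.mpr hodd)
  refine ⟨?_, hodd, ?_⟩
  · -- BSWHyp
    intro τ hτ
    obtain ⟨t, ht, rfl⟩ := exists_invol_lift hodd τ hτ
    constructor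
    · refine ⟨⟨fun a b => ?_⟩⟩
      obtain ⟨a', ha', hae⟩ := exists_lift_of_mem_centralizer hodd ht a.2
      obtain ⟨b', hb', hbe⟩ := exists_lift_of_mem_centralizer hodd ht b.2
      apply Subtype.ext
      show (a : G ⧸ center G) * (b : G ⧸ center G) = (b : G ⧸ center G) * (a : G ⧸ center G)
      rw [← hae, ← hbe, ← QuotientGroup.mk_mul, ← QuotientGroup.mk_mul, hG t ht a' ha' b' hb']
    · intro c hcm
      obtain ⟨c', hc', rfl⟩ := exists_lift_of_mem_centralizer hodd ht hcm
      rw [← QuotientGroup.mk_pow]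
      exact (QuotientGroup.eq_one_iff _).mpr (hc t ht c' hc')
  · -- the Sylow 2-subgroup
    set π := QuotientGroup.mk' (center G) with hπ
    have hSZ : (S : Subgroup G) ⊓ center G = ⊥ :=
      Cfsg.Agent.Lib.Helper15.isPGroup_inf_coprime_eq_bot S.isPGroup' hcop
    have hTp : IsPGroup 2 ((S : Subgroup G).map π) := S.isPGroup'.map π
    have hidx : ¬ 2 ∣ ((S : Subgroup G).map π).index := by
      intro h
      exact S.not_dvd_index (h.trans (Subgroup.index_map_dvd (S : Subgroup G)
        (QuotientGroup.mk'_surjective (center G))))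
    let T : Sylow 2 (G ⧸ center G) := hTp.toSylow hidx
    have hT : (T : Subgroup (G ⧸ center G)) = (S : Subgroup G).map π := hTp.toSylow_coe hidx
    -- the isomorphism `S ≃* T`
    have hinj : Function.Injective (π.subgroupMap (S : Subgroup G)) := by
      rw [injective_iff_map_eq_one]
      intro x hx
      have h1 : π (x : G) = 1 := congrArg Subtype.val hx
      have h2 : (x : G) ∈ center G := by
        rw [← QuotientGroup.eq_one_iff]; exact h1
      have h3 : (x : G) ∈ (S : Subgroup G) ⊓ center G := ⟨x.2, h2⟩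
      rw [hSZ, Subgroup.mem_bot] at h3
      exact Subtype.ext h3
    let e : (S : Subgroup G) ≃* ((S : Subgroup G).map π) :=
      MulEquiv.ofBijective (π.subgroupMap (S : Subgroup G))
        ⟨hinj, π.subgroupMap_surjective (S : Subgroup G)⟩
    refine ⟨T, ?_, ?_, ?_⟩
    · intro hcyc
      apply hnc
      rw [hT] at hcyc
      haveI := hcyc
      exact isCyclic_of_surjective e.symm e.symm.surjective
    · intro hTn
      apply hnn
      rw [hT] at hTn
      refine ⟨fun x hx g => ?_⟩
      have h1 : π (g * x * g⁻¹) ∈ (S : Subgroup G).map π := by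
        rw [map_mul, map_mul, map_inv]
        exact hTn.conj_mem _ (Subgroup.mem_map_of_mem π hx) _
      obtain ⟨s, hs, hse⟩ := h1
      have hz : s⁻¹ * (g * x * g⁻¹) ∈ center G := by
        rw [← QuotientGroup.eq_one_iff]
        have : ((s⁻¹ * (g * x * g⁻¹) : G) : G ⧸ center G) = (π s)⁻¹ * π (g * x * g⁻¹) := by
          simp [hπ]
        rw [this, hse, inv_mul_cancel]
      set z := s⁻¹ * (g * x * g⁻¹) with hzdef
      have hgx : g * x * g⁻¹ = s * z := by rw [hzdef]; group
      -- `z` has 2-power order and lies in the odd center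
      have hcomm : Commute s z := (Subgroup.mem_center_iff.mp hz) s
      obtain ⟨n, hn⟩ := IsPGroup.iff_card.mp S.isPGroup'
      have hx2 : x ^ 2 ^ n = 1 := by
        have := pow_card_eq_one' (G := (S : Subgroup G)) (x := ⟨x, hx⟩)
        rw [hn] at this
        simpa using congrArg Subtype.val this
      have hs2 : s ^ 2 ^ n = 1 := by
        have := pow_card_eq_one' (G := (S : Subgroup G)) (x := ⟨s, hs⟩)
        rw [hn] at this
        simpa using congrArg Subtype.val this
      have hz2 : z ^ 2 ^ n = 1 := by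
        have h3 : (g * x * g⁻¹) ^ 2 ^ n = 1 := by
          rw [conj_pow, hx2]; group
        rw [hgx, hcomm.mul_pow, hs2, one_mul] at h3
        exact h3
      have hzc : z ^ Nat.card (center G) = 1 := by
        have h5 := pow_card_eq_one' (G := center G) (x := ⟨z, hz⟩)
        have h6 := congrArg Subtype.val h5
        rw [Subgroup.coe_pow, Subgroup.coe_one] at h6
        exact h6
      have hz1 : z = 1 := by
        have hd1 : orderOf z ∣ 2 ^ n := orderOf_dvd_of_pow_eq_one hz2
        have hd2 : orderOf z ∣ Nat.card (center G) := orderOf_dvd_of_pow_eq_one hzc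
        have hcop' : (2 ^ n).Coprime (Nat.card (center G)) :=
          Nat.Coprime.pow_left n hcop.symm
        have : orderOf z = 1 := Nat.eq_one_of_dvd_coprimes hcop' hd1 hd2
        exact orderOf_eq_one_iff.mp this
      rw [hgx, hz1, mul_one]
      exact hs
    · rw [hT]
      exact (Nat.card_congr e.toEquiv).symm

end Cfsg.Agent.Lib.Helper01.AIC
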