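import Mathlib

set_option autoImplicit false

namespace Cfsg.Agent.Lib.Helper01

open scoped Pointwise

variable {G : Type*} [Group G] {Q : Type*} [Group Q]

/-- conjugating a subgroup does not change its cardinality -/
theorem card_conj_smul (g : G) (H : Subgroup G) :
    Nat.card (MulAut.conj g • H : Subgroup G) = Nat.card H :=
  (Nat.card_congr (Subgroup.equivSMul (MulAut.conj g) H).toEquiv).symm

theorem card_subgroupOf_of_le {H L : Subgroup G} (h : H ≤ L) :
    Nat.card (H.subgroupOf L) = Nat.card H :=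
  Nat.card_congr (Subgroup.subgroupOfEquivOfLe h).toEquiv

/-- First isomorphism theorem, cardinality form, for the restriction of `f` to `X`. -/
theorem card_map_mul_card_inf_ker (f : G →* Q) (X : Subgroup G) :
    Nat.card (X.map f) * Nat.card (f.ker ⊓ X : Subgroup G) = Nat.card X := by
  rw [← Subgroup.relIndex_ker, ← Subgroup.relIndex_bot_left (f.ker ⊓ X),
    ← Subgroup.inf_relIndex_right f.ker X, mul_comm,
    Subgroup.relIndex_mul_relIndex _ _ _ bot_le inf_le_right, Subgroup.relIndex_bot_left]

theorem card_map_of_coprime [Finite G] (f : G →* Q) (X : Subgroup G)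
    (h : (Nat.card X).Coprime (Nat.card f.ker)) : Nat.card (X.map f) = Nat.card X := by
  have h1 := card_map_mul_card_inf_ker f X
  have h2 : (f.ker ⊓ X : Subgroup G) = ⊥ := by
    rw [inf_comm]; exact (Subgroup.disjoint_of_coprime_natCard h).eq_bot
  rw [h2, Subgroup.card_bot, mul_one] at h1
  exact h1

theorem card_map_mul_card_ker_of_le (f : G →* Q) (X : Subgroup G) (h : f.ker ≤ X) :
    Nat.card (X.map f) * Nat.card f.ker = Nat.card X := by
  have h1 := card_map_mul_card_inf_ker f X
  rwa [inf_of_le_left h] at h1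

theorem map_conj_smul (f : G →* Q) (g : G) (H : Subgroup G) :
    (MulAut.conj g • H).map f = MulAut.conj (f g) • H.map f := by
  ext x
  constructor
  · rintro ⟨y, hy, rfl⟩
    rw [SetLike.mem_coe, Subgroup.mem_pointwise_smul_iff_inv_smul_mem] at hy
    rw [Subgroup.mem_pointwise_smul_iff_inv_smul_mem]
    refine ⟨_, hy, ?_⟩
    simp [MulAut.smul_def, map_mul]
  · intro hx
    rw [Subgroup.mem_pointwise_smul_iff_inv_smul_mem] at hx
    obtain ⟨y, hy, hyx⟩ := hx
    refine ⟨g * y * g⁻¹, ?_, ?_⟩
    · rw [SetLike.mem_coe, Subgroup.mem_pointwise_smul_iff_inv_smul_mem]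
      simpa [MulAut.smul_def, mul_assoc] using hy
    · rw [map_mul, map_mul, hyx]
      simp [MulAut.smul_def, mul_assoc]

/-- Conjugacy in a subgroup `L` gives conjugacy in `G`. -/
theorem conj_of_conj_subgroupOf {H K L : Subgroup G} (hH : H ≤ L) (hK : K ≤ L)
    (h : ∃ l : L, MulAut.conj l • H.subgroupOf L = K.subgroupOf L) :
    ∃ g : G, g ∈ L ∧ MulAut.conj g • H = K := by
  obtain ⟨l, hl⟩ := h
  refine ⟨l, l.2, ?_⟩
  rw [Subgroup.conj_smul_subgroupOf hH] at hl
  have h1 : MulAut.conj (l : G) • H ≤ L := Subgroup.conj_smul_le_of_le hH l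
  have := congrArg (Subgroup.map L.subtype) hl
  rwa [Subgroup.subgroupOf_map_subtype, Subgroup.subgroupOf_map_subtype, inf_of_le_left h1,
    inf_of_le_left hK] at this

/-- Conjugacy in a quotient lifts. -/
theorem conj_of_conj_map (f : G →* Q) (hf : Function.Surjective f) {H K : Subgroup G}
    (h : ∃ q : Q, MulAut.conj q • H.map f = K.map f) :
    ∃ g : G, (MulAut.conj g • H) ⊔ f.ker = K ⊔ f.ker := by
  obtain ⟨q, hq⟩ := h
  obtain ⟨g, rfl⟩ := hf q
  refine ⟨g, ?_⟩
  rw [← map_conj_smul] at hq
  rw [← Subgroup.comap_map_eq, ← Subgroup.comap_map_eq, hq]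

theorem conj_smul_normal (g : G) (N : Subgroup G) [N.Normal] : MulAut.conj g • N = N :=
  Subgroup.Normal.conj_smul_eq_self g N

theorem conj_smul_conj_smul (g h : G) (H : Subgroup G) :
    MulAut.conj g • (MulAut.conj h • H) = MulAut.conj (g * h) • H := by
  rw [← mul_smul, ← map_mul]

/-- A subgroup of order `N.index`, where `|N|` is coprime to its index, is a complement. -/
theorem isComplement'_of_card_eq_index [Finite G] {N H : Subgroup G}
    (hcop : (Nat.card N).Coprime N.index) (hH : Nat.card H = N.index) :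
    Subgroup.IsComplement' N H := by
  apply Subgroup.isComplement'_of_coprime
  · rw [hH]; exact N.card_mul_index
  · rw [hH]; exact hcop

theorem card_eq_index_of_isComplement' {N H : Subgroup G} (h : Subgroup.IsComplement' N H) :
    Nat.card H = N.index := by
  have := h.symm.index_eq_card
  exact this.symm

theorem mem_normalizer_iff_conj_smul {g : G} {H : Subgroup G} :
    g ∈ Subgroup.normalizer (H : Set G) ↔ MulAut.conj g • H = H := by
  rw [Subgroup.mem_normalizer_iff_map_conj_eq]
  rfl

theorem le_normalizer_iff_conj_smul {K H : Subgroup G} :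
    K ≤ Subgroup.normalizer (H : Set G) ↔ ∀ k ∈ K, MulAut.conj k • H = H :=
  ⟨fun h k hk => mem_normalizer_iff_conj_smul.mp (h hk),
    fun h k hk => mem_normalizer_iff_conj_smul.mpr (h k hk)⟩

theorem le_normalizer_inf_normal (K M : Subgroup G) [M.Normal] :
    K ≤ Subgroup.normalizer ((K ⊓ M : Subgroup G) : Set G) := by
  rw [le_normalizer_iff_conj_smul]
  intro k hk
  rw [Subgroup.smul_inf, Subgroup.conj_smul_eq_self_of_mem hk, conj_smul_normal]

theorem card_subgroupOf_eq_card_inf (N X : Subgroup G) :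
    Nat.card (N.subgroupOf X) = Nat.card (N ⊓ X : Subgroup G) := by
  rw [← Subgroup.inf_subgroupOf_right, card_subgroupOf_of_le inf_le_right]

/-- Product formula for a normal subgroup. -/
theorem card_sup_mul_card_inf (N X : Subgroup G) [N.Normal] :
    Nat.card (X ⊔ N : Subgroup G) * Nat.card (N ⊓ X : Subgroup G) = Nat.card N * Nat.card X := by
  have h1 : N.relIndex (X ⊔ N) = N.relIndex X := Subgroup.relIndex_sup_right X N
  have h2 := (N.subgroupOf (X ⊔ N)).card_mul_index
  have h3 := (N.subgroupOf X).card_mul_index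
  rw [card_subgroupOf_of_le le_sup_right] at h2
  rw [card_subgroupOf_eq_card_inf] at h3
  change Nat.card N * N.relIndex (X ⊔ N) = _ at h2
  change _ * N.relIndex X = _ at h3
  rw [← h2, ← h3, h1]
  ring

theorem card_sup_of_coprime (N X : Subgroup G) [N.Normal]
    (h : (Nat.card N).Coprime (Nat.card X)) :
    Nat.card (X ⊔ N : Subgroup G) = Nat.card N * Nat.card X := by
  have h1 := card_sup_mul_card_inf N X
  have h2 : (N ⊓ X : Subgroup G) = ⊥ := (Subgroup.disjoint_of_coprime_natCard h).eq_bot
  rwa [h2, Subgroup.card_bot, mul_one] at h1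

/-- If `X ⊔ M = ⊤` with `M` normal then `|X ⊓ M| * M.index = |X|`. -/
theorem card_inf_mul_index_of_sup_eq_top (M X : Subgroup G) [M.Normal] (h : X ⊔ M = ⊤) :
    Nat.card (M ⊓ X : Subgroup G) * M.index = Nat.card X := by
  have h1 : M.relIndex (X ⊔ M) = M.relIndex X := Subgroup.relIndex_sup_right X M
  rw [h, Subgroup.relIndex_top_right] at h1
  have h3 := (M.subgroupOf X).card_mul_index
  rw [card_subgroupOf_eq_card_inf] at h3
  change _ * M.relIndex X = _ at h3
  rw [h1, h3]

end Cfsg.Agent.Lib.Helper01
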