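import Mathlib
import Cfsg.Agent.Lib.Helper01.Basic
import Cfsg.Agent.S0002

set_option autoImplicit false

namespace Cfsg.Agent.Lib.Helper01

open scoped Pointwise commutatorElement

universe u

theorem isSolvable_of_le {G : Type*} [Group G] {A B : Subgroup G} (h : A ≤ B)
    (hB : Group.IsSolvable B) : Group.IsSolvable A :=
  Group.isSolvable_of_isSolvable_injective (f := Subgroup.inclusion h) (Subgroup.inclusion_injective h)

theorem isSolvable_subgroupOf {G : Type*} [Group G] {A B : Subgroup G} (L : Subgroup G)
    (h : A ≤ B) (hB : Group.IsSolvable B) : Group.IsSolvable (A.subgroupOf L) := by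
  have h1 : Group.IsSolvable A := isSolvable_of_le h hB
  let f : A.subgroupOf L →* A :=
    { toFun := fun x => ⟨x.1.1, x.2⟩
      map_one' := rfl
      map_mul' := fun _ _ => rfl }
  have hf : Function.Injective f := by
    intro x y hxy
    have : (x.1.1 : G) = y.1.1 := congrArg (fun z : A => (z : G)) hxy
    exact Subtype.ext (Subtype.ext this)
  exact Group.isSolvable_of_isSolvable_injective hf

/-- Schur–Zassenhaus conjugacy, normal Hall subgroup solvable. Complements are given by cardinality. -/
theorem sz_conj_normal_solvable_aux (n : ℕ) : ∀ (G : Type u) [Group G] [Finite G] (N : Subgroup G)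
    [N.Normal], Nat.card N = n → Group.IsSolvable N → (Nat.card N).Coprime N.index →
    ∀ H K : Subgroup G, Nat.card H = N.index → Nat.card K = N.index →
    ∃ g : G, MulAut.conj g • H = K := by
  induction n using Nat.strong_induction_on with
  | _ n ih =>
  intro G _ _ N _ hn hsolv hcop H K hH hK
  by_cases hN1 : N = ⊥
  · refine ⟨1, ?_⟩
    have hidx : N.index = Nat.card G := by rw [hN1, Subgroup.index_bot]
    have hHtop : H = ⊤ := Subgroup.eq_top_of_card_eq H (hH.trans hidx)
    have hKtop : K = ⊤ := Subgroup.eq_top_of_card_eq K (hK.trans hidx)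
    rw [hHtop, hKtop, map_one, one_smul]
  · -- N' = derived subgroup of N, as a subgroup of G
    have hNnontriv : Nontrivial N := (Subgroup.nontrivial_iff_ne_bot N).mpr hN1
    set N' : Subgroup G := (commutator N).map N.subtype with hN'def
    have hN'normal : N'.Normal := ConjAct.normal_of_characteristic_of_normal
    have hN'le : N' ≤ N := Subgroup.map_subtype_le _
    have hcardN' : Nat.card N' = Nat.card (commutator N) :=
      Subgroup.card_map_of_injective N.subtype_injective
    have hN'lt : Nat.card N' < n := by
      rw [hcardN', ← hn]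
      have hlt : commutator N < ⊤ := Group.IsSolvable.commutator_lt_top_of_nontrivial N
      have hle := Subgroup.card_le_of_le (le_of_lt hlt)
      rw [Subgroup.card_top] at hle
      rcases Nat.lt_or_ge (Nat.card (commutator N)) (Nat.card N) with h | h
      · exact h
      · exfalso
        have := Subgroup.eq_top_of_card_eq (commutator N) (le_antisymm hle h)
        exact (ne_of_lt hlt) this
    have hN'dvd : Nat.card N' ∣ Nat.card N := Subgroup.card_dvd_of_le hN'le
    let f : G →* G ⧸ N' := QuotientGroup.mk' N'
    have hf : Function.Surjective f := QuotientGroup.mk'_surjective N'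
    have hker : f.ker = N' := QuotientGroup.ker_mk' N'
    -- image of N is abelian normal
    have hNbar_normal : (N.map f).Normal := Subgroup.Normal.map inferInstance f hf
    have hNbar_comm : IsMulCommutative (N.map f) := by
      constructor
      constructor
      rintro ⟨_, ⟨a, ha, rfl⟩⟩ ⟨_, ⟨b, hb, rfl⟩⟩
      apply Subtype.ext
      change f a * f b = f b * f a
      rw [← map_mul, ← map_mul]
      change (QuotientGroup.mk (a * b) : G ⧸ N') = QuotientGroup.mk (b * a)
      rw [QuotientGroup.eq]
      -- (a*b)⁻¹ * (b*a) = ⁅b⁻¹, a⁻¹⁆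
      have hmem : ⁅(⟨b, hb⟩ : N)⁻¹, (⟨a, ha⟩ : N)⁻¹⁆ ∈ commutator N :=
        Subgroup.commutator_mem_commutator (Subgroup.mem_top _) (Subgroup.mem_top _)
      refine ⟨_, hmem, ?_⟩
      simp [commutatorElement_def, mul_assoc]
    have hNbar_index : (N.map f).index = N.index :=
      Subgroup.index_map_eq N hf (hker.le.trans hN'le)
    have hNbar_cop : (Nat.card (N.map f)).Coprime (N.map f).index := by
      rw [hNbar_index]
      exact Nat.Coprime.coprime_dvd_left (Subgroup.card_map_dvd N f) hcop
    have hcopH : ∀ X : Subgroup G, Nat.card X = N.index → (Nat.card X).Coprime (Nat.card f.ker) := by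
      intro X hX
      rw [hX, hker]
      exact (Nat.Coprime.coprime_dvd_left hN'dvd hcop).symm
    have hHbar : Nat.card (H.map f) = (N.map f).index := by
      rw [card_map_of_coprime f H (hcopH H hH), hNbar_index, hH]
    have hKbar : Nat.card (K.map f) = (N.map f).index := by
      rw [card_map_of_coprime f K (hcopH K hK), hNbar_index, hK]
    obtain ⟨a, -, ha⟩ := Cfsg.Agent.S0002.result (N.map f) hNbar_cop (H.map f) (K.map f)
      (isComplement'_of_card_eq_index hNbar_cop hHbar)
      (isComplement'_of_card_eq_index hNbar_cop hKbar)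
    obtain ⟨g, hg⟩ := conj_of_conj_map f hf ⟨a, ha⟩
    rw [hker] at hg
    -- now work in L = K ⊔ N'
    set L : Subgroup G := K ⊔ N' with hLdef
    set H₁ : Subgroup G := MulAut.conj g • H with hH₁def
    have hH₁L : H₁ ≤ L := by rw [← hg]; exact le_sup_left
    have hKL : K ≤ L := le_sup_left
    have hN'L : N' ≤ L := le_sup_right
    have hH₁card : Nat.card H₁ = N.index := by rw [card_conj_smul, hH]
    have hLmap : L.map f = K.map f := by
      rw [hLdef, Subgroup.map_sup]
      have : N'.map f = ⊥ := by rw [Subgroup.map_eq_bot_iff]; exact hker.ge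
      rw [this, sup_bot_eq]
    have hLcard : Nat.card L = N.index * Nat.card N' := by
      have h1 := card_map_mul_card_ker_of_le f L (hker.le.trans hN'L)
      rw [hLmap, card_map_of_coprime f K (hcopH K hK), hker, hK] at h1
      exact h1.symm
    have hN'Lnormal : (N'.subgroupOf L).Normal := Subgroup.Normal.subgroupOf hN'normal L
    have hN'Lcard : Nat.card (N'.subgroupOf L) = Nat.card N' := card_subgroupOf_of_le hN'L
    have hN'Lindex : (N'.subgroupOf L).index = N.index := by
      have h1 := (N'.subgroupOf L).card_mul_index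
      rw [hN'Lcard, hLcard, mul_comm] at h1
      have hpos : 0 < Nat.card N' := Nat.card_pos
      exact Nat.eq_of_mul_eq_mul_right hpos h1
    have hsolv' : Group.IsSolvable (N'.subgroupOf L) := isSolvable_subgroupOf L hN'le hsolv
    have hcop' : (Nat.card (N'.subgroupOf L)).Coprime (N'.subgroupOf L).index := by
      rw [hN'Lcard, hN'Lindex]
      exact Nat.Coprime.coprime_dvd_left hN'dvd hcop
    have hres := ih (Nat.card N') hN'lt L (N'.subgroupOf L) hN'Lcard hsolv' hcop'
      (H₁.subgroupOf L) (K.subgroupOf L)
      (by rw [card_subgroupOf_of_le hH₁L, hH₁card, hN'Lindex])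
      (by rw [card_subgroupOf_of_le hKL, hK, hN'Lindex])
    obtain ⟨g', -, hg'⟩ := conj_of_conj_subgroupOf hH₁L hKL hres
    refine ⟨g' * g, ?_⟩
    rw [← conj_smul_conj_smul, hg']

end Cfsg.Agent.Lib.Helper01
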