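import Mathlib

set_option autoImplicit false

namespace Cfsg.Agent.Lib.Helper01

open scoped Pointwise

/-- A nontrivial solvable group has a nontrivial abelian characteristic subgroup. -/
theorem exists_char_abelian_of_solvable {H : Type*} [Group H] [Nontrivial H]
    (hs : Group.IsSolvable H) :
    ∃ A : Subgroup H, A.Characteristic ∧ IsMulCommutative A ∧ A ≠ ⊥ := by
  classical
  obtain ⟨n, hn⟩ := hs
  have hex : ∃ n, derivedSeries H n = ⊥ := ⟨n, hn⟩
  set k := Nat.find hex with hk
  have hk_spec : derivedSeries H k = ⊥ := Nat.find_spec hex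
  have hk0 : k ≠ 0 := by
    intro h0
    rw [h0, derivedSeries_zero] at hk_spec
    exact top_ne_bot hk_spec
  obtain ⟨j, hj⟩ := Nat.exists_eq_succ_of_ne_zero hk0
  have hjne : derivedSeries H j ≠ ⊥ := by
    have : j < k := by rw [hj]; exact Nat.lt_succ_self j
    exact Nat.find_min hex this
  refine ⟨derivedSeries H j, inferInstance, ?_, hjne⟩
  rw [← Subgroup.le_centralizer_iff_isMulCommutative, ← Subgroup.commutator_eq_bot_iff_le_centralizer,
    ← derivedSeries_succ, ← Nat.succ_eq_add_one, ← hj]
  exact hk_spec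

/-- A nontrivial finite solvable group has a nontrivial normal `p`-subgroup for some prime `p`. -/
theorem exists_normal_pSubgroup_of_solvable {H : Type*} [Group H] [Finite H] [Nontrivial H]
    (hs : Group.IsSolvable H) :
    ∃ p : ℕ, p.Prime ∧ ∃ P : Subgroup H, P.Normal ∧ IsPGroup p P ∧ P ≠ ⊥ := by
  obtain ⟨A, hAchar, hAcomm, hAne⟩ := exists_char_abelian_of_solvable hs
  have hAnormal : A.Normal := inferInstance
  have hcard : Nat.card A ≠ 1 := by
    intro h
    exact hAne (Subgroup.card_eq_one.mp h)
  obtain ⟨p, hp, hpdvd⟩ := Nat.exists_prime_and_dvd hcard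
  have : Fact p.Prime := ⟨hp⟩
  let S : Sylow p A := default
  have hSnormal : (S : Subgroup A).Normal := inferInstance
  have hSchar : (S : Subgroup A).Characteristic := Sylow.characteristic_of_normal S hSnormal
  refine ⟨p, hp, (S : Subgroup A).map A.subtype, ConjAct.normal_of_characteristic_of_normal,
    S.isPGroup'.map _, ?_⟩
  intro hbot
  rw [Subgroup.map_eq_bot_iff_of_injective _ A.subtype_injective] at hbot
  exact Sylow.ne_bot_of_dvd_card S hpdvd hbot

end Cfsg.Agent.Lib.Helper01
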