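import Mathlib
import Cfsg.Agent.Lib.Helper01.Basic
import Cfsg.Agent.Lib.Helper01.SolvableNP

set_option autoImplicit false

namespace Cfsg.Agent.Lib.Helper01

open scoped Pointwise

universe u

/-- Two `p`-subgroups of `M` whose index in `M` is prime to `p` are conjugate in `M`. -/
theorem conj_of_sylow_in {G : Type*} [Group G] [Finite G] {p : ℕ} [Fact p.Prime]
    {M P₁ P₂ : Subgroup G} (h₁ : P₁ ≤ M) (h₂ : P₂ ≤ M) (hp₁ : IsPGroup p P₁) (hp₂ : IsPGroup p P₂)
    (hi₁ : ¬ p ∣ P₁.relIndex M) (hi₂ : ¬ p ∣ P₂.relIndex M) :
    ∃ m : G, m ∈ M ∧ MulAut.conj m • P₁ = P₂ := by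
  have hq₁ : IsPGroup p (P₁.subgroupOf M) := hp₁.comap_subtype
  have hq₂ : IsPGroup p (P₂.subgroupOf M) := hp₂.comap_subtype
  let S₁ : Sylow p M := hq₁.toSylow hi₁
  let S₂ : Sylow p M := hq₂.toSylow hi₂
  obtain ⟨m, hm⟩ := MulAction.exists_smul_eq M S₁ S₂
  apply conj_of_conj_subgroupOf h₁ h₂
  refine ⟨m, ?_⟩
  have := congrArg (fun S : Sylow p M => (S : Subgroup M)) hm
  simp only [Sylow.smul_def, Sylow.pointwise_smul_def] at this
  exact this

/-- Schur–Zassenhaus conjugacy, complement solvable. Complements are given by cardinality. -/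
theorem sz_conj_compl_solvable_aux (n : ℕ) : ∀ (G : Type u) [Group G] [Finite G],
    Nat.card G = n → ∀ (N : Subgroup G) [N.Normal], (Nat.card N).Coprime N.index →
    ∀ H K : Subgroup G, Nat.card H = N.index → Nat.card K = N.index → Group.IsSolvable H →
    ∃ g : G, MulAut.conj g • H = K := by
  induction n using Nat.strong_induction_on with
  | _ n ih =>
  intro G _ _ hn N _ hcop H K hH hK hsolv
  by_cases hH1 : H = ⊥
  · refine ⟨1, ?_⟩
    have h1 : Nat.card K = 1 := by rw [hK, ← hH, hH1, Subgroup.card_bot]
    rw [hH1, Subgroup.card_eq_one.mp h1, map_one, one_smul]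
  · have hHnontriv : Nontrivial H := (Subgroup.nontrivial_iff_ne_bot H).mpr hH1
    obtain ⟨p, hp, P₀, hP₀normal, hP₀p, hP₀ne⟩ := exists_normal_pSubgroup_of_solvable hsolv
    have : Fact p.Prime := ⟨hp⟩
    set P : Subgroup G := P₀.map H.subtype with hPdef
    have hPH : P ≤ H := Subgroup.map_subtype_le _
    have hPp : IsPGroup p P := hP₀p.map _
    have hPne : P ≠ ⊥ := by
      intro h
      rw [hPdef, Subgroup.map_eq_bot_iff_of_injective _ H.subtype_injective] at h
      exact hP₀ne h
    have hHcompl : Subgroup.IsComplement' N H := isComplement'_of_card_eq_index hcop hH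
    have hKcompl : Subgroup.IsComplement' N K := isComplement'_of_card_eq_index hcop hK
    have hHN : H ⊔ N = ⊤ := by rw [sup_comm]; exact hHcompl.sup_eq_top
    have hKN : K ⊔ N = ⊤ := by rw [sup_comm]; exact hKcompl.sup_eq_top
    -- p divides |P| divides |H|, so p does not divide |N|
    have hpP : p ∣ Nat.card P := by
      rcases hPp.card_eq_or_dvd with h | h
      · exact absurd (Subgroup.card_eq_one.mp h) hPne
      · exact h
    have hPdvdH : Nat.card P ∣ Nat.card H := Subgroup.card_dvd_of_le hPH
    have hcopNP : (Nat.card N).Coprime (Nat.card P) :=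
      Nat.Coprime.coprime_dvd_right (hH ▸ hPdvdH) hcop
    have hpN : ¬ p ∣ Nat.card N := by
      intro h
      have := Nat.eq_one_of_dvd_coprimes hcopNP h hpP
      exact hp.one_lt.ne' this
    -- M = P ⊔ N is normal in G
    set M : Subgroup G := P ⊔ N with hMdef
    have hHnormP : H ≤ Subgroup.normalizer (P : Set G) := by
      rw [Subgroup.le_normalizer_iff]
      rintro h hh _ ⟨k, hk, rfl⟩
      refine ⟨⟨h, hh⟩ * k * ⟨h, hh⟩⁻¹, hP₀normal.conj_mem k hk ⟨h, hh⟩, ?_⟩
      simp
    have hMnormal : M.Normal := by
      rw [← Subgroup.normalizer_eq_top_iff, eq_top_iff, ← hHN]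
      apply sup_le
      · rw [le_normalizer_iff_conj_smul]
        intro h hh
        rw [hMdef, Subgroup.smul_sup, conj_smul_normal h N,
          mem_normalizer_iff_conj_smul.mp (hHnormP hh)]
      · exact le_trans le_sup_right Subgroup.le_normalizer
    have hNM : N ≤ M := le_sup_right
    have hPM : P ≤ M := le_sup_left
    have hMcard : Nat.card M = Nat.card N * Nat.card P := card_sup_of_coprime N P hcopNP
    have hHM : H ⊔ M = ⊤ := eq_top_iff.mpr (hHN ▸ sup_le_sup_left hNM H)
    have hKM : K ⊔ M = ⊤ := eq_top_iff.mpr (hKN ▸ sup_le_sup_left hNM K)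
    -- |X ⊓ M| = |P| for any complement X
    have hGcard : Nat.card N * N.index = Nat.card G := N.card_mul_index
    have hinfcard : ∀ X : Subgroup G, Nat.card X = N.index → X ⊔ M = ⊤ →
        Nat.card (M ⊓ X : Subgroup G) = Nat.card P := by
      intro X hX hXM
      have h1 := card_inf_mul_index_of_sup_eq_top M X hXM
      have h2 := M.card_mul_index
      rw [hMcard, ← hGcard, ← hX, ← h1] at h2
      have hpos : 0 < Nat.card N * M.index := Nat.mul_pos Nat.card_pos
        (Nat.pos_of_ne_zero Subgroup.index_ne_zero_of_finite)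
      have h3 : Nat.card P * (Nat.card N * M.index) =
          Nat.card (M ⊓ X : Subgroup G) * (Nat.card N * M.index) := by
        calc Nat.card P * (Nat.card N * M.index) = Nat.card N * Nat.card P * M.index := by ring
          _ = Nat.card N * (Nat.card (M ⊓ X : Subgroup G) * M.index) := h2
          _ = _ := by ring
      exact (Nat.eq_of_mul_eq_mul_right hpos h3).symm
    have hPeq : M ⊓ H = P :=
      (Subgroup.eq_of_le_of_card_ge (le_inf hPM hPH) (hinfcard H hH hHM).le).symm
    -- Sylow conjugacy in M
    have hrel : ∀ X : Subgroup G, X ≤ M → Nat.card X = Nat.card P → ¬ p ∣ X.relIndex M := by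
      intro X hXM hX hdiv
      have h1 := (X.subgroupOf M).card_mul_index
      rw [card_subgroupOf_of_le hXM, hMcard, hX, mul_comm] at h1
      have hpos : 0 < Nat.card P := Nat.card_pos
      have h2 : X.relIndex M = Nat.card N := Nat.eq_of_mul_eq_mul_right hpos h1
      exact hpN (h2 ▸ hdiv)
    have hP₂p : IsPGroup p (M ⊓ K : Subgroup G) := by
      apply IsPGroup.of_card (n := (Nat.card P).factorization p)
      rw [hinfcard K hK hKM]
      obtain ⟨k, hk⟩ := (IsPGroup.iff_card.mp hPp)
      rw [hk, hp.factorization_pow]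
      simp
    obtain ⟨m, hmM, hm⟩ := conj_of_sylow_in (p := p) (inf_le_left : M ⊓ K ≤ M) hPM hP₂p hPp
      (hrel _ inf_le_left (hinfcard K hK hKM)) (hrel P hPM rfl)
    set K₁ : Subgroup G := MulAut.conj m • K with hK₁def
    have hK₁card : Nat.card K₁ = N.index := by rw [card_conj_smul, hK]
    have hK₁M : M ⊓ K₁ = P := by
      rw [← hm, Subgroup.smul_inf, conj_smul_normal]
    have hPK₁ : P ≤ K₁ := hK₁M ▸ inf_le_right
    have hK₁normP : K₁ ≤ Subgroup.normalizer (P : Set G) := by
      have := le_normalizer_inf_normal K₁ M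
      rwa [inf_comm, hK₁M] at this
    -- enough to conjugate H to K₁
    suffices hsuff : ∃ g : G, MulAut.conj g • H = K₁ by
      obtain ⟨g, hg⟩ := hsuff
      refine ⟨m⁻¹ * g, ?_⟩
      rw [← conj_smul_conj_smul, hg, hK₁def, conj_smul_conj_smul, inv_mul_cancel, map_one, one_smul]
    set L : Subgroup G := Subgroup.normalizer (P : Set G) with hLdef
    by_cases hLtop : L = ⊤
    · -- P is normal in G; pass to G ⧸ P
      have hPnormal : P.Normal := Subgroup.normalizer_eq_top_iff.mp hLtop
      let f : G →* G ⧸ P := QuotientGroup.mk' P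
      have hf : Function.Surjective f := QuotientGroup.mk'_surjective P
      have hker : f.ker = P := QuotientGroup.ker_mk' P
      have hPcard1 : 1 < Nat.card P := by
        rcases Nat.lt_or_ge 1 (Nat.card P) with h | h
        · exact h
        · exfalso
          have hpos : 0 < Nat.card P := Nat.card_pos
          exact hPne (Subgroup.card_eq_one.mp (le_antisymm h hpos))
      have hQcard : Nat.card (G ⧸ P) * Nat.card P = Nat.card G :=
        (Subgroup.card_eq_card_quotient_mul_card_subgroup P).symm
      have hQlt : Nat.card (G ⧸ P) < n := by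
        rw [← hn, ← hQcard]
        have hpos : 0 < Nat.card (G ⧸ P) := Nat.card_pos
        nlinarith
      have hNbar_normal : (N.map f).Normal := Subgroup.Normal.map inferInstance f hf
      have hNbar_card : Nat.card (N.map f) = Nat.card N :=
        card_map_of_coprime f N (hker.symm ▸ hcopNP)
      have hXbar : ∀ X : Subgroup G, P ≤ X → Nat.card X = N.index →
          Nat.card (X.map f) = (N.map f).index ∧ Nat.card (X.map f) ∣ N.index := by
        intro X hPX hX
        have h1 := card_map_mul_card_ker_of_le f X (hker.le.trans hPX)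
        rw [hker] at h1
        have h2 := (N.map f).card_mul_index
        rw [hNbar_card] at h2
        constructor
        · have hpos : 0 < Nat.card N * Nat.card P := Nat.mul_pos Nat.card_pos Nat.card_pos
          have h3 : Nat.card (X.map f) * (Nat.card N * Nat.card P) =
              (N.map f).index * (Nat.card N * Nat.card P) := by
            calc Nat.card (X.map f) * (Nat.card N * Nat.card P)
                = Nat.card N * (Nat.card (X.map f) * Nat.card P) := by ring
              _ = Nat.card N * N.index := by rw [h1, hX]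
              _ = Nat.card (G ⧸ P) * Nat.card P := by rw [hGcard, hQcard]
              _ = (Nat.card N * (N.map f).index) * Nat.card P := by rw [h2]
              _ = _ := by ring
          exact Nat.eq_of_mul_eq_mul_right hpos h3
        · rw [← hX, ← h1]; exact dvd_mul_right _ _
      obtain ⟨hHbar, hHbar_dvd⟩ := hXbar H hPH hH
      obtain ⟨hK₁bar, -⟩ := hXbar K₁ hPK₁ hK₁card
      have hcop_bar : (Nat.card (N.map f)).Coprime (N.map f).index := by
        rw [hNbar_card, ← hHbar]
        exact Nat.Coprime.coprime_dvd_right hHbar_dvd hcop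
      have hsolv_bar : Group.IsSolvable (H.map f) :=
        Group.isSolvable_of_surjective (f := f.subgroupMap H) (f.subgroupMap_surjective H)
      obtain ⟨q, hq⟩ := ih _ hQlt (G ⧸ P) rfl (N.map f) hcop_bar (H.map f) (K₁.map f) hHbar hK₁bar
        hsolv_bar
      obtain ⟨g, hg⟩ := conj_of_conj_map f hf ⟨q, hq⟩
      rw [hker] at hg
      refine ⟨g, ?_⟩
      have h1 : P ≤ MulAut.conj g • H := by
        have : MulAut.conj g • P ≤ MulAut.conj g • H :=
          Subgroup.pointwise_smul_le_pointwise_smul_iff.mpr hPH
        rwa [conj_smul_normal] at this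
      rwa [sup_of_le_left h1, sup_of_le_left hPK₁] at hg
    · -- L is a proper subgroup; work inside L
      have hHL : H ≤ L := hHnormP
      have hK₁L : K₁ ≤ L := hK₁normP
      have hLlt : Nat.card L < n := by
        rw [← hn]
        rcases Nat.lt_or_ge (Nat.card L) (Nat.card G) with h | h
        · exact h
        · exfalso
          exact hLtop (Subgroup.eq_top_of_card_eq L (le_antisymm (Subgroup.card_le_card_group L) h))
      have hNLnormal : (N.subgroupOf L).Normal := Subgroup.Normal.subgroupOf inferInstance L
      have hNLcard_dvd : Nat.card (N.subgroupOf L) ∣ Nat.card N := by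
        rw [card_subgroupOf_eq_card_inf]; exact Subgroup.card_dvd_of_le inf_le_left
      have hNLindex_dvd : (N.subgroupOf L).index ∣ N.index :=
        Subgroup.relIndex_dvd_index_of_normal N L
      have hNLindex : (N.subgroupOf L).index = N.index := by
        apply Nat.dvd_antisymm hNLindex_dvd
        have h1 : Nat.card H ∣ Nat.card L := Subgroup.card_dvd_of_le hHL
        rw [← (N.subgroupOf L).card_mul_index, hH] at h1
        exact (Nat.Coprime.coprime_dvd_left hNLcard_dvd hcop).symm.dvd_of_dvd_mul_left h1
      have hcopL : (Nat.card (N.subgroupOf L)).Coprime (N.subgroupOf L).index := by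
        rw [hNLindex]; exact Nat.Coprime.coprime_dvd_left hNLcard_dvd hcop
      have hsolvL : Group.IsSolvable (H.subgroupOf L) :=
        Group.isSolvable_of_isSolvable_injective
          (f := (Subgroup.subgroupOfEquivOfLe hHL).toMonoidHom)
          (Subgroup.subgroupOfEquivOfLe hHL).injective
      have hres := ih _ hLlt L rfl (N.subgroupOf L) hcopL (H.subgroupOf L) (K₁.subgroupOf L)
        (by rw [card_subgroupOf_of_le hHL, hH, hNLindex])
        (by rw [card_subgroupOf_of_le hK₁L, hK₁card, hNLindex]) hsolvL
      obtain ⟨g, -, hg⟩ := conj_of_conj_subgroupOf hHL hK₁L hres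
      exact ⟨g, hg⟩

end Cfsg.Agent.Lib.Helper01
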