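import Mathlib
import Cfsg.Agent.Lib.Helper01.SZConjA
import Cfsg.Agent.Lib.Helper01.SZConjB

set_option autoImplicit false

namespace Cfsg.Agent.Lib.Helper01

open scoped Pointwise

/-- Schur–Zassenhaus conjugacy, cardinality form: `N` normal Hall, `N` or `H` solvable,
`|H| = |K| = |G : N|`. -/
theorem sz_conj_card {G : Type*} [Group G] [Finite G] (N : Subgroup G) [N.Normal]
    (hN : (Nat.card N).Coprime N.index) (H K : Subgroup G)
    (hsolv : Group.IsSolvable N ∨ Group.IsSolvable H)
    (hH : Nat.card H = N.index) (hK : Nat.card K = N.index) :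
    ∃ g : G, MulAut.conj g • H = K := by
  rcases hsolv with h | h
  · exact sz_conj_normal_solvable_aux _ G N rfl h hN H K hH hK
  · exact sz_conj_compl_solvable_aux _ G rfl N hN H K hH hK h

/-- Schur–Zassenhaus conjugacy. -/
theorem sz_conj {G : Type*} [Group G] [Finite G] (N : Subgroup G) [N.Normal]
    (hN : (Nat.card N).Coprime N.index) (hsolv : Group.IsSolvable N ∨ Group.IsSolvable (G ⧸ N))
    (H K : Subgroup G) (hH : Subgroup.IsComplement' N H) (hK : Subgroup.IsComplement' N K) :
    ∃ g : G, MulAut.conj g • H = K := by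
  apply sz_conj_card N hN H K _ (card_eq_index_of_isComplement' hH)
    (card_eq_index_of_isComplement' hK)
  rcases hsolv with h | h
  · exact Or.inl h
  · right
    exact Group.isSolvable_of_surjective (f := (hH.symm.QuotientMulEquiv).toMonoidHom)
      (hH.symm.QuotientMulEquiv).surjective

end Cfsg.Agent.Lib.Helper01
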