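import Mathlib
import Cfsg.Agent.Lib.Helper01.SZConj

set_option autoImplicit false

namespace Cfsg.Agent.Lib.Helper01

open scoped Pointwise

variable {G : Type*} [Group G]

theorem isSolvable_subgroupOf_of_le {A L : Subgroup G} (h : A ≤ L)
    (hA : Group.IsSolvable A) : Group.IsSolvable (A.subgroupOf L) :=
  Group.isSolvable_of_isSolvable_injective
    (f := (Subgroup.subgroupOfEquivOfLe h).toMonoidHom) (Subgroup.subgroupOfEquivOfLe h).injective

/-- Relative Schur–Zassenhaus conjugacy inside a subgroup `L`. -/
theorem sz_conj_in [Finite G] (L P H K : Subgroup G) (hPL : P ≤ L) (hHL : H ≤ L) (hKL : K ≤ L)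
    (hPn : L ≤ Subgroup.normalizer (P : Set G)) (hcard : Nat.card L = Nat.card P * Nat.card H)
    (hcop : (Nat.card P).Coprime (Nat.card H)) (hK : Nat.card K = Nat.card H)
    (hsolv : Group.IsSolvable P ∨ Group.IsSolvable H) :
    ∃ g : G, g ∈ L ∧ MulAut.conj g • H = K := by
  have hnormal : (P.subgroupOf L).Normal :=
    (Subgroup.normal_subgroupOf_iff_le_normalizer hPL).mpr hPn
  have hPcard : Nat.card (P.subgroupOf L) = Nat.card P := card_subgroupOf_of_le hPL
  have hindex : (P.subgroupOf L).index = Nat.card H := by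
    have h1 := (P.subgroupOf L).card_mul_index
    rw [hPcard, hcard] at h1
    exact Nat.eq_of_mul_eq_mul_left Nat.card_pos h1
  apply conj_of_conj_subgroupOf hHL hKL
  apply sz_conj_card (P.subgroupOf L) (by rw [hPcard, hindex]; exact hcop)
  · rcases hsolv with h | h
    · exact Or.inl (isSolvable_subgroupOf_of_le hPL h)
    · exact Or.inr (isSolvable_subgroupOf_of_le hHL h)
  · rw [card_subgroupOf_of_le hHL, hindex]
  · rw [card_subgroupOf_of_le hKL, hindex, hK]

/-- Relative Schur–Zassenhaus existence inside a subgroup `L`. -/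
theorem sz_exists_in [Finite G] (L P : Subgroup G) (hPL : P ≤ L)
    (hPn : L ≤ Subgroup.normalizer (P : Set G)) (m : ℕ) (hcard : Nat.card L = Nat.card P * m)
    (hcop : (Nat.card P).Coprime m) :
    ∃ H : Subgroup G, H ≤ L ∧ Nat.card H = m := by
  have hnormal : (P.subgroupOf L).Normal :=
    (Subgroup.normal_subgroupOf_iff_le_normalizer hPL).mpr hPn
  have hPcard : Nat.card (P.subgroupOf L) = Nat.card P := card_subgroupOf_of_le hPL
  have hindex : (P.subgroupOf L).index = m := by
    have h1 := (P.subgroupOf L).card_mul_index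
    rw [hPcard, hcard] at h1
    exact Nat.eq_of_mul_eq_mul_left Nat.card_pos h1
  obtain ⟨H', hH'⟩ := Subgroup.exists_right_complement'_of_coprime
    (N := P.subgroupOf L) (by rw [hPcard, hindex]; exact hcop)
  refine ⟨H'.map L.subtype, Subgroup.map_subtype_le _, ?_⟩
  rw [Subgroup.card_map_of_injective L.subtype_injective, card_eq_index_of_isComplement' hH', hindex]

end Cfsg.Agent.Lib.Helper01
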