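import Mathlib
import Cfsg.Agent.Lib.Helper01.SZRel

set_option autoImplicit false

namespace Cfsg.Agent.Lib.Helper01

open scoped Pointwise

variable {G : Type*} [Group G]

/-- Product formula when `X` normalizes `N`. -/
theorem card_sup_mul_card_inf_of_le_normalizer (N X : Subgroup G)
    (h : X ≤ Subgroup.normalizer (N : Set G)) :
    Nat.card (X ⊔ N : Subgroup G) * Nat.card (N ⊓ X : Subgroup G) = Nat.card N * Nat.card X := by
  set L : Subgroup G := Subgroup.normalizer (N : Set G) with hL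
  have hNL : N ≤ L := Subgroup.le_normalizer
  have hnormal : (N.subgroupOf L).Normal := Subgroup.normal_in_normalizer
  have h1 := card_sup_mul_card_inf (N.subgroupOf L) (X.subgroupOf L)
  rw [← Subgroup.subgroupOf_sup h hNL, card_subgroupOf_of_le (sup_le h hNL),
    card_subgroupOf_of_le hNL, card_subgroupOf_of_le h] at h1
  have h2 : (N.subgroupOf L ⊓ X.subgroupOf L) = (N ⊓ X).subgroupOf L := by
    simp only [Subgroup.subgroupOf, Subgroup.comap_inf]
  rw [h2, card_subgroupOf_of_le (inf_le_left.trans hNL)] at h1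
  exact h1

theorem card_sup_of_coprime_of_le_normalizer (N X : Subgroup G)
    (h : X ≤ Subgroup.normalizer (N : Set G)) (hc : (Nat.card N).Coprime (Nat.card X)) :
    Nat.card (X ⊔ N : Subgroup G) = Nat.card N * Nat.card X := by
  have h1 := card_sup_mul_card_inf_of_le_normalizer N X h
  have h2 : (N ⊓ X : Subgroup G) = ⊥ := (Subgroup.disjoint_of_coprime_natCard hc).eq_bot
  rwa [h2, Subgroup.card_bot, mul_one] at h1

/-- elements of `A ⊔ N` are products `a * n` when `A` normalizes `N` -/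
theorem exists_mul_of_mem_sup {A N : Subgroup G} (h : A ≤ Subgroup.normalizer (N : Set G))
    {x : G} (hx : x ∈ A ⊔ N) : ∃ a ∈ A, ∃ n ∈ N, x = a * n := by
  have : x ∈ ((A ⊔ N : Subgroup G) : Set G) := hx
  rw [Subgroup.coe_mul_of_left_le_normalizer_right A N h] at this
  obtain ⟨a, ha, n, hn, rfl⟩ := this
  exact ⟨a, ha, n, hn, rfl⟩

/-- CA1: a subgroup of `A ⊔ N` of order `|A|` is conjugate to `A` by an element of `N`. -/
theorem conj_by_normal_of_card_eq [Finite G] {A N B : Subgroup G}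
    (hAN : A ≤ Subgroup.normalizer (N : Set G)) (hcop : (Nat.card N).Coprime (Nat.card A))
    (hsolv : Group.IsSolvable N ∨ Group.IsSolvable A) (hB : B ≤ A ⊔ N)
    (hBcard : Nat.card B = Nat.card A) :
    ∃ n ∈ N, MulAut.conj n • B = A := by
  have hcard : Nat.card (A ⊔ N : Subgroup G) = Nat.card N * Nat.card B := by
    rw [hBcard]; exact card_sup_of_coprime_of_le_normalizer N A hAN hcop
  have hnorm : A ⊔ N ≤ Subgroup.normalizer (N : Set G) := sup_le hAN Subgroup.le_normalizer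
  obtain ⟨y, hy, hyB⟩ := sz_conj_in (A ⊔ N) N A B le_sup_right le_sup_left hB hnorm
    (hBcard ▸ hcard) hcop hBcard hsolv
  have hxB : MulAut.conj y⁻¹ • B = A := by
    rw [← hyB, conj_smul_conj_smul, inv_mul_cancel, map_one, one_smul]
  obtain ⟨a, ha, n, hn, hx⟩ := exists_mul_of_mem_sup hAN ((A ⊔ N).inv_mem hy)
  refine ⟨n, hn, ?_⟩
  rw [hx, ← conj_smul_conj_smul] at hxB
  have h2 := congrArg (fun S => MulAut.conj a⁻¹ • S) hxB
  simp only [conj_smul_conj_smul, inv_mul_cancel_left] at h2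
  rw [h2, Subgroup.conj_smul_eq_self_of_mem (A.inv_mem ha)]

/-- CA2: an element of `K` normalizing `A` centralizes `A`, when `A` normalizes `K` and
`K ⊓ A = ⊥`. -/
theorem mem_centralizer_of_conj_smul_eq {A K : Subgroup G}
    (hAK : A ≤ Subgroup.normalizer (K : Set G)) (hdisj : K ⊓ A = ⊥) {c : G} (hc : c ∈ K)
    (hcA : MulAut.conj c • A = A) : c ∈ Subgroup.centralizer (A : Set G) := by
  rw [Subgroup.mem_centralizer_iff]
  intro a ha
  have h1 : c * a * c⁻¹ ∈ A := by
    rw [← hcA]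
    exact ⟨a, ha, rfl⟩
  have h2 : c * a * c⁻¹ * a⁻¹ ∈ A := A.mul_mem h1 (A.inv_mem ha)
  have h3 : c * a * c⁻¹ * a⁻¹ ∈ K := by
    have : a * c⁻¹ * a⁻¹ ∈ K := (Subgroup.mem_normalizer_iff.mp (hAK ha) c⁻¹).mp (K.inv_mem hc)
    have := K.mul_mem hc this
    simpa [mul_assoc] using this
  have h4 : c * a * c⁻¹ * a⁻¹ ∈ K ⊓ A := ⟨h3, h2⟩
  rw [hdisj, Subgroup.mem_bot] at h4
  have : c * a = a * c := by
    calc c * a = (c * a * c⁻¹ * a⁻¹) * (a * c) := by group
      _ = a * c := by rw [h4, one_mul]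
  exact this.symm

/-- CA3: Glauberman's lemma in the form needed: if `A` normalizes `N` coprimely and the coset
`k N` is `A`-invariant, then some `n * k⁻¹` with `n ∈ N` normalizes `A`. -/
theorem exists_mul_inv_normalizes [Finite G] {A N : Subgroup G}
    (hAN : A ≤ Subgroup.normalizer (N : Set G)) (hcop : (Nat.card N).Coprime (Nat.card A))
    (hsolv : Group.IsSolvable N ∨ Group.IsSolvable A) (k : G)
    (hk : ∀ a ∈ A, k⁻¹ * a * k * a⁻¹ ∈ N) :
    ∃ n ∈ N, MulAut.conj (n * k⁻¹) • A = A := by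
  have hB : MulAut.conj k⁻¹ • A ≤ A ⊔ N := by
    rintro _ ⟨a, ha, rfl⟩
    have : (MulAut.conj k⁻¹) a = (k⁻¹ * a * k * a⁻¹) * a := by simp [mul_assoc]
    change (MulAut.conj k⁻¹) a ∈ A ⊔ N
    rw [this, sup_comm]
    exact Subgroup.mul_mem_sup (hk a ha) ha
  obtain ⟨n, hn, hnB⟩ := conj_by_normal_of_card_eq hAN hcop hsolv hB (card_conj_smul _ _)
  exact ⟨n, hn, by rw [← conj_smul_conj_smul, hnB]⟩

end Cfsg.Agent.Lib.Helper01
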