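import Mathlib

set_option autoImplicit false

namespace Cfsg.Agent.Lib.Helper01

variable {G : Type*} [Group G]

/-- In a finite `p`-group a maximal subgroup is normal. -/
theorem IsPGroup_coatom_normal [Finite G] {p : ℕ} [Fact p.Prime] (hG : IsPGroup p G)
    {M : Subgroup G} (hM : IsCoatom M) : M.Normal := by
  have : Group.IsNilpotent G := hG.isNilpotent
  have q := (Group.isNilpotent_of_finite_tfae (G := G)).out 0 2
  exact (q.mp inferInstance) M hM

/-- In a finite `p`-group a maximal subgroup has index `p`. -/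
theorem IsPGroup_coatom_index [Finite G] {p : ℕ} [hp : Fact p.Prime] (hG : IsPGroup p G)
    {M : Subgroup G} (hM : IsCoatom M) : M.index = p := by
  have hMn : M.Normal := IsPGroup_coatom_normal hG hM
  obtain ⟨k, hk⟩ := hG.index M
  have hk0 : k ≠ 0 := by
    rintro rfl
    rw [pow_zero, Subgroup.index_eq_one] at hk
    exact hM.1 hk
  have hcard : Nat.card (G ⧸ M) = p ^ k := by rw [← Subgroup.index_eq_card, hk]
  have hdvd : p ^ 1 ∣ Nat.card (G ⧸ M) := by
    rw [hcard]; exact pow_dvd_pow p (Nat.one_le_iff_ne_zero.mpr hk0)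
  obtain ⟨K, hK⟩ := Sylow.exists_subgroup_card_pow_prime p hdvd
  rw [pow_one] at hK
  have hsurj : Function.Surjective (QuotientGroup.mk' M) := QuotientGroup.mk'_surjective M
  have hle : M ≤ K.comap (QuotientGroup.mk' M) := by
    intro x hx
    rw [Subgroup.mem_comap]
    have : (QuotientGroup.mk' M) x = 1 := by
      rw [QuotientGroup.mk'_apply, QuotientGroup.eq_one_iff]; exact hx
    rw [this]; exact K.one_mem
  have hKtop : K = ⊤ := by
    rcases eq_or_lt_of_le hle with heq | hlt
    · exfalso
      have h1 : K = ⊥ := by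
        rw [← Subgroup.map_comap_eq_self_of_surjective hsurj K, ← heq]
        rw [eq_bot_iff]
        rintro _ ⟨x, hx, rfl⟩
        rw [Subgroup.mem_bot, QuotientGroup.mk'_apply, QuotientGroup.eq_one_iff]
        exact hx
      rw [h1, Subgroup.card_bot] at hK
      exact hp.out.one_lt.ne hK
    · have h2 := hM.2 _ hlt
      rw [← Subgroup.map_comap_eq_self_of_surjective hsurj K, h2]
      exact Subgroup.map_top_of_surjective _ hsurj
  rw [Subgroup.index_eq_card, ← hK, hKtop, Subgroup.card_top]

end Cfsg.Agent.Lib.Helper01
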