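import Mathlib
import Cfsg.Agent.Lib.Helper32.CoprimeDecomp

set_option autoImplicit false

namespace Cfsg.Agent.Lib.Helper01

open SemidirectProduct
open scoped commutatorElement

variable {A G : Type*} [Group A] [Group G] [MulDistribMulAction A G]

/-- The semidirect product attached to an action by automorphisms. -/
abbrev SD (A G : Type*) [Group A] [Group G] [MulDistribMulAction A G] : Type _ :=
  G ⋊[MulDistribMulAction.toMulAut A G] A

/-- The commutator subgroup `[G, A]` of an action, as a subgroup of `G`. -/
def actComm (A G : Type*) [Group A] [Group G] [MulDistribMulAction A G] : Subgroup G :=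
  Subgroup.closure {y : G | ∃ (a : A) (g : G), y = g⁻¹ * a • g}

instance sd_finite [Finite A] [Finite G] : Finite (SD A G) :=
  Finite.of_equiv (G × A) equivProd.symm

theorem sd_conj (a : A) (g : G) :
    (inr a : SD A G) * inl g * inr a⁻¹ = inl (a • g) := by
  rw [← inl_aut]
  rfl

theorem sd_conj' (a : A) (g : G) :
    (inr a : SD A G) * inl g = inl (a • g) * inr a := by
  rw [← sd_conj]
  simp [mul_assoc]

theorem sd_mem_centralizer_iff (g : G) :
    (inl g : SD A G) ∈ Subgroup.centralizer (((inr : A →* SD A G).range : Subgroup (SD A G)) : Set (SD A G))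
      ↔ ∀ a : A, a • g = g := by
  rw [Subgroup.mem_centralizer_iff]
  constructor
  · intro h a
    have h1 := h (inr a) ⟨a, rfl⟩
    rw [sd_conj'] at h1
    exact inl_injective (mul_right_cancel h1)
  · rintro h _ ⟨a, rfl⟩
    rw [sd_conj', h a]

theorem sd_commutator_eq :
    ⁅((inl : G →* SD A G).range : Subgroup (SD A G)), ((inr : A →* SD A G).range : Subgroup (SD A G))⁆
      = (actComm A G).map (inl : G →* SD A G) := by
  rw [actComm, MonoidHom.map_closure]
  apply le_antisymm
  · rw [Subgroup.commutator_le]
    rintro _ ⟨g, rfl⟩ _ ⟨a, rfl⟩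
    apply Subgroup.subset_closure
    refine ⟨g * a • g⁻¹, ⟨a, g⁻¹, by simp⟩, ?_⟩
    rw [commutatorElement_def, map_mul, ← sd_conj]
    simp [mul_assoc]
  · rw [Subgroup.closure_le]
    rintro _ ⟨y, ⟨a, g, rfl⟩, rfl⟩
    have : (inl (g⁻¹ * a • g) : SD A G) = ⁅(inl g⁻¹ : SD A G), inr a⁆ := by
      rw [commutatorElement_def, map_mul, ← sd_conj]
      simp [mul_assoc]
    rw [this]
    exact Subgroup.commutator_mem_commutator ⟨g⁻¹, rfl⟩ ⟨a, rfl⟩

instance sd_range_inl_normal : ((inl : G →* SD A G).range : Subgroup (SD A G)).Normal := by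
  rw [range_inl_eq_ker_rightHom]
  infer_instance

theorem sd_card_range_inl : Nat.card ((inl : G →* SD A G).range) = Nat.card G :=
  Nat.card_congr (MonoidHom.ofInjective inl_injective).symm.toEquiv

theorem sd_card_range_inr : Nat.card ((inr : A →* SD A G).range) = Nat.card A :=
  Nat.card_congr (MonoidHom.ofInjective inr_injective).symm.toEquiv

end Cfsg.Agent.Lib.Helper01
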