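import Cfsg.Agent.Lib.Helper45.AltFreeDefs
import Cfsg.Agent.Lib.Helper67.AltFreeP1

/-!
# K-S2276-III : a single 3-cycle against a full cycle of length divisible by 3
-/

set_option autoImplicit false

namespace Cfsg.Agent.Lib.Helper01.AltFree

open Equiv Equiv.Perm Cfsg.Agent.Lib.Helper45.AltFree

variable {β : Type*} [Fintype β] [DecidableEq β]

/-- abstract version: five distinct consecutive points of `c`. -/
theorem case_three_aux (c : Perm β) (hcs : c.support = Finset.univ)
    (h3 : 3 ∣ Fintype.card β) (x0 x1 x2 x3 x4 : β)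
    (c0 : c x0 = x1) (c1 : c x1 = x2) (c2 : c x2 = x3) (c3 : c x3 = x4)
    (h01 : x0 ≠ x1) (h02 : x0 ≠ x2) (h03 : x0 ≠ x3) (h04 : x0 ≠ x4)
    (h12 : x1 ≠ x2) (h13 : x1 ≠ x3) (h14 : x1 ≠ x4)
    (h23 : x2 ≠ x3) (h24 : x2 ≠ x4) (h34 : x3 ≠ x4) :
    Good 3 c (swap x0 x1 * swap x0 x2) := by
  set y : Perm β := swap x0 x1 * swap x0 x2 with hy
  have y0 : y x0 = x2 := by
    simp [hy, Perm.mul_apply, swap_apply_of_ne_of_ne h02.symm h12.symm]
  have y1 : y x1 = x0 := by
    simp [hy, Perm.mul_apply, swap_apply_of_ne_of_ne h01.symm h12]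
  have y2 : y x2 = x1 := by
    simp [hy, Perm.mul_apply]
  have yfix : ∀ x, x ≠ x0 → x ≠ x1 → x ≠ x2 → y x = x := by
    intro x a b d
    simp [hy, Perm.mul_apply, swap_apply_of_ne_of_ne a d, swap_apply_of_ne_of_ne a b]
  have cmov : ∀ x, c x ≠ x := by
    intro x
    have : x ∈ c.support := by rw [hcs]; exact Finset.mem_univ x
    exact Perm.mem_support.mp this
  refine ⟨?_, ?_⟩
  · -- the product has exactly two fixed points
    rintro ⟨k, hk⟩
    have hpow : (c * y) ^ 3 ^ k = 1 := by rw [← hk]; exact pow_orderOf_eq_one _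
    have hf3 : Fact (Nat.Prime 3) := ⟨Nat.prime_three⟩
    have hmod := Equiv.Perm.card_compl_support_modEq (p := 3) (n := k) hpow
    have hsupp : (c * y).supportᶜ = {x1, x2} := by
      ext x
      simp only [Finset.mem_compl, Perm.mem_support, not_not, Finset.mem_insert,
        Finset.mem_singleton, Perm.mul_apply]
      constructor
      · intro hx
        by_contra hcon
        push Not at hcon
        by_cases hx0 : x = x0
        · subst hx0
          rw [y0, c2] at hx
          exact h03 hx.symm
        · rw [yfix x hx0 hcon.1 hcon.2] at hx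
          exact cmov x hx
      · rintro (rfl | rfl)
        · rw [y1, c0]
        · rw [y2, c1]
    rw [hsupp, Finset.card_pair h12] at hmod
    have h0 : Fintype.card β ≡ 0 [MOD 3] := (Nat.modEq_zero_iff_dvd).mpr h3
    have := hmod.trans h0
    exact absurd this (by decide)
  · -- two 3-cycles sharing one point
    set H : Subgroup (Perm β) := Subgroup.closure ({c, y} : Set (Perm β)) with hH
    have hcH : c ∈ H := Subgroup.subset_closure (by simp)
    have hyH : y ∈ H := Subgroup.subset_closure (by simp)
    set y' : Perm β := c * c * y * c⁻¹ * c⁻¹ with hy'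
    have hy'H : y' ∈ H :=
      H.mul_mem (H.mul_mem (H.mul_mem (H.mul_mem hcH hcH) hyH) (H.inv_mem hcH)) (H.inv_mem hcH)
    have ci1 : c⁻¹ x1 = x0 := by rw [← c0]; simp
    have ci2 : c⁻¹ x2 = x1 := by rw [← c1]; simp
    have ci3 : c⁻¹ x3 = x2 := by rw [← c2]; simp
    have ci4 : c⁻¹ x4 = x3 := by rw [← c3]; simp
    have y'2 : y' x2 = x4 := by
      simp [hy', Perm.mul_apply, ci2, ci1, y0, c2, c3]
    have y'4 : y' x4 = x3 := by
      simp [hy', Perm.mul_apply, ci4, ci3, y2, c1, c2]
    have y'3 : y' x3 = x2 := by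
      simp [hy', Perm.mul_apply, ci3, ci2, y1, c0, c1]
    -- y' fixes x0 and x1
    have y'fix : ∀ x, x ≠ x2 → x ≠ x3 → x ≠ x4 → y' x = x := by
      intro x a b d
      have hw : y (c⁻¹ (c⁻¹ x)) = c⁻¹ (c⁻¹ x) := by
        apply yfix
        · intro h
          apply a
          have : x = c (c x0) := by rw [← h]; simp
          rw [this, c0, c1]
        · intro h
          apply b
          have : x = c (c x1) := by rw [← h]; simp
          rw [this, c1, c2]
        · intro h
          apply d
          have : x = c (c x2) := by rw [← h]; simp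
          rw [this, c2, c3]
      show c (c (y (c⁻¹ (c⁻¹ x)))) = x
      rw [hw]
      simp
    have y'0 : y' x0 = x0 := y'fix x0 h02 h03 h04
    have y'1 : y' x1 = x1 := y'fix x1 h12 h13 h14
    have y3 : y x3 = x3 := yfix x3 h03.symm h13.symm h23.symm
    have y4 : y x4 = x4 := yfix x4 h04.symm h14.symm h24.symm
    let v : Fin 5 → β := ![x1, x0, x2, x4, x3]
    have hv : Function.Injective v := by
      intro i j hij
      fin_cases i <;> fin_cases j <;> simp_all [v]
    exact Cfsg.Agent.Lib.Helper67.AltFree.not_solvable_of_local_three_cycles H y y' hyH hy'H v hv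
      (by simpa [v] using y1) (by simpa [v] using y0) (by simpa [v] using y2)
      (by simpa [v] using y4) (by simpa [v] using y3)
      (by simpa [v] using y'1) (by simpa [v] using y'0) (by simpa [v] using y'2)
      (by simpa [v] using y'4) (by simpa [v] using y'3)

theorem case_three (c : Perm β) (hc : c.IsCycle) (hcs : c.support = Finset.univ)
    (h3 : 3 ∣ Fintype.card β) (h5 : 5 ≤ Fintype.card β) (r : β) :
    Good 3 c (swap r (c r) * swap r ((c ^ 2) r)) := by
  have hne : ∀ {i j : ℕ}, i < 5 → j < 5 → i ≠ j → (c ^ i) r ≠ (c ^ j) r := fun hi hj hij =>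
    pow_apply_ne c hc hcs r (by omega) (by omega) hij
  have e0 : (c ^ 0) r = r := by simp
  have e1 : (c ^ 1) r = c r := by simp
  have s : ∀ i : ℕ, c ((c ^ i) r) = (c ^ (i + 1)) r := by
    intro i
    rw [pow_succ', Perm.mul_apply]
  have key := case_three_aux c hcs h3 ((c ^ 0) r) ((c ^ 1) r) ((c ^ 2) r) ((c ^ 3) r) ((c ^ 4) r)
    (s 0) (s 1) (s 2) (s 3)
    (hne (by omega) (by omega) (by omega)) (hne (by omega) (by omega) (by omega))
    (hne (by omega) (by omega) (by omega)) (hne (by omega) (by omega) (by omega))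
    (hne (by omega) (by omega) (by omega)) (hne (by omega) (by omega) (by omega))
    (hne (by omega) (by omega) (by omega)) (hne (by omega) (by omega) (by omega))
    (hne (by omega) (by omega) (by omega)) (hne (by omega) (by omega) (by omega))
  rwa [e0, e1] at key

end Cfsg.Agent.Lib.Helper01.AltFree
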