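import Cfsg.Agent.Lib.Helper45.AltFreeDefs
import Cfsg.Agent.Lib.Helper67.AltFreeP1

/-!
# K-S2276-RES7 : two full cycles of odd length at least 7, even conjugator
-/

set_option autoImplicit false

namespace Cfsg.Agent.Lib.Helper01.AltFree

open Equiv Equiv.Perm Cfsg.Agent.Lib.Helper45.AltFree

variable {β : Type*} [Fintype β] [DecidableEq β]

/-- a permutation interchanging two distinct points has even order. -/
theorem not_isPE_of_swaps (z : Perm β) (a b : β) (hab : z a = b) (hba : z b = a) (hne : a ≠ b)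
    (p : ℕ) (hp2 : Odd p) : ¬ IsPE p z := by
  rintro ⟨k, hk⟩
  have hodd : Odd (p ^ k) := hp2.pow
  obtain ⟨m, hm⟩ := hodd
  have h2 : (z ^ 2) a = a := by
    rw [pow_two, Perm.mul_apply, hab, hba]
  have h1 : (z ^ (p ^ k)) a = b := by
    rw [hm, pow_succ, pow_mul, Perm.mul_apply, hab]
    have h2b : (z ^ 2) b = b := by
      rw [pow_two, Perm.mul_apply, hba, hab]
    exact Equiv.Perm.pow_apply_eq_self_of_apply_eq_self h2b m
  have h3 : z ^ (p ^ k) = 1 := by rw [← hk]; exact pow_orderOf_eq_one z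
  rw [h3] at h1
  exact hne h1

/-- abstract version with named points `x i`. -/
theorem res_even_aux (c : Perm β) (x : ℕ → β) (hcx : ∀ i, c (x i) = x (i + 1))
    (D : ∀ i j : ℕ, (i ≤ 10 ∧ j ≤ 10 ∧ i ≠ j ∧ i + 7 ≠ j ∧ j + 7 ≠ i ∧ i + 9 ≠ j ∧ j + 9 ≠ i) →
      x i ≠ x j) (p : ℕ) (hp2 : Odd p) :
    Good p c ((swap (x 1) (x 3) * swap (x 4) (x 6)) * c⁻¹ *
      (swap (x 1) (x 3) * swap (x 4) (x 6))⁻¹) := by
  have n1_2 : x 1 ≠ x 2 := D 1 2 (by omega)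
  have n1_3 : x 1 ≠ x 3 := D 1 3 (by omega)
  have n1_4 : x 1 ≠ x 4 := D 1 4 (by omega)
  have n1_5 : x 1 ≠ x 5 := D 1 5 (by omega)
  have n1_6 : x 1 ≠ x 6 := D 1 6 (by omega)
  have n1_7 : x 1 ≠ x 7 := D 1 7 (by omega)
  have n2_1 : x 2 ≠ x 1 := D 2 1 (by omega)
  have n2_3 : x 2 ≠ x 3 := D 2 3 (by omega)
  have n2_4 : x 2 ≠ x 4 := D 2 4 (by omega)
  have n2_5 : x 2 ≠ x 5 := D 2 5 (by omega)
  have n2_6 : x 2 ≠ x 6 := D 2 6 (by omega)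
  have n2_7 : x 2 ≠ x 7 := D 2 7 (by omega)
  have n3_1 : x 3 ≠ x 1 := D 3 1 (by omega)
  have n3_2 : x 3 ≠ x 2 := D 3 2 (by omega)
  have n3_4 : x 3 ≠ x 4 := D 3 4 (by omega)
  have n3_5 : x 3 ≠ x 5 := D 3 5 (by omega)
  have n3_6 : x 3 ≠ x 6 := D 3 6 (by omega)
  have n3_7 : x 3 ≠ x 7 := D 3 7 (by omega)
  have n4_1 : x 4 ≠ x 1 := D 4 1 (by omega)
  have n4_2 : x 4 ≠ x 2 := D 4 2 (by omega)
  have n4_3 : x 4 ≠ x 3 := D 4 3 (by omega)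
  have n4_5 : x 4 ≠ x 5 := D 4 5 (by omega)
  have n4_6 : x 4 ≠ x 6 := D 4 6 (by omega)
  have n4_7 : x 4 ≠ x 7 := D 4 7 (by omega)
  have n5_1 : x 5 ≠ x 1 := D 5 1 (by omega)
  have n5_2 : x 5 ≠ x 2 := D 5 2 (by omega)
  have n5_3 : x 5 ≠ x 3 := D 5 3 (by omega)
  have n5_4 : x 5 ≠ x 4 := D 5 4 (by omega)
  have n5_6 : x 5 ≠ x 6 := D 5 6 (by omega)
  have n5_7 : x 5 ≠ x 7 := D 5 7 (by omega)
  have n6_1 : x 6 ≠ x 1 := D 6 1 (by omega)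
  have n6_2 : x 6 ≠ x 2 := D 6 2 (by omega)
  have n6_3 : x 6 ≠ x 3 := D 6 3 (by omega)
  have n6_4 : x 6 ≠ x 4 := D 6 4 (by omega)
  have n6_5 : x 6 ≠ x 5 := D 6 5 (by omega)
  have n6_7 : x 6 ≠ x 7 := D 6 7 (by omega)
  have n7_1 : x 7 ≠ x 1 := D 7 1 (by omega)
  have n7_2 : x 7 ≠ x 2 := D 7 2 (by omega)
  have n7_3 : x 7 ≠ x 3 := D 7 3 (by omega)
  have n7_4 : x 7 ≠ x 4 := D 7 4 (by omega)
  have n7_5 : x 7 ≠ x 5 := D 7 5 (by omega)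
  have n7_6 : x 7 ≠ x 6 := D 7 6 (by omega)
  have n2_8 : x 2 ≠ x 8 := D 2 8 (by omega)
  have n2_10 : x 2 ≠ x 10 := D 2 10 (by omega)
  have n4_8 : x 4 ≠ x 8 := D 4 8 (by omega)
  have n4_10 : x 4 ≠ x 10 := D 4 10 (by omega)
  have n6_8 : x 6 ≠ x 8 := D 6 8 (by omega)
  have n6_10 : x 6 ≠ x 10 := D 6 10 (by omega)
  have n8_2 : x 8 ≠ x 2 := D 8 2 (by omega)
  have n8_4 : x 8 ≠ x 4 := D 8 4 (by omega)
  have n8_6 : x 8 ≠ x 6 := D 8 6 (by omega)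
  have n8_10 : x 8 ≠ x 10 := D 8 10 (by omega)
  have n10_2 : x 10 ≠ x 2 := D 10 2 (by omega)
  have n10_4 : x 10 ≠ x 4 := D 10 4 (by omega)
  have n10_6 : x 10 ≠ x 6 := D 10 6 (by omega)
  have n10_8 : x 10 ≠ x 8 := D 10 8 (by omega)
  set y' : Perm β := (swap (x 1) (x 3) * swap (x 4) (x 6)) * c⁻¹ *
      (swap (x 1) (x 3) * swap (x 4) (x 6))⁻¹ with hy'
  set z : Perm β := c * y' with hz
  have e1 : c * swap (x 1) (x 3) * c⁻¹ = swap (x 2) (x 4) := by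
    rw [← Equiv.swap_apply_apply, hcx, hcx]
  have e2 : c * swap (x 4) (x 6) * c⁻¹ = swap (x 5) (x 7) := by
    rw [← Equiv.swap_apply_apply, hcx, hcx]
  have hzeq : z = swap (x 2) (x 4) * swap (x 5) (x 7) * (swap (x 4) (x 6) * swap (x 1) (x 3)) := by
    rw [← e1, ← e2, hz, hy', mul_inv_rev, swap_inv, swap_inv]
    group
  have zval : ∀ t, z t = swap (x 2) (x 4) (swap (x 5) (x 7) (swap (x 4) (x 6) (swap (x 1) (x 3) t))) := by
    intro t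
    rw [hzeq]
    simp [Perm.mul_apply]
  have z1 : z (x 1) = x 3 := by
    rw [zval]
    simp [swap_apply_of_ne_of_ne, n1_2, n1_3, n1_4, n1_5, n1_6, n1_7, n2_1, n2_3, n2_4, n2_5, n2_6, n2_7, n3_1, n3_2, n3_4, n3_5, n3_6, n3_7, n4_1, n4_2, n4_3, n4_5, n4_6, n4_7, n5_1, n5_2, n5_3, n5_4, n5_6, n5_7, n6_1, n6_2, n6_3, n6_4, n6_5, n6_7, n7_1, n7_2, n7_3, n7_4, n7_5, n7_6, n2_8, n2_10, n4_8, n4_10, n6_8, n6_10, n8_2, n8_4, n8_6, n8_10, n10_2, n10_4, n10_6, n10_8]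
  have z3 : z (x 3) = x 1 := by
    rw [zval]
    simp [swap_apply_of_ne_of_ne, n1_2, n1_3, n1_4, n1_5, n1_6, n1_7, n2_1, n2_3, n2_4, n2_5, n2_6, n2_7, n3_1, n3_2, n3_4, n3_5, n3_6, n3_7, n4_1, n4_2, n4_3, n4_5, n4_6, n4_7, n5_1, n5_2, n5_3, n5_4, n5_6, n5_7, n6_1, n6_2, n6_3, n6_4, n6_5, n6_7, n7_1, n7_2, n7_3, n7_4, n7_5, n7_6, n2_8, n2_10, n4_8, n4_10, n6_8, n6_10, n8_2, n8_4, n8_6, n8_10, n10_2, n10_4, n10_6, n10_8]
  have z2 : z (x 2) = x 4 := by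
    rw [zval]
    simp [swap_apply_of_ne_of_ne, n1_2, n1_3, n1_4, n1_5, n1_6, n1_7, n2_1, n2_3, n2_4, n2_5, n2_6, n2_7, n3_1, n3_2, n3_4, n3_5, n3_6, n3_7, n4_1, n4_2, n4_3, n4_5, n4_6, n4_7, n5_1, n5_2, n5_3, n5_4, n5_6, n5_7, n6_1, n6_2, n6_3, n6_4, n6_5, n6_7, n7_1, n7_2, n7_3, n7_4, n7_5, n7_6, n2_8, n2_10, n4_8, n4_10, n6_8, n6_10, n8_2, n8_4, n8_6, n8_10, n10_2, n10_4, n10_6, n10_8]
  have z4 : z (x 4) = x 6 := by
    rw [zval]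
    simp [swap_apply_of_ne_of_ne, n1_2, n1_3, n1_4, n1_5, n1_6, n1_7, n2_1, n2_3, n2_4, n2_5, n2_6, n2_7, n3_1, n3_2, n3_4, n3_5, n3_6, n3_7, n4_1, n4_2, n4_3, n4_5, n4_6, n4_7, n5_1, n5_2, n5_3, n5_4, n5_6, n5_7, n6_1, n6_2, n6_3, n6_4, n6_5, n6_7, n7_1, n7_2, n7_3, n7_4, n7_5, n7_6, n2_8, n2_10, n4_8, n4_10, n6_8, n6_10, n8_2, n8_4, n8_6, n8_10, n10_2, n10_4, n10_6, n10_8]
  have z6 : z (x 6) = x 2 := by
    rw [zval]
    simp [swap_apply_of_ne_of_ne, n1_2, n1_3, n1_4, n1_5, n1_6, n1_7, n2_1, n2_3, n2_4, n2_5, n2_6, n2_7, n3_1, n3_2, n3_4, n3_5, n3_6, n3_7, n4_1, n4_2, n4_3, n4_5, n4_6, n4_7, n5_1, n5_2, n5_3, n5_4, n5_6, n5_7, n6_1, n6_2, n6_3, n6_4, n6_5, n6_7, n7_1, n7_2, n7_3, n7_4, n7_5, n7_6, n2_8, n2_10, n4_8, n4_10, n6_8, n6_10, n8_2, n8_4, n8_6, n8_10, n10_2, n10_4, n10_6, n10_8]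
  have z5 : z (x 5) = x 7 := by
    rw [zval]
    simp [swap_apply_of_ne_of_ne, n1_2, n1_3, n1_4, n1_5, n1_6, n1_7, n2_1, n2_3, n2_4, n2_5, n2_6, n2_7, n3_1, n3_2, n3_4, n3_5, n3_6, n3_7, n4_1, n4_2, n4_3, n4_5, n4_6, n4_7, n5_1, n5_2, n5_3, n5_4, n5_6, n5_7, n6_1, n6_2, n6_3, n6_4, n6_5, n6_7, n7_1, n7_2, n7_3, n7_4, n7_5, n7_6, n2_8, n2_10, n4_8, n4_10, n6_8, n6_10, n8_2, n8_4, n8_6, n8_10, n10_2, n10_4, n10_6, n10_8]
  have z7 : z (x 7) = x 5 := by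
    rw [zval]
    simp [swap_apply_of_ne_of_ne, n1_2, n1_3, n1_4, n1_5, n1_6, n1_7, n2_1, n2_3, n2_4, n2_5, n2_6, n2_7, n3_1, n3_2, n3_4, n3_5, n3_6, n3_7, n4_1, n4_2, n4_3, n4_5, n4_6, n4_7, n5_1, n5_2, n5_3, n5_4, n5_6, n5_7, n6_1, n6_2, n6_3, n6_4, n6_5, n6_7, n7_1, n7_2, n7_3, n7_4, n7_5, n7_6, n2_8, n2_10, n4_8, n4_10, n6_8, n6_10, n8_2, n8_4, n8_6, n8_10, n10_2, n10_4, n10_6, n10_8]
  have zfix : ∀ t, t ≠ x 1 → t ≠ x 2 → t ≠ x 3 → t ≠ x 4 → t ≠ x 5 → t ≠ x 6 → t ≠ x 7 →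
      z t = t := by
    intro t t1 t2 t3 t4 t5 t6 t7
    rw [zval]
    simp [swap_apply_of_ne_of_ne, t1, t2, t3, t4, t5, t6, t7]
  refine ⟨not_isPE_of_swaps z (x 1) (x 3) z1 z3 n1_3 p hp2, ?_⟩
  set H : Subgroup (Perm β) := Subgroup.closure ({c, y'} : Set (Perm β)) with hH
  have hcH : c ∈ H := Subgroup.subset_closure (by simp)
  have hyH : y' ∈ H := Subgroup.subset_closure (by simp)
  have hzH : z ∈ H := H.mul_mem hcH hyH
  set f : Perm β := z * z with hf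
  have hfH : f ∈ H := H.mul_mem hzH hzH
  have f2 : f (x 2) = x 6 := by rw [hf, Perm.mul_apply, z2, z4]
  have f6 : f (x 6) = x 4 := by rw [hf, Perm.mul_apply, z6, z2]
  have f4 : f (x 4) = x 2 := by rw [hf, Perm.mul_apply, z4, z6]
  have ffix : ∀ t, t ≠ x 2 → t ≠ x 4 → t ≠ x 6 → f t = t := by
    intro t t2 t4 t6
    rw [hf, Perm.mul_apply]
    by_cases t1 : t = x 1
    · rw [t1, z1, z3]
    by_cases t3 : t = x 3
    · rw [t3, z3, z1]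
    by_cases t5 : t = x 5
    · rw [t5, z5, z7]
    by_cases t7 : t = x 7
    · rw [t7, z7, z5]
    rw [zfix t t1 t2 t3 t4 t5 t6 t7, zfix t t1 t2 t3 t4 t5 t6 t7]
  have hc4 : ∀ i, (c * c * c * c) (x i) = x (i + 4) := by
    intro i
    simp only [Perm.mul_apply, hcx]
  have hc4i : ∀ i, (c * c * c * c)⁻¹ (x (i + 4)) = x i := by
    intro i
    rw [← hc4 i]
    simp
  set g : Perm β := (c * c * c * c) * f * (c * c * c * c)⁻¹ with hg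
  have hc4H : c * c * c * c ∈ H := H.mul_mem (H.mul_mem (H.mul_mem hcH hcH) hcH) hcH
  have hgH : g ∈ H := H.mul_mem (H.mul_mem hc4H hfH) (H.inv_mem hc4H)
  have g6 : g (x 6) = x 10 := by
    show (c * c * c * c) (f ((c * c * c * c)⁻¹ (x (2 + 4)))) = x 10
    rw [hc4i, f2, hc4]
  have g10 : g (x 10) = x 8 := by
    show (c * c * c * c) (f ((c * c * c * c)⁻¹ (x (6 + 4)))) = x 8
    rw [hc4i, f6, hc4]
  have g8 : g (x 8) = x 6 := by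
    show (c * c * c * c) (f ((c * c * c * c)⁻¹ (x (4 + 4)))) = x 6
    rw [hc4i, f4, hc4]
  have gfix : ∀ t, t ≠ x 6 → t ≠ x 8 → t ≠ x 10 → g t = t := by
    intro t t6 t8 t10
    show (c * c * c * c) (f ((c * c * c * c)⁻¹ t)) = t
    have hw : f ((c * c * c * c)⁻¹ t) = (c * c * c * c)⁻¹ t := by
      apply ffix
      · intro h
        apply t6
        have : t = (c * c * c * c) (x 2) := by rw [← h]; simp
        rw [this, hc4]
      · intro h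
        apply t8
        have : t = (c * c * c * c) (x 4) := by rw [← h]; simp
        rw [this, hc4]
      · intro h
        apply t10
        have : t = (c * c * c * c) (x 6) := by rw [← h]; simp
        rw [this, hc4]
    rw [hw]
    simp
  let v : Fin 5 → β := ![x 4, x 2, x 6, x 10, x 8]
  have hv : Function.Injective v := by
    intro i j hij
    fin_cases i <;> fin_cases j <;> simp_all [v]
  exact Cfsg.Agent.Lib.Helper67.AltFree.not_solvable_of_local_three_cycles H f g hfH hgH v hv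
    (by simpa [v] using f4) (by simpa [v] using f2) (by simpa [v] using f6)
    (by simpa [v] using ffix (x 10) n10_2 n10_4 n10_6)
    (by simpa [v] using ffix (x 8) n8_2 n8_4 n8_6)
    (by simpa [v] using gfix (x 4) n4_6 n4_8 n4_10)
    (by simpa [v] using gfix (x 2) n2_6 n2_8 n2_10)
    (by simpa [v] using g6) (by simpa [v] using g10) (by simpa [v] using g8)

theorem res_even (c : Perm β) (hc : c.IsCycle) (hcs : c.support = Finset.univ)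
    (hodd : Odd (Fintype.card β)) (h7 : 7 ≤ Fintype.card β) (r : β) (p : ℕ) (hp2 : Odd p) :
    Good p c ((swap (c r) ((c ^ 3) r) * swap ((c ^ 4) r) ((c ^ 6) r)) * c⁻¹ *
      (swap (c r) ((c ^ 3) r) * swap ((c ^ 4) r) ((c ^ 6) r))⁻¹) := by
  have hnd : ∀ d : ℕ, 0 < d → d ≤ 10 → d ≠ 7 → d ≠ 9 → ¬ Fintype.card β ∣ d := by
    intro d hd0 hd10 hd7 hd9 hdvd
    obtain ⟨k, hk⟩ := hdvd
    obtain ⟨m, hm⟩ := hodd
    rcases k with _ | _ | k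
    · omega
    · omega
    · nlinarith
  have D : ∀ i j : ℕ, (i ≤ 10 ∧ j ≤ 10 ∧ i ≠ j ∧ i + 7 ≠ j ∧ j + 7 ≠ i ∧ i + 9 ≠ j ∧ j + 9 ≠ i) →
      (fun i : ℕ => (c ^ i) r) i ≠ (fun i : ℕ => (c ^ i) r) j := by
    intro i j h hij
    change (c ^ i) r = (c ^ j) r at hij
    rw [pow_apply_eq_iff c hc hcs] at hij
    rcases Nat.lt_or_gt_of_ne h.2.2.1 with hlt | hlt
    · have := (Nat.modEq_iff_dvd' hlt.le).mp hij
      exact hnd (j - i) (by omega) (by omega) (by omega) (by omega) this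
    · have := (Nat.modEq_iff_dvd' hlt.le).mp hij.symm
      exact hnd (i - j) (by omega) (by omega) (by omega) (by omega) this
  have key := res_even_aux c (fun i : ℕ => (c ^ i) r)
    (fun i => by change c ((c ^ i) r) = (c ^ (i + 1)) r; rw [pow_succ', Perm.mul_apply]) D p hp2
  simpa using key

end Cfsg.Agent.Lib.Helper01.AltFree
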