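import Mathlib

/-!
# S1421 leaf (X): a pure exponent lemma

If `E₀ ≤ E` (finite) and the order of every element of prime power order of `E` divides the
exponent of `E₀`, then `E₀` and `E` have the same exponent.
-/

namespace Cfsg.Agent.Lib.Helper01.ExponentX

universe u

/-- Order of every element divides `n` as soon as the order of every element of prime
power order does. -/
theorem orderOf_dvd_of_primePow {E : Type u} [Group E] [Finite E] (n : ℕ)
    (h : ∀ g : E, ∀ p k : ℕ, p.Prime → orderOf g = p ^ k → p ^ k ∣ n) (g : E) :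
    orderOf g ∣ n := by
  rw [Nat.dvd_iff_prime_pow_dvd_dvd]
  intro p k hp hpk
  have hpos : 0 < orderOf g := orderOf_pos g
  obtain ⟨m, hm⟩ := hpk
  have hm0 : m ≠ 0 := by
    rintro rfl
    rw [Nat.mul_zero] at hm
    omega
  have hdvd : m ∣ orderOf g := ⟨p ^ k, by rw [hm]; ring⟩
  have hord : orderOf (g ^ m) = p ^ k := by
    rw [orderOf_pow_of_dvd hm0 hdvd, hm]
    exact Nat.mul_div_cancel _ (Nat.pos_of_ne_zero hm0)
  exact h (g ^ m) p k hp hord

/-- Leaf (X). -/
theorem exponent_eq_of_primePow {E : Type u} [Group E] [Finite E] (E₀ : Subgroup E)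
    (h : ∀ g : E, ∀ p k : ℕ, p.Prime → orderOf g = p ^ k → p ^ k ∣ Monoid.exponent E₀) :
    Monoid.exponent E₀ = Monoid.exponent E := by
  apply Nat.dvd_antisymm
  · exact Monoid.exponent_dvd_of_monoidHom E₀.subtype E₀.subtype_injective
  · rw [Monoid.exponent_dvd_iff_forall_pow_eq_one]
    intro g
    exact orderOf_dvd_iff_pow_eq_one.mp (orderOf_dvd_of_primePow _ h g)

/-- Variant with the hypothesis restricted to elements `g ∈ E'` of a subgroup `E'`
(the ambient group being `G`): `E₀ ≤ E'`, conclusion about the exponents of the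
subgroups as groups. -/
theorem exponent_subgroup_eq_of_primePow {G : Type u} [Group G] [Finite G]
    (E₀ E' : Subgroup G) (hle : E₀ ≤ E')
    (h : ∀ g ∈ E', ∀ p k : ℕ, p.Prime → orderOf g = p ^ k → p ^ k ∣ Monoid.exponent E₀) :
    Monoid.exponent E₀ = Monoid.exponent E' := by
  apply Nat.dvd_antisymm
  · exact Monoid.exponent_dvd_of_monoidHom (Subgroup.inclusion hle)
      (Subgroup.inclusion_injective hle)
  · rw [Monoid.exponent_dvd_iff_forall_pow_eq_one]
    intro g
    apply orderOf_dvd_iff_pow_eq_one.mp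
    apply orderOf_dvd_of_primePow (E := E') _ _ g
    intro x p k hp hx
    apply h (x : G) x.2 p k hp
    rw [← hx, Subgroup.orderOf_coe]

end Cfsg.Agent.Lib.Helper01.ExponentX
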