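import Cfsg.Agent.Lib.Helper01.CyclicLift
import Cfsg.Agent.Lib.Helper01.ExponentX

/-!
# S1421 pack: leaves (Y) and (X) with the EXACT signatures of `notes/S1421_keystones.lean.txt`
-/

namespace Cfsg.Agent.Lib.Helper01.BG1211

variable {G : Type*} [Group G] [Finite G]

/-- **(Y)** `S` abelian `p`-group, `H` a `p'`-group normalizing `S` and a subgroup `X₀ ≤ S` of
order `p` that contains a non-identity `(exp S / p)`-th power.  Then there is an `H`-invariant
CYCLIC `Y ≤ S` of order `exp S` containing `X₀`. -/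
theorem exists_cyclic_invariant {p : ℕ} [Fact p.Prime] (S H X₀ : Subgroup G)
    (hSp : IsPGroup p S) (hSab : ∀ x ∈ S, ∀ y ∈ S, x * y = y * x)
    (hHS : H ≤ Subgroup.normalizer (S : Set G)) (hHp : ¬ p ∣ Nat.card H)
    (hX₀S : X₀ ≤ S) (hX₀ : Nat.card X₀ = p) (hHX₀ : H ≤ Subgroup.normalizer (X₀ : Set G))
    (s : G) (hs : s ∈ S) (hs1 : s ^ (Monoid.exponent S / p) ≠ 1)
    (hsX : s ^ (Monoid.exponent S / p) ∈ X₀) :
    ∃ Y : Subgroup G, Y ≤ S ∧ IsCyclic Y ∧ H ≤ Subgroup.normalizer (Y : Set G) ∧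
      Nat.card Y = Monoid.exponent S ∧ X₀ ≤ Y := by
  have hp : p.Prime := Fact.out
  have hcomm : IsMulCommutative S :=
    ⟨⟨fun a b => Subtype.ext (hSab a a.2 b b.2)⟩⟩
  -- the exponent is a power of `p`
  obtain ⟨n, hn⟩ := IsPGroup.iff_card.mp hSp
  have hdvd : Monoid.exponent S ∣ p ^ n := by
    rw [← hn]; exact Group.exponent_dvd_nat_card
  obtain ⟨a, -, ha⟩ := (Nat.dvd_prime_pow hp).mp hdvd
  -- `a ≥ 1`, else `s ^ (1 / p) = s ^ 0 = 1`
  have ha1 : 1 ≤ a := by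
    by_contra hcon
    have ha0 : a = 0 := by omega
    apply hs1
    rw [ha, ha0, pow_zero, Nat.div_eq_of_lt hp.one_lt, pow_zero]
  have hdiv : Monoid.exponent S / p = p ^ (a - 1) := by
    rw [ha]
    have : a = (a - 1) + 1 := by omega
    conv_lhs => rw [this, pow_succ]
    exact Nat.mul_div_cancel _ hp.pos
  have hexp : ∀ x ∈ S, x ^ p ^ a = 1 := by
    intro x hx
    have := Monoid.pow_exponent_eq_one (⟨x, hx⟩ : S)
    rw [ha] at this
    simpa using congrArg Subtype.val this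
  rw [hdiv] at hs1 hsX
  obtain ⟨Y, h1, h2, h3, h4, h5⟩ :=
    Cfsg.Agent.Lib.Helper01.CyclicLift.exists_cyclic_invariant p a S H X₀ hexp ha1 hHS hHp hX₀S
      hX₀ hHX₀ ⟨s, hs, hsX, hs1⟩
  exact ⟨Y, h1, h2, h3, by rw [h4, ha], h5⟩

/-- **(X)** exponent lemma with the spec's argument order. -/
theorem exponent_eq_of_primePow (E E₀ : Subgroup G) (hle : E₀ ≤ E)
    (hpp : ∀ g ∈ E, ∀ (p k : ℕ), p.Prime → orderOf g = p ^ k → p ^ k ∣ Monoid.exponent E₀) :
    Monoid.exponent E₀ = Monoid.exponent E :=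
  Cfsg.Agent.Lib.Helper01.ExponentX.exponent_subgroup_eq_of_primePow E₀ E hle hpp

end Cfsg.Agent.Lib.Helper01.BG1211
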