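import Mathlib
import Cfsg.Agent.Lib.Helper01.Basic

set_option autoImplicit false

namespace Cfsg.Agent.Lib.Helper01

open scoped Pointwise commutatorElement

variable {G : Type*} [Group G]

theorem conj_commutatorElement_left (x k a : G) :
    x * ⁅k, a⁆ * x⁻¹ = ⁅x * k, a⁆ * ⁅x, a⁆⁻¹ := by
  simp only [commutatorElement_def]; group

/-- `⁅H₁, H₂⁆` is normalized by `H₁`. -/
theorem le_normalizer_commutator_left (H₁ H₂ : Subgroup G) :
    H₁ ≤ Subgroup.normalizer ((⁅H₁, H₂⁆ : Subgroup G) : Set G) := by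
  have key : ∀ x ∈ H₁, MulAut.conj x • ⁅H₁, H₂⁆ ≤ ⁅H₁, H₂⁆ := by
    intro x hx
    rw [Subgroup.commutator_def, Subgroup.smul_closure, Subgroup.closure_le]
    rintro _ ⟨_, ⟨k, hk, a, ha, rfl⟩, rfl⟩
    change (MulAut.conj x) ⁅k, a⁆ ∈ Subgroup.closure _
    rw [MulAut.conj_apply, conj_commutatorElement_left, ← Subgroup.commutator_def]
    exact Subgroup.mul_mem _ (Subgroup.commutator_mem_commutator (H₁.mul_mem hx hk) ha)
      (Subgroup.inv_mem _ (Subgroup.commutator_mem_commutator hx ha))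
  rw [le_normalizer_iff_conj_smul]
  intro x hx
  apply le_antisymm (key x hx)
  have := key x⁻¹ (H₁.inv_mem hx)
  rw [Subgroup.pointwise_smul_subset_iff, map_inv, inv_inv] at this
  exact this

theorem le_normalizer_commutator_right (H₁ H₂ : Subgroup G) :
    H₂ ≤ Subgroup.normalizer ((⁅H₁, H₂⁆ : Subgroup G) : Set G) := by
  rw [Subgroup.commutator_comm]
  exact le_normalizer_commutator_left H₂ H₁

end Cfsg.Agent.Lib.Helper01
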