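import Mathlib

set_option autoImplicit false

namespace Cfsg.Agent.Lib.Helper01

/-- In a finite cyclic group, an element killed by `p` lies in the subgroup generated by any
element of order `p`. -/
theorem mem_zpowers_of_isCyclic {H : Type*} [Group H] [Finite H] [IsCyclic H] {p : ℕ} (hp : 0 < p)
    (z c : H) (hz : orderOf z = p) (hc : c ^ p = 1) : c ∈ Subgroup.zpowers z := by
  classical
  letI : Fintype H := Fintype.ofFinite H
  have h1 := IsCyclic.card_pow_eq_one_le (α := H) hp
  set F := Finset.univ.filter (fun a : H => a ^ p = 1) with hF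
  set Z := Finset.univ.filter (fun a : H => a ∈ Subgroup.zpowers z) with hZ
  have hZF : Z ⊆ F := by
    intro x hx
    simp only [hZ, hF, Finset.mem_filter, Finset.mem_univ, true_and] at hx ⊢
    obtain ⟨k, rfl⟩ := hx
    rw [← zpow_natCast, ← zpow_mul, mul_comm, zpow_mul, zpow_natCast, ← hz, pow_orderOf_eq_one,
      one_zpow]
  have hZcard : Z.card = p := by
    rw [hZ, ← Fintype.card_subtype, ← hz]
    exact Fintype.card_zpowers
  have hEq : Z = F := Finset.eq_of_subset_of_card_le hZF (by rw [hZcard]; exact h1)
  have hcF : c ∈ F := by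
    simp only [hF, Finset.mem_filter, Finset.mem_univ, true_and]
    exact hc
  rw [← hEq] at hcF
  simpa [hZ] using hcF

end Cfsg.Agent.Lib.Helper01
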