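import Mathlib
import Cfsg.Prelude.Def_Solvable

set_option autoImplicit false

namespace Cfsg.Agent.Lib.Helper01

open scoped Pointwise

variable {G : Type*} [Group G]

theorem pCore_normal (p : ℕ) : (Cfsg.pCore p G).Normal :=
  Subgroup.sSup_normal _ (fun _ hN => hN.1)

theorem pCore_isPGroup (p : ℕ) : IsPGroup p (Cfsg.pCore p G) :=
  Sylow.sSup_of_normal _ (fun _ hN => hN.2) (fun _ hN => hN.1)

theorem le_pCore {p : ℕ} {N : Subgroup G} (hN : N.Normal) (hp : IsPGroup p N) :
    N ≤ Cfsg.pCore p G :=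
  le_sSup ⟨hN, hp⟩

theorem pCore_le_sylow {p : ℕ} (P : Sylow p G) : Cfsg.pCore p G ≤ P :=
  haveI := pCore_normal (G := G) p
  (pCore_isPGroup p).le_sylow_of_normal P

theorem iInf_sylow_normal (p : ℕ) : (⨅ P : Sylow p G, (P : Subgroup G)).Normal := by
  constructor
  intro n hn g
  rw [Subgroup.mem_iInf] at hn ⊢
  intro P
  have h1 := hn (g⁻¹ • P)
  rw [Sylow.smul_def, Sylow.pointwise_smul_def] at h1
  have h2 : n ∈ MulAut.conj g⁻¹ • (P : Subgroup G) := h1
  rw [Subgroup.mem_pointwise_smul_iff_inv_smul_mem] at h2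
  simpa using h2

theorem pCore_eq_iInf_sylow (p : ℕ) [Fact p.Prime] :
    Cfsg.pCore p G = ⨅ P : Sylow p G, (P : Subgroup G) := by
  apply le_antisymm
  · exact le_iInf (fun P => pCore_le_sylow P)
  · apply le_pCore (iInf_sylow_normal p)
    have P : Sylow p G := default
    exact P.isPGroup'.to_le (iInf_le _ P)

end Cfsg.Agent.Lib.Helper01
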