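import Mathlib
import Cfsg.Prelude.Def_Solvable
import Cfsg.Agent.Lib.Helper01.Basic
import Cfsg.Agent.Lib.Helper01.PCore

set_option autoImplicit false

namespace Cfsg.Agent.Lib.Helper01

open scoped Pointwise

variable {G : Type*} [Group G]

theorem pPrimeCore_normal (p : ℕ) : (Cfsg.pPrimeCore p G).Normal :=
  Subgroup.sSup_normal _ (fun _ hN => hN.1)

theorem le_pPrimeCore {p : ℕ} {N : Subgroup G} (hN : N.Normal) (hp : (Nat.card N).Coprime p) :
    N ≤ Cfsg.pPrimeCore p G :=
  le_sSup ⟨hN, hp⟩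

/-- In a finite group the `p'`-core has order prime to `p`. -/
theorem pPrimeCore_card_coprime [Finite G] (p : ℕ) : (Nat.card (Cfsg.pPrimeCore p G)).Coprime p := by
  let 𝒮 : Set (Subgroup G) := {N | N.Normal ∧ (Nat.card N).Coprime p}
  have hne : 𝒮.Nonempty := ⟨⊥, inferInstance, by simp⟩
  obtain ⟨M, ⟨hMn, hMc⟩, hmax⟩ := Set.exists_max_image 𝒮 (fun N => Nat.card N) (Set.toFinite _) hne
  have hle : ∀ N ∈ 𝒮, N ≤ M := by
    rintro N ⟨hNn, hNc⟩
    have h1 := card_sup_mul_card_inf M N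
    have hdvd : Nat.card (N ⊔ M : Subgroup G) ∣ Nat.card M * Nat.card N := Dvd.intro _ h1
    have hc : (Nat.card (N ⊔ M : Subgroup G)).Coprime p :=
      Nat.Coprime.coprime_dvd_left hdvd (Nat.Coprime.mul_left hMc hNc)
    have hmem : (N ⊔ M : Subgroup G) ∈ 𝒮 := ⟨inferInstance, hc⟩
    have h2 := hmax _ hmem
    have h3 : M = N ⊔ M := Subgroup.eq_of_le_of_card_ge le_sup_right h2
    rw [h3]; exact le_sup_left
  have : Cfsg.pPrimeCore p G = M :=
    le_antisymm (sSup_le hle) (le_sSup ⟨hMn, hMc⟩)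
  rw [this]; exact hMc

theorem pPrimeCore_characteristic (p : ℕ) : (Cfsg.pPrimeCore p G).Characteristic := by
  rw [Subgroup.characteristic_iff_map_le]
  intro φ
  unfold Cfsg.pPrimeCore
  rw [Subgroup.map_le_iff_le_comap]
  apply sSup_le
  rintro N ⟨hNn, hNc⟩
  rw [← Subgroup.map_le_iff_le_comap]
  apply le_sSup
  refine ⟨hNn.map _ φ.surjective, ?_⟩
  rw [Subgroup.card_map_of_injective φ.injective]
  exact hNc

theorem pCore_characteristic (p : ℕ) : (Cfsg.pCore p G).Characteristic := by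
  rw [Subgroup.characteristic_iff_map_le]
  intro φ
  exact le_pCore ((pCore_normal p).map _ φ.surjective) ((pCore_isPGroup p).map _)

/-- `O_{p'}(G / O_{p'}(G)) = 1` for finite `G`. -/
theorem pPrimeCore_quotient_eq_bot [Finite G] (p : ℕ) :
    haveI := pPrimeCore_normal (G := G) p
    Cfsg.pPrimeCore p (G ⧸ Cfsg.pPrimeCore p G) = ⊥ := by
  have := pPrimeCore_normal (G := G) p
  set O := Cfsg.pPrimeCore p G with hO
  rw [eq_bot_iff]
  apply sSup_le
  rintro N ⟨hNn, hNc⟩
  set f := QuotientGroup.mk' O with hf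
  have hsurj : Function.Surjective f := QuotientGroup.mk'_surjective O
  have hker : f.ker = O := QuotientGroup.ker_mk' O
  have h1 : (N.comap f).Normal := hNn.comap f
  have h2 : Nat.card (N.comap f) = Nat.card N * Nat.card O := by
    have := card_map_mul_card_ker_of_le f (N.comap f) (by
      intro x hx
      rw [Subgroup.mem_comap, MonoidHom.mem_ker.mp hx]
      exact N.one_mem)
    rw [Subgroup.map_comap_eq_self_of_surjective hsurj, hker] at this
    exact this.symm
  have h3 : (Nat.card (N.comap f)).Coprime p := by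
    rw [h2]; exact Nat.Coprime.mul_left hNc (pPrimeCore_card_coprime p)
  have h4 : N.comap f ≤ O := le_pPrimeCore h1 h3
  intro x hx
  obtain ⟨y, rfl⟩ := hsurj x
  have : y ∈ O := h4 (Subgroup.mem_comap.mpr hx)
  rw [Subgroup.mem_bot]
  exact (QuotientGroup.eq_one_iff y).mpr this

end Cfsg.Agent.Lib.Helper01
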