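import Mathlib
import Cfsg.Agent.Lib.Helper01.PPrimeCore

set_option autoImplicit false

namespace Cfsg.Agent.Lib.Helper01

open scoped Pointwise

variable {G : Type*} [Group G]

/-- A finite group is generated by Sylow subgroups, one for each prime. -/
theorem iSup_sylow_eq_top [Finite G] (S : (p : Nat.Primes) → Sylow (p : ℕ) G) :
    (⨆ p : Nat.Primes, (S p : Subgroup G)) = ⊤ := by
  set J : Subgroup G := ⨆ p : Nat.Primes, (S p : Subgroup G) with hJ
  apply Subgroup.eq_top_of_le_card
  apply Nat.le_of_dvd Nat.card_pos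
  rw [← Nat.factorization_prime_le_iff_dvd Nat.card_pos.ne' Nat.card_pos.ne']
  intro p hp
  have : Fact p.Prime := ⟨hp⟩
  rw [← hp.pow_dvd_iff_le_factorization Nat.card_pos.ne']
  have h1 : (S ⟨p, hp⟩ : Subgroup G) ≤ J := le_iSup (fun q : Nat.Primes => (S q : Subgroup G)) ⟨p, hp⟩
  have h2 := Subgroup.card_dvd_of_le h1
  have h3 : Nat.card (S ⟨p, hp⟩ : Subgroup G) = p ^ (Nat.card G).factorization p :=
    Sylow.card_eq_multiplicity (S ⟨p, hp⟩)
  rwa [h3] at h2

theorem pCore_le_fitting [Finite G] (p : ℕ) [Fact p.Prime] :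
    Cfsg.pCore p G ≤ Cfsg.fittingSubgroup G :=
  le_sSup ⟨pCore_normal p, (pCore_isPGroup p).isNilpotent⟩

/-- A normal nilpotent subgroup lies in the join of the `p`-cores. -/
theorem le_iSup_pCore_of_normal_nilpotent [Finite G] {N : Subgroup G} (hN : N.Normal)
    (hnil : Group.IsNilpotent N) : N ≤ ⨆ p : Nat.Primes, Cfsg.pCore (p : ℕ) G := by
  classical
  let S : (p : Nat.Primes) → Sylow (p : ℕ) N := fun p => default
  have hle : ∀ p : Nat.Primes, ((S p : Subgroup N).map N.subtype) ≤ Cfsg.pCore (p : ℕ) G := by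
    intro p
    have : Fact (p : ℕ).Prime := ⟨p.2⟩
    have hn : (S p : Subgroup N).Normal := inferInstance
    have hchar : (S p : Subgroup N).Characteristic := Sylow.characteristic_of_normal (S p) hn
    exact le_pCore ConjAct.normal_of_characteristic_of_normal ((S p).isPGroup'.map _)
  have htop := iSup_sylow_eq_top S
  have h1 : N = (⊤ : Subgroup N).map N.subtype := by
    rw [← MonoidHom.range_eq_map, Subgroup.range_subtype]
  rw [h1, ← htop, Subgroup.map_iSup]
  exact iSup_mono hle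

theorem fitting_eq_iSup_pCore [Finite G] :
    Cfsg.fittingSubgroup G = ⨆ p : Nat.Primes, Cfsg.pCore (p : ℕ) G := by
  apply le_antisymm
  · apply sSup_le
    rintro N ⟨hNn, hNnil⟩
    exact le_iSup_pCore_of_normal_nilpotent hNn hNnil
  · apply iSup_le
    intro p
    have : Fact (p : ℕ).Prime := ⟨p.2⟩
    exact pCore_le_fitting p

/-- the join of the `p`-cores is nilpotent -/
theorem iSup_pCore_isNilpotent_aux [Finite G] (F : Subgroup G)
    (hF : F = ⨆ p : Nat.Primes, Cfsg.pCore (p : ℕ) G) : Group.IsNilpotent F := by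
  have q := (Group.isNilpotent_of_finite_tfae (G := F)).out 0 3
  rw [q]
  intro p hp P
  have : Fact p.Prime := hp
  have hOn : (Cfsg.pCore p G).Normal := pCore_normal p
  have hOF : Cfsg.pCore p G ≤ F := by
    rw [hF]
    exact le_iSup (fun q : Nat.Primes => Cfsg.pCore (q : ℕ) G) ⟨p, hp.out⟩
  obtain ⟨R, hR⟩ : ∃ R : Subgroup G,
      R = ⨆ (q : Nat.Primes) (_ : q ≠ ⟨p, hp.out⟩), Cfsg.pCore (q : ℕ) G := ⟨_, rfl⟩
  have hFsplit : F = Cfsg.pCore p G ⊔ R := by
    rw [hF, hR]
    exact iSup_split_single (fun q : Nat.Primes => Cfsg.pCore (q : ℕ) G) ⟨p, hp.out⟩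
  -- R has order prime to p
  have hRle : R ≤ Cfsg.pPrimeCore p G := by
    rw [hR]
    apply iSup₂_le
    intro q hq
    have : Fact (q : ℕ).Prime := ⟨q.2⟩
    apply le_pPrimeCore (pCore_normal q)
    obtain ⟨k, hk⟩ := IsPGroup.iff_card.mp (pCore_isPGroup (G := G) (q : ℕ))
    rw [hk]
    apply Nat.Coprime.pow_left
    rw [Nat.coprime_primes q.2 hp.out]
    intro h
    exact hq (Subtype.ext h)
  have hRc : (Nat.card R).Coprime p :=
    Nat.Coprime.coprime_dvd_left (Subgroup.card_dvd_of_le hRle) (pPrimeCore_card_coprime p)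
  -- index of O in F is prime to p
  have hidx : ¬ p ∣ ((Cfsg.pCore p G).subgroupOf F).index := by
    intro hdvd
    have h1 := card_sup_mul_card_inf (Cfsg.pCore p G) R
    rw [sup_comm, ← hFsplit] at h1
    have h2 := ((Cfsg.pCore p G).subgroupOf F).card_mul_index
    rw [card_subgroupOf_of_le hOF] at h2
    have hOpos : 0 < Nat.card (Cfsg.pCore p G) := Nat.card_pos
    have h3 : Nat.card (Cfsg.pCore p G) * (((Cfsg.pCore p G).subgroupOf F).index *
        Nat.card (Cfsg.pCore p G ⊓ R : Subgroup G)) = Nat.card (Cfsg.pCore p G) * Nat.card R := by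
      rw [← mul_assoc, h2, h1]
    have h4 := Nat.eq_of_mul_eq_mul_left hOpos h3
    have h5 : p ∣ Nat.card R := h4 ▸ (hdvd.mul_right _)
    have := Nat.eq_one_of_dvd_coprimes hRc h5 dvd_rfl
    exact hp.out.one_lt.ne' this
  have hOp : IsPGroup p ((Cfsg.pCore p G).subgroupOf F) := (pCore_isPGroup p).comap_subtype
  let T : Sylow p F := hOp.toSylow hidx
  have hTn : (T : Subgroup F).Normal := hOn.subgroupOf F
  obtain ⟨g, hg⟩ := MulAction.exists_smul_eq F T P
  rw [Sylow.smul_eq_of_normal] at hg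
  rw [← hg]
  exact hTn

theorem iSup_pCore_isNilpotent [Finite G] :
    Group.IsNilpotent (⨆ p : Nat.Primes, Cfsg.pCore (p : ℕ) G : Subgroup G) :=
  iSup_pCore_isNilpotent_aux _ rfl

theorem fitting_isNilpotent [Finite G] : Group.IsNilpotent (Cfsg.fittingSubgroup G) := by
  rw [fitting_eq_iSup_pCore]
  exact iSup_pCore_isNilpotent

end Cfsg.Agent.Lib.Helper01
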