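import Mathlib
import Cfsg.Agent.Lib.Helper01.SZRel

set_option autoImplicit false

namespace Cfsg.Agent.Lib.Helper01

open scoped Pointwise

universe u

/-- The three parts of Hall's theorem for a group `G`. -/
def HallProp (G : Type u) [Group G] : Prop :=
  ∀ m n : ℕ, Nat.card G = m * n → m.Coprime n →
    (∃ H : Subgroup G, Nat.card H = m) ∧
    (∀ H K : Subgroup G, Nat.card H = m → Nat.card K = m → ∃ g : G, MulAut.conj g • H = K) ∧
    (∀ K : Subgroup G, (Nat.card K).Coprime n → ∃ H : Subgroup G, Nat.card H = m ∧ K ≤ H)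

theorem map_inf_comap_eq {G Q : Type*} [Group G] [Group Q] (f : G →* Q) (A : Subgroup G)
    (B : Subgroup Q) : (A ⊓ B.comap f).map f = A.map f ⊓ B := by
  ext x
  constructor
  · rintro ⟨y, ⟨hyA, hyB⟩, rfl⟩
    exact ⟨⟨y, hyA, rfl⟩, hyB⟩
  · rintro ⟨⟨y, hyA, rfl⟩, hyB⟩
    exact ⟨y, ⟨hyA, hyB⟩, rfl⟩

theorem card_comap_of_surjective {G Q : Type*} [Group G] [Group Q] (f : G →* Q)
    (hf : Function.Surjective f) (B : Subgroup Q) :
    Nat.card (B.comap f) = Nat.card B * Nat.card f.ker := by
  have h1 := card_map_mul_card_ker_of_le f (B.comap f) (by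
    intro x hx
    rw [Subgroup.mem_comap, MonoidHom.mem_ker.mp hx]
    exact B.one_mem)
  rw [Subgroup.map_comap_eq_self_of_surjective hf] at h1
  exact h1.symm

/-- A normal subgroup whose order divides `m` lies in every subgroup of order `m`,
when `|G| = m n` with `m, n` coprime. -/
theorem normal_le_of_card_dvd {G : Type*} [Group G] [Finite G] (P H : Subgroup G) [P.Normal]
    (m n : ℕ) (hG : Nat.card G = m * n) (hmn : m.Coprime n) (hH : Nat.card H = m)
    (hP : Nat.card P ∣ m) : P ≤ H := by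
  have h1 := card_sup_mul_card_inf P H
  have hle : H ≤ H ⊔ P := le_sup_left
  obtain ⟨d, hd⟩ := Subgroup.card_dvd_of_le hle
  have hSdvd : Nat.card (H ⊔ P : Subgroup G) ∣ Nat.card G := Subgroup.card_subgroup_dvd_card _
  have hmpos : 0 < m := by
    rcases Nat.eq_zero_or_pos m with h | h
    · exfalso
      have : Nat.card G = 0 := by rw [hG, h, zero_mul]
      exact Nat.card_pos.ne' this
    · exact h
  have hdn : d ∣ n := by
    rw [hd, hH, hG] at hSdvd
    exact (Nat.mul_dvd_mul_iff_left hmpos).mp hSdvd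
  have hdP : d ∣ Nat.card P := by
    rw [hd, hH] at h1
    have : m * (d * Nat.card (P ⊓ H : Subgroup G)) = m * Nat.card P := by
      rw [← mul_assoc, h1, mul_comm]
    have := Nat.eq_of_mul_eq_mul_left hmpos this
    exact Dvd.intro _ this
  have hd1 : d = 1 := Nat.eq_one_of_dvd_coprimes hmn (hdP.trans hP) hdn
  rw [hd1, mul_one] at hd
  have : H = H ⊔ P := Subgroup.eq_of_le_of_card_ge hle hd.le
  rw [this]
  exact le_sup_right

theorem hall_case1 {G : Type u} [Group G] [Finite G] (P : Subgroup G) [P.Normal] (m n : ℕ)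
    (hG : Nat.card G = m * n) (hmn : m.Coprime n) (hPm : Nat.card P ∣ m)
    (IH : HallProp (G ⧸ P)) :
    (∃ H : Subgroup G, Nat.card H = m) ∧
    (∀ H K : Subgroup G, Nat.card H = m → Nat.card K = m → ∃ g : G, MulAut.conj g • H = K) ∧
    (∀ K : Subgroup G, (Nat.card K).Coprime n → ∃ H : Subgroup G, Nat.card H = m ∧ K ≤ H) := by
  obtain ⟨m', hm'⟩ := hPm
  have hcpos : 0 < Nat.card P := Nat.card_pos
  let f : G →* G ⧸ P := QuotientGroup.mk' P
  have hf : Function.Surjective f := QuotientGroup.mk'_surjective P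
  have hker : f.ker = P := QuotientGroup.ker_mk' P
  have hQcard : Nat.card (G ⧸ P) = m' * n := by
    have h1 := Subgroup.card_eq_card_quotient_mul_card_subgroup P
    rw [hG, hm'] at h1
    have : Nat.card P * (m' * n) = Nat.card P * Nat.card (G ⧸ P) := by
      rw [← mul_assoc, h1, mul_comm]
    exact (Nat.eq_of_mul_eq_mul_left hcpos this).symm
  have hm'n : m'.Coprime n := Nat.Coprime.coprime_dvd_left (Dvd.intro_left _ hm'.symm) hmn
  obtain ⟨hE, hC, hD⟩ := IH m' n hQcard hm'n
  have hcomap : ∀ B : Subgroup (G ⧸ P), Nat.card B = m' → Nat.card (B.comap f) = m := by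
    intro B hB
    rw [card_comap_of_surjective f hf, hB, hker, hm', mul_comm]
  have hmapcard : ∀ X : Subgroup G, Nat.card X = m → Nat.card (X.map f) = m' ∧ P ≤ X := by
    intro X hX
    have hPX : P ≤ X := normal_le_of_card_dvd P X m n hG hmn hX (Dvd.intro _ hm'.symm)
    refine ⟨?_, hPX⟩
    have h1 := card_map_mul_card_ker_of_le f X (hker.le.trans hPX)
    rw [hker, hX, hm', mul_comm] at h1
    exact Nat.eq_of_mul_eq_mul_left hcpos h1
  refine ⟨?_, ?_, ?_⟩
  · obtain ⟨B, hB⟩ := hE
    exact ⟨B.comap f, hcomap B hB⟩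
  · intro H K hH hK
    obtain ⟨hHbar, hPH⟩ := hmapcard H hH
    obtain ⟨hKbar, hPK⟩ := hmapcard K hK
    obtain ⟨q, hq⟩ := hC (H.map f) (K.map f) hHbar hKbar
    obtain ⟨g, hg⟩ := conj_of_conj_map f hf ⟨q, hq⟩
    rw [hker] at hg
    refine ⟨g, ?_⟩
    have h1 : P ≤ MulAut.conj g • H := by
      have : MulAut.conj g • P ≤ MulAut.conj g • H :=
        Subgroup.pointwise_smul_le_pointwise_smul_iff.mpr hPH
      rwa [conj_smul_normal] at this
    rwa [sup_of_le_left h1, sup_of_le_left hPK] at hg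
  · intro K hK
    have hKbar : (Nat.card (K.map f)).Coprime n :=
      Nat.Coprime.coprime_dvd_left (Subgroup.card_map_dvd K f) hK
    obtain ⟨B, hB, hKB⟩ := hD (K.map f) hKbar
    exact ⟨B.comap f, hcomap B hB, Subgroup.map_le_iff_le_comap.mp hKB⟩

theorem hall_case2 {G : Type u} [Group G] [Finite G] (P : Subgroup G) [P.Normal] (m n : ℕ)
    (hG : Nat.card G = m * n) (hmn : m.Coprime n) (hPn : Nat.card P ∣ n)
    (hPsolv : Group.IsSolvable P) (IH : HallProp (G ⧸ P)) :
    (∃ H : Subgroup G, Nat.card H = m) ∧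
    (∀ H K : Subgroup G, Nat.card H = m → Nat.card K = m → ∃ g : G, MulAut.conj g • H = K) ∧
    (∀ K : Subgroup G, (Nat.card K).Coprime n → ∃ H : Subgroup G, Nat.card H = m ∧ K ≤ H) := by
  obtain ⟨n', hn'⟩ := hPn
  have hcpos : 0 < Nat.card P := Nat.card_pos
  let f : G →* G ⧸ P := QuotientGroup.mk' P
  have hf : Function.Surjective f := QuotientGroup.mk'_surjective P
  have hker : f.ker = P := QuotientGroup.ker_mk' P
  have hQcard : Nat.card (G ⧸ P) = m * n' := by
    have h1 := Subgroup.card_eq_card_quotient_mul_card_subgroup P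
    rw [hG, hn'] at h1
    have : Nat.card P * (m * n') = Nat.card P * Nat.card (G ⧸ P) := by
      rw [mul_comm (Nat.card P) (Nat.card (G ⧸ P)), ← h1]; ring
    exact (Nat.eq_of_mul_eq_mul_left hcpos this).symm
  have hmn' : m.Coprime n' := Nat.Coprime.coprime_dvd_right (Dvd.intro_left _ hn'.symm) hmn
  have hmc : m.Coprime (Nat.card P) := Nat.Coprime.coprime_dvd_right (Dvd.intro _ hn'.symm) hmn
  obtain ⟨hE, hC, hD⟩ := IH m n' hQcard hmn'
  have hnormP : ∀ L : Subgroup G, L ≤ Subgroup.normalizer (P : Set G) := by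
    intro L; rw [Subgroup.normalizer_eq_top]; exact le_top
  have hPcomap : ∀ B : Subgroup (G ⧸ P), P ≤ B.comap f := by
    intro B x hx
    rw [Subgroup.mem_comap, MonoidHom.mem_ker.mp (hker.ge hx)]
    exact B.one_mem
  -- complements inside the preimage of a subgroup of order m
  have hlift : ∀ B : Subgroup (G ⧸ P), Nat.card B = m →
      ∃ H : Subgroup G, H ≤ B.comap f ∧ Nat.card H = m := by
    intro B hB
    apply sz_exists_in (B.comap f) P (hPcomap B) (hnormP _) m _ hmc.symm
    rw [card_comap_of_surjective f hf, hB, hker, mul_comm]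
  have hmapcard : ∀ X : Subgroup G, (Nat.card X).Coprime (Nat.card P) →
      Nat.card (X.map f) = Nat.card X := by
    intro X hX
    exact card_map_of_coprime f X (hker.symm ▸ hX)
  refine ⟨?_, ?_, ?_⟩
  · obtain ⟨B, hB⟩ := hE
    obtain ⟨H, -, hH⟩ := hlift B hB
    exact ⟨H, hH⟩
  · intro H K hH hK
    have hHbar : Nat.card (H.map f) = m := by rw [hmapcard H (hH.symm ▸ hmc), hH]
    have hKbar : Nat.card (K.map f) = m := by rw [hmapcard K (hK.symm ▸ hmc), hK]
    obtain ⟨q, hq⟩ := hC (H.map f) (K.map f) hHbar hKbar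
    obtain ⟨g, hg⟩ := conj_of_conj_map f hf ⟨q, hq⟩
    rw [hker] at hg
    set H₁ : Subgroup G := MulAut.conj g • H with hH₁def
    have hH₁card : Nat.card H₁ = m := by rw [card_conj_smul, hH]
    have hLcard : Nat.card (K ⊔ P : Subgroup G) = Nat.card P * Nat.card H₁ := by
      rw [card_sup_of_coprime P K (hK.symm ▸ hmc.symm), hK, hH₁card]
    obtain ⟨g', -, hg'⟩ := sz_conj_in (K ⊔ P) P H₁ K le_sup_right (hg ▸ le_sup_left) le_sup_left
      (hnormP _) hLcard (hH₁card.symm ▸ hmc.symm) (by rw [hK, hH₁card]) (Or.inl hPsolv)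
    refine ⟨g' * g, ?_⟩
    rw [← conj_smul_conj_smul, hg']
  · intro K hK
    have hKc : (Nat.card K).Coprime (Nat.card P) :=
      Nat.Coprime.coprime_dvd_right (Dvd.intro _ hn'.symm) hK
    have hKn' : (Nat.card K).Coprime n' :=
      Nat.Coprime.coprime_dvd_right (Dvd.intro_left _ hn'.symm) hK
    have hKbarcard : Nat.card (K.map f) = Nat.card K := hmapcard K hKc
    obtain ⟨B, hB, hKB⟩ := hD (K.map f) (hKbarcard.symm ▸ hKn')
    obtain ⟨H₀, hH₀L, hH₀⟩ := hlift B hB
    have hH₀map : H₀.map f = B := by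
      apply Subgroup.eq_of_le_of_card_ge (Subgroup.map_le_iff_le_comap.mpr hH₀L)
      rw [hmapcard H₀ (hH₀.symm ▸ hmc), hH₀, hB]
    set K' : Subgroup G := H₀ ⊓ (K.map f).comap f with hK'def
    have hK'map : K'.map f = K.map f := by
      rw [hK'def, map_inf_comap_eq, hH₀map, inf_of_le_right hKB]
    have hK'H₀ : K' ≤ H₀ := inf_le_left
    have hK'c : (Nat.card K').Coprime (Nat.card P) :=
      Nat.Coprime.coprime_dvd_left (Subgroup.card_dvd_of_le hK'H₀) (hH₀.symm ▸ hmc)
    have hK'card : Nat.card K' = Nat.card K := by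
      rw [← hmapcard K' hK'c, hK'map, hKbarcard]
    have hK'L : K' ≤ K ⊔ P := by
      have : K' ≤ (K.map f).comap f := inf_le_right
      rwa [Subgroup.comap_map_eq, hker] at this
    have hLcard : Nat.card (K ⊔ P : Subgroup G) = Nat.card P * Nat.card K' := by
      rw [card_sup_of_coprime P K hKc.symm, hK'card]
    obtain ⟨x, -, hx⟩ := sz_conj_in (K ⊔ P) P K' K le_sup_right hK'L le_sup_left
      (hnormP _) hLcard (hK'card.symm ▸ hKc.symm) hK'card.symm (Or.inl hPsolv)
    refine ⟨MulAut.conj x • H₀, by rw [card_conj_smul, hH₀], ?_⟩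
    rw [← hx]
    exact Subgroup.pointwise_smul_le_pointwise_smul_iff.mpr hK'H₀

theorem hallProp_aux (N : ℕ) : ∀ (G : Type u) [Group G] [Finite G] [Group.IsSolvable G],
    Nat.card G = N → HallProp G := by
  induction N using Nat.strong_induction_on with
  | _ N ih =>
  intro G _ _ _ hN
  intro m n hG hmn
  by_cases htriv : Nat.card G = 1
  · have hm1 : m = 1 := by
      have : m * n = 1 := by rw [← hG, htriv]
      exact Nat.eq_one_of_mul_eq_one_right this
    have hsub : ∀ X : Subgroup G, Nat.card X = 1 := by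
      intro X
      have := Subgroup.card_le_card_group X
      rw [htriv] at this
      exact le_antisymm this Nat.card_pos
    refine ⟨⟨⊥, by rw [hm1]; exact hsub ⊥⟩, ?_, ?_⟩
    · intro H K _ _
      refine ⟨1, ?_⟩
      rw [Subgroup.card_eq_one.mp (hsub H), Subgroup.card_eq_one.mp (hsub K), map_one, one_smul]
    · intro K _
      exact ⟨⊤, by rw [hm1]; exact hsub ⊤, le_top⟩
  · have hnontriv : Nontrivial G := by
      rw [← Finite.one_lt_card_iff_nontrivial]
      have : 0 < Nat.card G := Nat.card_pos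
      omega
    obtain ⟨p, hp, P, hPnormal, hPp, hPne⟩ :=
      exists_normal_pSubgroup_of_solvable (inferInstance : Group.IsSolvable G)
    have : Fact p.Prime := ⟨hp⟩
    have hPcard1 : 1 < Nat.card P := by
      rcases Nat.lt_or_ge 1 (Nat.card P) with h | h
      · exact h
      · exfalso
        have hpos : 0 < Nat.card P := Nat.card_pos
        exact hPne (Subgroup.card_eq_one.mp (le_antisymm h hpos))
    have hQlt : Nat.card (G ⧸ P) < N := by
      rw [← hN, Subgroup.card_eq_card_quotient_mul_card_subgroup P]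
      have hpos : 0 < Nat.card (G ⧸ P) := Nat.card_pos
      nlinarith
    have IH : HallProp (G ⧸ P) := ih _ hQlt (G ⧸ P) rfl
    obtain ⟨a, ha⟩ := IsPGroup.iff_card.mp hPp
    have ha0 : a ≠ 0 := by
      rintro rfl
      rw [pow_zero] at ha
      exact hPcard1.ne' ha
    have hpp : IsPrimePow (Nat.card P) := by
      rw [ha]; exact hp.isPrimePow.pow ha0
    have hdvd : Nat.card P ∣ m * n := by
      rw [← hG]; exact Subgroup.card_subgroup_dvd_card P
    rcases (Nat.Coprime.isPrimePow_dvd_mul hmn hpp).mp hdvd with h | h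
    · exact hall_case1 P m n hG hmn h IH
    · exact hall_case2 P m n hG hmn h (isSolvable_of_le le_top
        (Group.isSolvable_of_isSolvable_injective (f := (⊤ : Subgroup G).subtype)
          (Subgroup.subtype_injective _))) IH

theorem hallProp {G : Type u} [Group G] [Finite G] [Group.IsSolvable G] : HallProp G :=
  hallProp_aux _ G rfl

end Cfsg.Agent.Lib.Helper01
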