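import Mathlib
import Cfsg.Agent.Lib.Helper01.Coprime

set_option autoImplicit false

namespace Cfsg.Agent.Lib.Helper01

open scoped Pointwise

variable {G : Type*} [Group G]

theorem normalizer_conj_smul (g : G) (P : Subgroup G) :
    Subgroup.normalizer ((MulAut.conj g • P : Subgroup G) : Set G) =
      MulAut.conj g • Subgroup.normalizer (P : Set G) := by
  ext x
  rw [mem_normalizer_iff_conj_smul, Subgroup.mem_pointwise_smul_iff_inv_smul_mem,
    mem_normalizer_iff_conj_smul]
  have h1 : (MulAut.conj g)⁻¹ • x = g⁻¹ * x * g := by simp [MulAut.smul_def]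
  rw [h1, conj_smul_conj_smul]
  constructor
  · intro h
    have := congrArg (fun S => MulAut.conj g⁻¹ • S) h
    simp only [conj_smul_conj_smul] at this
    have h2 : g⁻¹ * (x * g) = g⁻¹ * x * g := by group
    rw [h2, inv_mul_cancel, map_one, one_smul] at this
    exact this
  · intro h
    have := congrArg (fun S => MulAut.conj g • S) h
    simp only [conj_smul_conj_smul] at this
    have h2 : g * (g⁻¹ * x * g) = x * g := by group
    rw [h2] at this
    exact this

/-- If `M ⊔ K = A ⊔ K` (where `A`, `M` normalize `K`, coprime), then `|M| = |A| * |K ⊓ M|`. -/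
theorem card_eq_of_sup_eq [Finite G] {A K M : Subgroup G}
    (hAK : A ≤ Subgroup.normalizer (K : Set G)) (hcop : (Nat.card A).Coprime (Nat.card K))
    (hMK : M ≤ Subgroup.normalizer (K : Set G)) (hsup : M ⊔ K = A ⊔ K) :
    Nat.card M = Nat.card (K ⊓ M : Subgroup G) * Nat.card A := by
  have h1 := card_sup_mul_card_inf_of_le_normalizer K M hMK
  have h2 := card_sup_of_coprime_of_le_normalizer K A hAK hcop.symm
  rw [hsup, h2] at h1
  have hpos : 0 < Nat.card K := Nat.card_pos
  have : Nat.card K * (Nat.card (K ⊓ M : Subgroup G) * Nat.card A) = Nat.card K * Nat.card M := by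
    rw [← h1]; ring
  exact (Nat.eq_of_mul_eq_mul_left hpos this).symm

/-- Glauberman's lemma, existence: if the `A`-conjugates of `P` are `K`-conjugates of `P`,
then some `K`-conjugate of `P` is normalized by `A`. -/
theorem exists_conj_normalized [Finite G] {A K P : Subgroup G}
    (hAK : A ≤ Subgroup.normalizer (K : Set G)) (hcop : (Nat.card A).Coprime (Nat.card K))
    (hsolv : Group.IsSolvable A ∨ Group.IsSolvable K)
    (horbit : ∀ a ∈ A, ∃ k ∈ K, MulAut.conj k • P = MulAut.conj a • P) :
    ∃ k ∈ K, A ≤ Subgroup.normalizer ((MulAut.conj k • P : Subgroup G) : Set G) := by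
  set Γ : Subgroup G := A ⊔ K with hΓ
  have hΓK : Γ ≤ Subgroup.normalizer (K : Set G) := sup_le hAK Subgroup.le_normalizer
  set M : Subgroup G := Subgroup.normalizer (P : Set G) ⊓ Γ with hM
  have hMΓ : M ≤ Γ := inf_le_right
  have hMK : M ≤ Subgroup.normalizer (K : Set G) := hMΓ.trans hΓK
  have hsup : M ⊔ K = A ⊔ K := by
    apply le_antisymm (sup_le hMΓ le_sup_right)
    apply sup_le _ le_sup_right
    intro a ha
    obtain ⟨k, hk, hka⟩ := horbit a ha
    have h1 : k⁻¹ * a ∈ M := by
      refine Subgroup.mem_inf.mpr ⟨?_, ?_⟩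
      · rw [mem_normalizer_iff_conj_smul, ← conj_smul_conj_smul, ← hka, conj_smul_conj_smul,
          inv_mul_cancel, map_one, one_smul]
      · exact Γ.mul_mem (Γ.inv_mem (le_sup_right (a := A) hk)) (le_sup_left (b := K) ha)
    have : a = k * (k⁻¹ * a) := by group
    rw [this, sup_comm]
    exact Subgroup.mul_mem_sup hk h1
  have hMcard := card_eq_of_sup_eq hAK hcop hMK hsup
  have hKMdvd : Nat.card (K ⊓ M : Subgroup G) ∣ Nat.card K := Subgroup.card_dvd_of_le inf_le_left
  have hcop' : (Nat.card (K ⊓ M : Subgroup G)).Coprime (Nat.card A) :=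
    (Nat.Coprime.coprime_dvd_right hKMdvd hcop).symm
  obtain ⟨B, hBM, hBcard⟩ := sz_exists_in M (K ⊓ M) inf_le_right
    ((le_inf hMK Subgroup.le_normalizer).trans Subgroup.inf_normalizer_le_normalizer_inf)
    (Nat.card A) hMcard hcop'
  have hsolv' : Group.IsSolvable K ∨ Group.IsSolvable A := hsolv.symm
  obtain ⟨k, hk, hkB⟩ := conj_by_normal_of_card_eq hAK hcop.symm hsolv' (hBM.trans hMΓ) hBcard
  refine ⟨k, hk, ?_⟩
  rw [normalizer_conj_smul, ← hkB]
  exact Subgroup.pointwise_smul_le_pointwise_smul_iff.mpr (hBM.trans inf_le_left)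

/-- Glauberman's lemma, conjugacy: two `A`-invariant subgroups conjugate under `K` are
conjugate under `C_K(A)`. -/
theorem exists_centralizer_conj [Finite G] {A K P Q : Subgroup G}
    (hAK : A ≤ Subgroup.normalizer (K : Set G)) (hcop : (Nat.card A).Coprime (Nat.card K))
    (hsolv : Group.IsSolvable A ∨ Group.IsSolvable K)
    (hP : A ≤ Subgroup.normalizer (P : Set G)) (hQ : A ≤ Subgroup.normalizer (Q : Set G))
    (hconj : ∃ k ∈ K, MulAut.conj k • P = Q) :
    ∃ c ∈ K ⊓ Subgroup.centralizer (A : Set G), MulAut.conj c • P = Q := by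
  obtain ⟨k, hk, hkP⟩ := hconj
  set Γ : Subgroup G := A ⊔ K with hΓ
  have hΓK : Γ ≤ Subgroup.normalizer (K : Set G) := sup_le hAK Subgroup.le_normalizer
  set M : Subgroup G := Subgroup.normalizer (Q : Set G) ⊓ Γ with hM
  have hMΓ : M ≤ Γ := inf_le_right
  have hMK : M ≤ Subgroup.normalizer (K : Set G) := hMΓ.trans hΓK
  have hAM : A ≤ M := le_inf hQ le_sup_left
  have hsup : M ⊔ K = A ⊔ K :=
    le_antisymm (sup_le hMΓ le_sup_right) (sup_le (hAM.trans le_sup_left) le_sup_right)
  have hMcard := card_eq_of_sup_eq hAK hcop hMK hsup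
  set N : Subgroup G := K ⊓ M with hN
  have hNdvd : Nat.card N ∣ Nat.card K := Subgroup.card_dvd_of_le inf_le_left
  have hcopN : (Nat.card N).Coprime (Nat.card A) :=
    (Nat.Coprime.coprime_dvd_right hNdvd hcop).symm
  have hAN : A ≤ Subgroup.normalizer (N : Set G) :=
    (le_inf hAK (hAM.trans Subgroup.le_normalizer)).trans Subgroup.inf_normalizer_le_normalizer_inf
  have hANM : A ⊔ N = M := by
    apply Subgroup.eq_of_le_of_card_ge (sup_le hAM inf_le_right)
    rw [card_sup_of_coprime_of_le_normalizer N A hAN hcopN, hMcard]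
  set B : Subgroup G := MulAut.conj k • A with hB
  have hBM : B ≤ M := by
    refine le_inf ?_ ?_
    · rw [← hkP, normalizer_conj_smul]
      exact Subgroup.pointwise_smul_le_pointwise_smul_iff.mpr hP
    · have h1 : MulAut.conj k • A ≤ MulAut.conj k • Γ :=
        Subgroup.pointwise_smul_le_pointwise_smul_iff.mpr le_sup_left
      rwa [Subgroup.conj_smul_eq_self_of_mem (le_sup_right (a := A) hk)] at h1
  have hsolv' : Group.IsSolvable N ∨ Group.IsSolvable A := by
    rcases hsolv with h | h
    · exact Or.inr h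
    · exact Or.inl (isSolvable_of_le inf_le_left h)
  obtain ⟨n, hn, hnB⟩ := conj_by_normal_of_card_eq hAN hcopN hsolv' (hANM.symm ▸ hBM)
    (card_conj_smul k A)
  rw [conj_smul_conj_smul] at hnB
  have hdisj : K ⊓ A = ⊥ := (Subgroup.disjoint_of_coprime_natCard hcop.symm).eq_bot
  have hnK : n ∈ K := (Subgroup.mem_inf.mp hn).1
  have hcK : n * k ∈ K := K.mul_mem hnK hk
  have hcent := mem_centralizer_of_conj_smul_eq hAK hdisj hcK hnB
  refine ⟨n * k, Subgroup.mem_inf.mpr ⟨hcK, hcent⟩, ?_⟩
  rw [← conj_smul_conj_smul, hkP]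
  exact mem_normalizer_iff_conj_smul.mp ((Subgroup.mem_inf.mp (Subgroup.mem_inf.mp hn).2).1)

end Cfsg.Agent.Lib.Helper01
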