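import Mathlib
import Cfsg.Agent.Lib.Helper01.Glauberman
import Cfsg.Agent.Lib.Helper01.SZConjB

set_option autoImplicit false

namespace Cfsg.Agent.Lib.Helper01

open scoped Pointwise

variable {G : Type*} [Group G]

/-- `P` is (the image in `G` of) a Sylow `p`-subgroup of `K`. -/
def IsSylowIn (p : ℕ) (P K : Subgroup G) : Prop :=
  P ≤ K ∧ IsPGroup p P ∧ ¬ p ∣ P.relIndex K

theorem isSylowIn_map [Finite G] {p : ℕ} [Fact p.Prime] {K : Subgroup G} (P₀ : Sylow p K) :
    IsSylowIn p ((P₀ : Subgroup K).map K.subtype) K := by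
  refine ⟨Subgroup.map_subtype_le _, P₀.isPGroup'.map _, ?_⟩
  have : ((P₀ : Subgroup K).map K.subtype).subgroupOf K = P₀ :=
    Subgroup.comap_map_eq_self_of_injective K.subtype_injective _
  unfold Subgroup.relIndex
  rw [this]
  exact P₀.not_dvd_index

/-- the Sylow subgroup of `K` attached to `P` with `IsSylowIn p P K`. -/
noncomputable def IsSylowIn.toSylow {p : ℕ} [Fact p.Prime] {P K : Subgroup G}
    (h : IsSylowIn p P K) : Sylow p K :=
  (h.2.1.comap_subtype (K := K)).toSylow h.2.2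

theorem IsSylowIn.toSylow_map {p : ℕ} [Fact p.Prime] {P K : Subgroup G}
    (h : IsSylowIn p P K) : (h.toSylow : Subgroup K).map K.subtype = P := by
  have : (h.toSylow : Subgroup K) = P.subgroupOf K := rfl
  rw [this, Subgroup.subgroupOf_map_subtype, inf_of_le_left h.1]

theorem IsSylowIn.conj {p : ℕ} {P K : Subgroup G} (h : IsSylowIn p P K) {a : G}
    (ha : a ∈ Subgroup.normalizer (K : Set G)) : IsSylowIn p (MulAut.conj a • P) K := by
  have hK : MulAut.conj a • K = K := mem_normalizer_iff_conj_smul.mp ha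
  refine ⟨?_, ?_, ?_⟩
  · rw [← hK]; exact Subgroup.pointwise_smul_le_pointwise_smul_iff.mpr h.1
  · exact h.2.1.of_equiv (Subgroup.equivSMul (MulAut.conj a) P)
  · have := Subgroup.relIndex_pointwise_smul (MulAut.conj a) P K
    rw [hK] at this
    rw [this]; exact h.2.2

theorem IsSylowIn.exists_conj [Finite G] {p : ℕ} [Fact p.Prime] {P Q K : Subgroup G}
    (hP : IsSylowIn p P K) (hQ : IsSylowIn p Q K) : ∃ k ∈ K, MulAut.conj k • P = Q :=
  conj_of_sylow_in hP.1 hQ.1 hP.2.1 hQ.2.1 hP.2.2 hQ.2.2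

/-- Coprime action: an invariant Sylow subgroup exists. -/
theorem exists_invariant_isSylowIn [Finite G] {A K : Subgroup G} (p : ℕ) [Fact p.Prime]
    (hAK : A ≤ Subgroup.normalizer (K : Set G)) (hcop : (Nat.card A).Coprime (Nat.card K))
    (hsolv : Group.IsSolvable A ∨ Group.IsSolvable K) :
    ∃ P : Subgroup G, IsSylowIn p P K ∧ A ≤ Subgroup.normalizer (P : Set G) := by
  let P₀ : Sylow p K := default
  have hP := isSylowIn_map P₀
  obtain ⟨k, hk, hkA⟩ := exists_conj_normalized (P := (P₀ : Subgroup K).map K.subtype) hAK hcop hsolv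
    (fun a ha => hP.exists_conj (hP.conj (hAK ha)))
  exact ⟨_, hP.conj (Subgroup.le_normalizer hk), hkA⟩

end Cfsg.Agent.Lib.Helper01
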