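import Mathlib
import Cfsg.Agent.S0040
import Cfsg.Agent.S0068
import Cfsg.Agent.Lib.Helper02.FrobComplement
import Cfsg.Agent.Lib.Helper14.NilpHall
import Cfsg.Agent.Lib.Helper01.Hall

set_option autoImplicit false
set_option linter.style.haveILetI false

namespace Cfsg.Agent.Lib.Helper01

open scoped Pointwise

/-- Sylow subgroups for odd primes of a Frobenius complement are cyclic. -/
theorem sylow_cyclic_of_fpf_of_odd {G : Type*} [Group G] [Finite G] (K E : Subgroup G) [K.Normal]
    (hc : Subgroup.IsComplement' K E) (hK : K ≠ ⊥)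
    (hfpf : ∀ e ∈ E, e ≠ 1 → K ⊓ Subgroup.centralizer ({e} : Set G) = ⊥)
    (r : ℕ) [hr : Fact r.Prime] (hr2 : r ≠ 2) (R : Sylow r E) : IsCyclic R := by
  rcases Cfsg.Agent.S0040.result K E hc hK hfpf r R with h | ⟨n, ⟨eq⟩⟩
  · exact h
  · exfalso
    haveI : NeZero (2 ^ n) := ⟨pow_ne_zero n two_ne_zero⟩
    have h1 : Nat.card R = 4 * 2 ^ n := by
      rw [Nat.card_congr eq.toEquiv, Nat.card_eq_fintype_card, QuaternionGroup.card]
    obtain ⟨k, hk⟩ := IsPGroup.iff_card.mp R.isPGroup'
    have h2 : 2 ∣ r ^ k := by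
      rw [← hk]
      show 2 ∣ Nat.card R
      rw [h1]
      exact ⟨2 * 2 ^ n, by ring⟩
    have h3 : 2 ∣ r := Nat.Prime.dvd_of_dvd_pow Nat.prime_two h2
    exact hr2 ((Nat.prime_dvd_prime_iff_eq Nat.prime_two hr.out).mp h3).symm

/-- A Frobenius complement of odd order is a Z-group. -/
theorem isZGroup_of_fpf_of_odd {G : Type*} [Group G] [Finite G] (K E : Subgroup G) [K.Normal]
    (hc : Subgroup.IsComplement' K E) (hK : K ≠ ⊥)
    (hfpf : ∀ e ∈ E, e ≠ 1 → K ⊓ Subgroup.centralizer ({e} : Set G) = ⊥)
    (hodd : Odd (Nat.card E)) : IsZGroup E := by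
  refine ⟨fun r hr R => ?_⟩
  haveI := Fact.mk hr
  by_cases hr2 : r = 2
  · subst hr2
    have h1 : Nat.card R = 1 := by
      obtain ⟨k, hk⟩ := IsPGroup.iff_card.mp R.isPGroup'
      have hdvd : Nat.card R ∣ Nat.card E := Subgroup.card_subgroup_dvd_card (R : Subgroup E)
      rcases Nat.eq_zero_or_pos k with h0 | hpos
      · rw [hk, h0, pow_zero]
      · exfalso
        have : 2 ∣ Nat.card E := dvd_trans (by rw [hk]; exact dvd_pow_self 2 hpos.ne') hdvd
        exact (Nat.not_even_iff_odd.mpr hodd) (even_iff_two_dvd.mpr this)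
    haveI : Subsingleton R := (Nat.card_eq_one_iff_unique.mp h1).1
    exact isCyclic_of_subsingleton
  · exact sylow_cyclic_of_fpf_of_odd K E hc hK hfpf r hr2 R

/-- A nilpotent Frobenius complement is cyclic, or the product of a cyclic group of odd order and a
generalized quaternion group. -/
theorem nilpotent_frobenius_complement {G : Type*} [Group G] [Finite G] (K E : Subgroup G)
    [K.Normal] (hc : Subgroup.IsComplement' K E) (hK : K ≠ ⊥)
    (hfpf : ∀ e ∈ E, e ≠ 1 → K ⊓ Subgroup.centralizer ({e} : Set G) = ⊥)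
    (hnil : Group.IsNilpotent E) :
    IsCyclic E ∨ ∃ C Q : Subgroup G, C ⊔ Q = E ∧ (∀ a ∈ C, ∀ b ∈ Q, a * b = b * a) ∧ IsCyclic C ∧
      Odd (Nat.card C) ∧ ∃ n : ℕ, Nonempty (↥Q ≃* QuaternionGroup (2 ^ n)) := by
  haveI : Fact (Nat.Prime 2) := ⟨Nat.prime_two⟩
  obtain T : Sylow 2 E := default
  rcases Cfsg.Agent.S0040.result K E hc hK hfpf 2 T with hT | ⟨n, ⟨eq⟩⟩
  · left
    haveI : IsZGroup E := by
      refine ⟨fun r hr R => ?_⟩
      haveI := Fact.mk hr
      by_cases hr2 : r = 2
      · subst hr2
        obtain ⟨g, hg⟩ := MulAction.exists_smul_eq E T R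
        rw [← hg]
        exact isCyclic_of_surjective (Sylow.equivSMul T g).toMonoidHom (Sylow.equivSMul T g).surjective
      · exact sylow_cyclic_of_fpf_of_odd K E hc hK hfpf r hr2 R
    infer_instance
  · right
    haveI hTn : (T : Subgroup E).Normal := inferInstance
    obtain ⟨C', hC'⟩ := Subgroup.exists_right_complement'_of_coprime T.card_coprime_index
    have hC'card : Nat.card C' = (T : Subgroup E).index := hC'.symm.index_eq_card.symm
    have hC'odd : Odd (Nat.card C') := by
      rw [hC'card, ← Nat.not_even_iff_odd, even_iff_two_dvd]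
      exact T.not_dvd_index
    refine ⟨C'.map E.subtype, (T : Subgroup E).map E.subtype, ?_, ?_, ?_, ?_, n, ⟨?_⟩⟩
    · rw [← Subgroup.map_sup, sup_comm, hC'.sup_eq_top, ← MonoidHom.range_eq_map, Subgroup.range_subtype]
    · rintro a ⟨a', ha', rfl⟩ b ⟨b', hb', rfl⟩
      have hcop : (orderOf (a' : G)).Coprime (orderOf (b' : G)) := by
        rw [Subgroup.orderOf_coe, Subgroup.orderOf_coe]
        have h1 : orderOf a' ∣ Nat.card C' := by
          have := orderOf_dvd_natCard (⟨a', ha'⟩ : C')
          rwa [Subgroup.orderOf_mk] at this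
        obtain ⟨k, hk⟩ := (IsPGroup.iff_orderOf.mp T.isPGroup') ⟨b', hb'⟩
        rw [Subgroup.orderOf_mk] at hk
        rw [hk]
        apply Nat.Coprime.pow_right
        apply Nat.Coprime.coprime_dvd_left h1
        exact Nat.Coprime.symm ((Nat.Prime.coprime_iff_not_dvd Nat.prime_two).mpr
          (by rw [← even_iff_two_dvd, Nat.not_even_iff_odd]; exact hC'odd))
      exact Lib.Helper14.commute_of_mem_nilpotent hnil a'.2 b'.2 hcop
    · haveI : IsZGroup C' := by
        refine ⟨fun r hr R => ?_⟩
        haveI := Fact.mk hr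
        by_cases hr2 : r = 2
        · subst hr2
          have h1 : Nat.card R = 1 := by
            obtain ⟨k, hk⟩ := IsPGroup.iff_card.mp R.isPGroup'
            have hdvd : Nat.card R ∣ Nat.card C' := Subgroup.card_subgroup_dvd_card (R : Subgroup C')
            rcases Nat.eq_zero_or_pos k with h0 | hpos
            · rw [hk, h0, pow_zero]
            · exfalso
              have : 2 ∣ Nat.card C' := dvd_trans (by rw [hk]; exact dvd_pow_self 2 hpos.ne') hdvd
              exact (Nat.not_even_iff_odd.mpr hC'odd) (even_iff_two_dvd.mpr this)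
          haveI : Subsingleton R := (Nat.card_eq_one_iff_unique.mp h1).1
          exact isCyclic_of_subsingleton
        · -- the image of R in E is an r-subgroup, inside a cyclic Sylow r-subgroup
          have hRp : IsPGroup r ((R : Subgroup C').map C'.subtype) := R.isPGroup'.map _
          obtain ⟨S, hS⟩ := hRp.exists_le_sylow
          haveI : IsCyclic S := sylow_cyclic_of_fpf_of_odd K E hc hK hfpf r hr2 S
          let f : (R : Subgroup C') →* (S : Subgroup E) :=
            { toFun := fun x => ⟨(x : C'), hS ⟨(x : C'), x.2, rfl⟩⟩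
              map_one' := rfl
              map_mul' := fun _ _ => rfl }
          have hf : Function.Injective f := by
            intro x y hxy
            have := congrArg (fun z : (S : Subgroup E) => (z : E)) hxy
            exact Subtype.ext (Subtype.ext this)
          exact isCyclic_of_injective f hf
      haveI : Group.IsNilpotent C' := inferInstance
      haveI : IsCyclic C' := inferInstance
      exact isCyclic_of_surjective (C'.equivMapOfInjective E.subtype E.subtype_injective).toMonoidHom
        (C'.equivMapOfInjective E.subtype E.subtype_injective).surjective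
    · rw [← Nat.card_congr (C'.equivMapOfInjective E.subtype E.subtype_injective).toEquiv]
      exact hC'odd
    · exact ((T : Subgroup E).equivMapOfInjective E.subtype E.subtype_injective).symm.trans eq

end Cfsg.Agent.Lib.Helper01
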