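import Mathlib
import Cfsg.Agent.S0040
import Cfsg.Agent.S0068
import Cfsg.Agent.Lib.Helper02.FrobComplement
import Cfsg.Agent.Lib.Helper01.Hall
import Cfsg.Agent.Lib.Helper01.FrobComplNilp

set_option autoImplicit false
set_option linter.style.haveILetI false

namespace Cfsg.Agent.Lib.Helper01

open scoped Pointwise

/-- Let `P₀` be a normal `p`-subgroup on which every nonidentity `p'`-element of `G` acts without
fixed points.  Every `p'`-subgroup `X` of `G ⧸ P₀` lifts: in the full preimage `L` of `X` the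
subgroup `P₀` has a complement `H`, acting fixed-point-freely, and isomorphic to `X` via the
quotient map. -/
theorem liftPkg {G : Type*} [Group G] [Finite G] {p : ℕ} [Fact p.Prime] (P₀ : Subgroup G)
    [P₀.Normal] (hP₀ : IsPGroup p P₀)
    (hfpf : ∀ a : G, a ≠ 1 → (orderOf a).Coprime p →
      P₀ ⊓ Subgroup.centralizer ({a} : Set G) = ⊥)
    (X : Subgroup (G ⧸ P₀)) (hX : (Nat.card X).Coprime p) :
    ∃ H : Subgroup ↥(X.comap (QuotientGroup.mk' P₀)),
      Subgroup.IsComplement' (P₀.subgroupOf (X.comap (QuotientGroup.mk' P₀))) H ∧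
      (∀ h ∈ H, h ≠ 1 → P₀.subgroupOf (X.comap (QuotientGroup.mk' P₀)) ⊓
        Subgroup.centralizer ({h} : Set ↥(X.comap (QuotientGroup.mk' P₀))) = ⊥) ∧
      ∃ ψ : ↥H ≃* ↥X, ∀ h : H, (ψ h : G ⧸ P₀) =
        QuotientGroup.mk' P₀ ((h : ↥(X.comap (QuotientGroup.mk' P₀))) : G) := by
  classical
  set π := QuotientGroup.mk' P₀ with hπ
  set L := X.comap π with hL
  have hP₀L : P₀ ≤ L := by
    intro x hx
    rw [hL, Subgroup.mem_comap]
    have : π x = 1 := by rw [hπ, QuotientGroup.mk'_apply, QuotientGroup.eq_one_iff]; exact hx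
    rw [this]; exact X.one_mem
  set N := P₀.subgroupOf L with hN
  have hNcard : Nat.card N = Nat.card P₀ :=
    Nat.card_congr (Subgroup.subgroupOfEquivOfLe hP₀L).toEquiv
  have hLcard : Nat.card L = Nat.card X * Nat.card P₀ := by
    have := card_comap_of_surjective π (QuotientGroup.mk'_surjective P₀) X
    rw [QuotientGroup.ker_mk'] at this
    exact this
  have hNidx : N.index = Nat.card X := by
    have h1 := N.card_mul_index
    rw [hLcard, hNcard, mul_comm] at h1
    have hpos : 0 < Nat.card P₀ := Nat.card_pos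
    exact Nat.eq_of_mul_eq_mul_right hpos h1
  obtain ⟨k, hk⟩ := IsPGroup.iff_card.mp hP₀
  have hcop : (Nat.card N).Coprime N.index := by
    rw [hNcard, hNidx, hk]
    exact Nat.Coprime.pow_left k hX.symm
  obtain ⟨H, hH⟩ := Subgroup.exists_right_complement'_of_coprime hcop
  have hHcard : Nat.card H = Nat.card X := by rw [← hNidx]; exact hH.symm.index_eq_card.symm
  have hdisj : ∀ x : ↥L, x ∈ N → x ∈ H → x = 1 := by
    intro x hxN hxH
    have := hH.disjoint
    rw [Subgroup.disjoint_def] at this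
    exact this hxN hxH
  refine ⟨H, hH, ?_, ?_⟩
  · intro h hh h1
    rw [eq_bot_iff]
    intro n hn
    rw [Subgroup.mem_bot]
    have hnN : n ∈ N := hn.1
    have hnc : n ∈ Subgroup.centralizer ({h} : Set ↥L) := hn.2
    rw [Subgroup.mem_centralizer_iff] at hnc
    have hcomm : h * n = n * h := hnc h rfl
    have ho : (orderOf ((h : ↥L) : G)).Coprime p := by
      rw [Subgroup.orderOf_coe]
      have : orderOf h ∣ Nat.card H := by
        have := orderOf_dvd_natCard (⟨h, hh⟩ : H)
        rwa [Subgroup.orderOf_mk] at this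
      rw [hHcard] at this
      exact Nat.Coprime.coprime_dvd_left this hX
    have hne : ((h : ↥L) : G) ≠ 1 := fun e => h1 (Subtype.ext e)
    have hmem : ((n : ↥L) : G) ∈ P₀ ⊓ Subgroup.centralizer ({((h : ↥L) : G)} : Set G) := by
      refine ⟨Subgroup.mem_subgroupOf.mp hnN, ?_⟩
      show ((n : ↥L) : G) ∈ Subgroup.centralizer ({((h : ↥L) : G)} : Set G)
      rw [Subgroup.mem_centralizer_iff]
      intro y hy
      rw [Set.mem_singleton_iff] at hy
      rw [hy]
      exact congrArg Subtype.val hcomm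
    rw [hfpf _ hne ho, Subgroup.mem_bot] at hmem
    exact Subtype.ext hmem
  · let f : ↥H →* ↥X :=
      { toFun := fun h => ⟨π ((h : ↥L) : G), (h : ↥L).2⟩
        map_one' := by
          apply Subtype.ext
          show π ((1 : ↥L) : G) = 1
          simp
        map_mul' := fun a b => by
          apply Subtype.ext
          show π (((a * b : H) : ↥L) : G) = π ((a : ↥L) : G) * π ((b : ↥L) : G)
          simp }
    have hfinj : Function.Injective f := by
      rw [injective_iff_map_eq_one]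
      intro h hh
      have h1 : π ((h : ↥L) : G) = 1 := congrArg Subtype.val hh
      rw [hπ, QuotientGroup.mk'_apply, QuotientGroup.eq_one_iff] at h1
      have h2 : (h : ↥L) ∈ N := Subgroup.mem_subgroupOf.mpr h1
      exact Subtype.ext (hdisj _ h2 h.2)
    have hfbij : Function.Bijective f :=
      (Nat.bijective_iff_injective_and_card f).mpr ⟨hfinj, hHcard⟩
    exact ⟨MulEquiv.ofBijective f hfbij, fun h => rfl⟩

/-- Consequences for `p'`-subgroups of `G ⧸ P₀`: they behave like Frobenius complements. -/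
theorem fc_pkg {G : Type*} [Group G] [Finite G] {p : ℕ} [Fact p.Prime] (P₀ : Subgroup G)
    [P₀.Normal] (hP₀ : IsPGroup p P₀) (hP₀ne : P₀ ≠ ⊥)
    (hfpf : ∀ a : G, a ≠ 1 → (orderOf a).Coprime p →
      P₀ ⊓ Subgroup.centralizer ({a} : Set G) = ⊥)
    (X : Subgroup (G ⧸ P₀)) (hX : (Nat.card X).Coprime p) :
    (Odd (Nat.card X) → IsZGroup X) ∧
    (2 ∣ Nat.card X → ∃ s ∈ X, orderOf s = 2 ∧ ∀ t ∈ X, orderOf t = 2 → t = s) ∧
    (∀ r q : ℕ, r.Prime → q.Prime → Nat.card X = r * q → Group.IsSolvable X → IsCyclic X) := by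
  set L := X.comap (QuotientGroup.mk' P₀) with hL
  set N := P₀.subgroupOf L with hN
  obtain ⟨H, hH, hHfpf, ψ, hψ⟩ := liftPkg P₀ hP₀ hfpf X hX
  have hNne : N ≠ ⊥ := by
    intro h
    apply hP₀ne
    rw [eq_bot_iff]
    intro x hx
    have hxL : x ∈ L := by
      rw [hL, Subgroup.mem_comap]
      have : QuotientGroup.mk' P₀ x = 1 := by
        rw [QuotientGroup.mk'_apply, QuotientGroup.eq_one_iff]; exact hx
      rw [this]; exact X.one_mem
    have : (⟨x, hxL⟩ : ↥L) ∈ N := Subgroup.mem_subgroupOf.mpr hx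
    rw [h, Subgroup.mem_bot] at this
    rw [Subgroup.mem_bot]
    exact congrArg Subtype.val this
  have hcard : Nat.card H = Nat.card X := Nat.card_congr ψ.toEquiv
  refine ⟨?_, ?_, ?_⟩
  · intro hodd
    haveI : IsZGroup H := isZGroup_of_fpf_of_odd N H hH hNne hHfpf (by rw [hcard]; exact hodd)
    exact IsZGroup.of_surjective (f := ψ.toMonoidHom) ψ.surjective
  · intro h2
    obtain ⟨⟨s, hsH, hso, huniq, -⟩, -⟩ :=
      Cfsg.Agent.S0068.result N H hH hNne hHfpf (by rw [hcard]; exact h2)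
    refine ⟨(ψ ⟨s, hsH⟩ : G ⧸ P₀), (ψ ⟨s, hsH⟩).2, ?_, ?_⟩
    · rw [Subgroup.orderOf_coe, MulEquiv.orderOf_eq, Subgroup.orderOf_mk, hso]
    · intro t ht hto
      have h1 : orderOf ((ψ.symm ⟨t, ht⟩ : H) : ↥L) = 2 := by
        rw [Subgroup.orderOf_coe, MulEquiv.orderOf_eq, Subgroup.orderOf_mk, hto]
      have h2 := huniq _ (ψ.symm ⟨t, ht⟩).2 h1
      have h3 : ψ.symm ⟨t, ht⟩ = ⟨s, hsH⟩ := Subtype.ext h2
      have h4 : (⟨t, ht⟩ : X) = ψ ⟨s, hsH⟩ := by rw [← h3, MulEquiv.apply_symm_apply]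
      exact congrArg Subtype.val h4
  · intro r q hr hq hrq hsolv
    haveI : Group.IsSolvable H :=
      Group.isSolvable_of_isSolvable_injective (f := ψ.toMonoidHom) ψ.injective
    have hE : Nat.card H = r * q := by rw [hcard, hrq]
    haveI : IsCyclic H :=
      Lib.Helper02.cyclic_of_card_mul_of_fpf N H hNne hHfpf H le_rfl inferInstance r q hr hq hE
    exact isCyclic_of_surjective ψ.toMonoidHom ψ.surjective

end Cfsg.Agent.Lib.Helper01
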