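import Mathlib

set_option autoImplicit false

namespace Cfsg.Agent.Lib.Helper01

/-- a power of an element of order divisible by a prime has that prime order -/
theorem orderOf_pow_orderOf_div {G : Type*} [Group G] [Finite G] {p : ℕ} (hp : p.Prime) (x : G)
    (hx : p ∣ orderOf x) : orderOf (x ^ (orderOf x / p)) = p := by
  have hpos : 0 < orderOf x := orderOf_pos x
  have hne : orderOf x / p ≠ 0 := by
    intro h
    rw [Nat.div_eq_zero_iff] at h
    rcases h with h | h
    · exact hp.ne_zero h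
    · exact absurd (Nat.le_of_dvd hpos hx) (not_le.mpr h)
  rw [orderOf_pow_of_dvd hne (Nat.div_dvd_of_dvd hx)]
  exact Nat.div_div_self hx hpos.ne'

/-- a Sylow subgroup contained in a nilpotent normal subgroup is normal -/
theorem sylow_normal_of_le_nilpotent_normal {G : Type*} [Group G] [Finite G] {p : ℕ}
    [Fact p.Prime] (P : Sylow p G) (C : Subgroup G) [hCn : C.Normal] (hC : Group.IsNilpotent C)
    (hPC : (P : Subgroup G) ≤ C) : (P : Subgroup G).Normal := by
  obtain S : Sylow p C := default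
  haveI : (S : Subgroup C).Normal := inferInstance
  -- every p-subgroup of C lies in S
  have hle : ∀ R : Subgroup C, IsPGroup p R → R ≤ (S : Subgroup C) := by
    intro R hR
    obtain ⟨S', hS'⟩ := hR.exists_le_sylow
    obtain ⟨g, hg⟩ := MulAction.exists_smul_eq C S S'
    have : S' = S := by
      rw [← hg]
      exact Sylow.smul_eq_of_normal
    rw [← this]; exact hS'
  set P₁ : Subgroup G := (S : Subgroup C).map C.subtype with hP₁
  have hP₁p : IsPGroup p P₁ := S.isPGroup'.map _
  have hPP₁ : (P : Subgroup G) ≤ P₁ := by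
    intro x hx
    have h1 : (⟨x, hPC hx⟩ : C) ∈ (P : Subgroup G).subgroupOf C := Subgroup.mem_subgroupOf.mpr hx
    have h2 : IsPGroup p ((P : Subgroup G).subgroupOf C) :=
      P.isPGroup'.comap_of_injective C.subtype C.subtype_injective
    exact ⟨⟨x, hPC hx⟩, hle _ h2 h1, rfl⟩
  have hP₁P : P₁ = P := P.is_maximal' hP₁p hPP₁
  constructor
  intro x hx g
  have hxC : g * x * g⁻¹ ∈ C := hCn.conj_mem x (hPC hx) g
  have hR : IsPGroup p (Subgroup.zpowers (⟨g * x * g⁻¹, hxC⟩ : C)) := by
    obtain ⟨k, hk⟩ := (IsPGroup.iff_orderOf.mp P.isPGroup') ⟨x, hx⟩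
    rw [Subgroup.orderOf_mk] at hk
    refine IsPGroup.of_card (n := k) ?_
    rw [Nat.card_zpowers, ← Subgroup.orderOf_coe]
    show orderOf (g * x * g⁻¹) = p ^ k
    rw [← MulAut.conj_apply, MulEquiv.orderOf_eq, hk]
  have := hle _ hR (Subgroup.mem_zpowers _)
  rw [← hP₁P]
  exact ⟨⟨g * x * g⁻¹, hxC⟩, this, rfl⟩

end Cfsg.Agent.Lib.Helper01
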