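import Mathlib
import Cfsg.Agent.Lib.Helper01.CoprimeSylow

set_option autoImplicit false

namespace Cfsg.Agent.Lib.Helper01

open scoped Pointwise

variable {G : Type*} [Group G]

/-- A `p`-subgroup `V` of `K` of index divisible by `p` has index divisible by `p` in `N_K(V)`. -/
theorem dvd_relIndex_normalizer_inf [Finite G] {p : ℕ} [Fact p.Prime] {V K : Subgroup G}
    (hVK : V ≤ K) (hV : IsPGroup p V) (hdvd : p ∣ V.relIndex K) :
    p ∣ V.relIndex (Subgroup.normalizer (V : Set G) ⊓ K) := by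
  obtain ⟨n, hn⟩ := IsPGroup.iff_card.mp hV
  have hcard : Nat.card (V.subgroupOf K) = p ^ n := by rw [card_subgroupOf_of_le hVK, hn]
  have key := Sylow.card_quotient_normalizer_modEq_card_quotient hcard
  have h1 : Nat.card (K ⧸ V.subgroupOf K) = V.relIndex K := rfl
  have h2 : Nat.card (↥(Subgroup.normalizer ((V.subgroupOf K : Subgroup K) : Set K)) ⧸
      Subgroup.comap (Subgroup.normalizer ((V.subgroupOf K : Subgroup K) : Set K)).subtype
        (V.subgroupOf K)) = V.relIndex (Subgroup.normalizer (V : Set G) ⊓ K) := by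
    change (V.subgroupOf K).relIndex (Subgroup.normalizer ((V.subgroupOf K : Subgroup K) : Set K)) = _
    rw [← Subgroup.subgroupOf_normalizer_eq hVK,
      ← Subgroup.inf_subgroupOf_right (Subgroup.normalizer (V : Set G)) K,
      Subgroup.relIndex_subgroupOf inf_le_right]
  rw [h1, h2] at key
  exact (key.dvd_iff dvd_rfl).mpr hdvd

/-- Coprime action: an invariant `p`-subgroup lies in an invariant Sylow `p`-subgroup. -/
theorem exists_invariant_isSylowIn_ge [Finite G] {A K U : Subgroup G} (p : ℕ) [Fact p.Prime]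
    (hAK : A ≤ Subgroup.normalizer (K : Set G)) (hcop : (Nat.card A).Coprime (Nat.card K))
    (hsolv : Group.IsSolvable A ∨ Group.IsSolvable K)
    (hUK : U ≤ K) (hU : IsPGroup p U) (hUA : A ≤ Subgroup.normalizer (U : Set G)) :
    ∃ P : Subgroup G, IsSylowIn p P K ∧ U ≤ P ∧ A ≤ Subgroup.normalizer (P : Set G) := by
  let 𝒮 : Set (Subgroup G) :=
    {V | U ≤ V ∧ V ≤ K ∧ IsPGroup p V ∧ A ≤ Subgroup.normalizer (V : Set G)}
  have hfin : 𝒮.Finite := Set.toFinite 𝒮
  have hne : 𝒮.Nonempty := ⟨U, le_rfl, hUK, hU, hUA⟩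
  obtain ⟨V, ⟨hUV, hVK, hVp, hVA⟩, hmax⟩ := Set.exists_max_image 𝒮 (fun V => Nat.card V) hfin hne
  refine ⟨V, ⟨hVK, hVp, ?_⟩, hUV, hVA⟩
  intro hdvd
  set K₁ : Subgroup G := Subgroup.normalizer (V : Set G) ⊓ K with hK₁
  have hK₁K : K₁ ≤ K := inf_le_right
  have hVK₁ : V ≤ K₁ := le_inf Subgroup.le_normalizer hVK
  have hANV : A ≤ Subgroup.normalizer ((Subgroup.normalizer (V : Set G) : Subgroup G) : Set G) := by
    rw [le_normalizer_iff_conj_smul]
    intro a ha
    rw [← normalizer_conj_smul, mem_normalizer_iff_conj_smul.mp (hVA ha)]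
  have hAK₁ : A ≤ Subgroup.normalizer (K₁ : Set G) :=
    (le_inf hANV hAK).trans Subgroup.inf_normalizer_le_normalizer_inf
  have hcop₁ : (Nat.card A).Coprime (Nat.card K₁) :=
    Nat.Coprime.coprime_dvd_right (Subgroup.card_dvd_of_le hK₁K) hcop
  have hsolv₁ : Group.IsSolvable A ∨ Group.IsSolvable K₁ := by
    rcases hsolv with h | h
    · exact Or.inl h
    · exact Or.inr (isSolvable_of_le hK₁K h)
  obtain ⟨S, ⟨hSK₁, hSp, hSrel⟩, hSA⟩ := exists_invariant_isSylowIn p hAK₁ hcop₁ hsolv₁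
  have hSNV : S ≤ Subgroup.normalizer (V : Set G) := hSK₁.trans inf_le_left
  have hWp : IsPGroup p (S ⊔ V : Subgroup G) := IsPGroup.to_sup_of_normal_right' hSp hVp hSNV
  have hWA : A ≤ Subgroup.normalizer ((S ⊔ V : Subgroup G) : Set G) :=
    (le_inf hSA hVA).trans (Subgroup.normalizer_inf_normalizer_le_normalizer_sup S V)
  have hWmem : (S ⊔ V : Subgroup G) ∈ 𝒮 :=
    ⟨hUV.trans le_sup_right, sup_le (hSK₁.trans hK₁K) hVK, hWp, hWA⟩
  have hle := hmax _ hWmem
  have hVW : V = S ⊔ V := Subgroup.eq_of_le_of_card_ge le_sup_right hle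
  have hSV : S ≤ V := by rw [hVW]; exact le_sup_left
  have h1 : V.relIndex K₁ ∣ S.relIndex K₁ := Subgroup.relIndex_dvd_of_le_left K₁ hSV
  have h2 : p ∣ V.relIndex K₁ := dvd_relIndex_normalizer_inf hVK hVp hdvd
  exact hSrel (h2.trans h1)

end Cfsg.Agent.Lib.Helper01
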