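import Mathlib
import Cfsg.Agent.Lib.Helper01.Hall
import Cfsg.Agent.Lib.Helper01.PPrimeCore

set_option autoImplicit false

namespace Cfsg.Agent.Lib.Helper01

open scoped Pointwise

universe u

/-- Key lemma for Hall–Higman 1.2.3: a finite solvable group `C` with a central `p`-subgroup `Z`
containing every normal `p`-subgroup, and with no nontrivial normal `p'`-subgroup, equals `Z`. -/
theorem eq_top_of_central_pSubgroup {C : Type u} [Group C] [Finite C] [Group.IsSolvable C]
    (p : ℕ) [hp : Fact p.Prime] (Z : Subgroup C) (hZc : Z ≤ Subgroup.center C) (hZp : IsPGroup p Z)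
    (hi : ∀ N : Subgroup C, N.Normal → IsPGroup p N → N ≤ Z)
    (hii : ∀ N : Subgroup C, N.Normal → (Nat.card N).Coprime p → N = ⊥) : Z = ⊤ := by
  have hZn : Z.Normal := by
    constructor
    intro n hn g
    have := Subgroup.mem_center_iff.mp (hZc hn) g
    have h2 : g * n * g⁻¹ = n := by rw [this, mul_assoc, mul_inv_cancel, mul_one]
    rw [h2]; exact hn
  by_contra hne
  have hnontriv : Nontrivial (C ⧸ Z) := by
    rw [← Finite.one_lt_card_iff_nontrivial, ← Subgroup.index_eq_card]
    have h1 : Z.index ≠ 1 := fun h => hne (Subgroup.index_eq_one.mp h)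
    have h2 : Z.index ≠ 0 := Subgroup.index_ne_zero_of_finite
    omega
  obtain ⟨q, hq, Qb, hQbn, hQbq, hQbne⟩ :=
    exists_normal_pSubgroup_of_solvable (inferInstance : Group.IsSolvable (C ⧸ Z))
  have : Fact q.Prime := ⟨hq⟩
  set f := QuotientGroup.mk' Z with hf
  have hsurj : Function.Surjective f := QuotientGroup.mk'_surjective Z
  have hker : f.ker = Z := QuotientGroup.ker_mk' Z
  set Q : Subgroup C := Qb.comap f with hQ
  have hQn : Q.Normal := hQbn.comap f
  have hZQ : Z ≤ Q := by
    intro x hx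
    rw [hQ, Subgroup.mem_comap, MonoidHom.mem_ker.mp (hker.ge hx)]
    exact Qb.one_mem
  have hQcard : Nat.card Q = Nat.card Qb * Nat.card Z := by
    rw [hQ, card_comap_of_surjective f hsurj, hker]
  have hQmap : Q.map f = Qb := Subgroup.map_comap_eq_self_of_surjective hsurj Qb
  obtain ⟨a, ha⟩ := IsPGroup.iff_card.mp hZp
  obtain ⟨b, hb⟩ := IsPGroup.iff_card.mp hQbq
  by_cases hqp : q = p
  · -- Q is a normal p-subgroup, so Q ≤ Z
    have hQp : IsPGroup p Q := by
      apply IsPGroup.of_card (n := b + a)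
      rw [hQcard, hb, ha, hqp, pow_add]
    have hQZ : Q ≤ Z := hi Q hQn hQp
    apply hQbne
    rw [← hQmap, eq_bot_iff]
    rintro _ ⟨x, hx, rfl⟩
    rw [Subgroup.mem_bot]
    exact (QuotientGroup.eq_one_iff x).mpr (hQZ hx)
  · have hcop : (Nat.card Z).Coprime (q ^ b) := by
      rw [ha]
      exact Nat.Coprime.pow _ _ ((Nat.coprime_primes hp.out hq).mpr (Ne.symm hqp))
    have hnormZ : ∀ L : Subgroup C, L ≤ Subgroup.normalizer (Z : Set C) := by
      intro L; rw [Subgroup.normalizer_eq_top]; exact le_top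
    obtain ⟨Q₀, hQ₀Q, hQ₀card⟩ := sz_exists_in Q Z hZQ (hnormZ Q) (q ^ b)
      (by rw [hQcard, hb, mul_comm]) hcop
    have hZsolv : Group.IsSolvable Z := by
      have : Group.IsNilpotent Z := hZp.isNilpotent
      infer_instance
    have hQeq : Q₀ ⊔ Z = Q := by
      apply Subgroup.eq_of_le_of_card_ge (sup_le hQ₀Q hZQ)
      rw [card_sup_of_coprime Z Q₀ (hQ₀card.symm ▸ hcop), hQcard, hb, hQ₀card, mul_comm]
    have hQ₀n : Q₀.Normal := by
      apply Subgroup.Normal.of_conjugate_fixed
      intro g
      have h1 : MulAut.conj g • Q₀ ≤ Q := by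
        have : MulAut.conj g • Q₀ ≤ MulAut.conj g • Q :=
          Subgroup.pointwise_smul_le_pointwise_smul_iff.mpr hQ₀Q
        rwa [conj_smul_normal g Q] at this
      obtain ⟨x, hx, hxQ⟩ := sz_conj_in Q Z Q₀ (MulAut.conj g • Q₀) hZQ hQ₀Q h1 (hnormZ Q)
        (by rw [hQcard, hb, hQ₀card, mul_comm]) (hQ₀card.symm ▸ hcop) (card_conj_smul g Q₀)
        (Or.inl hZsolv)
      rw [← hxQ]
      rw [← hQeq] at hx
      obtain ⟨y, hy, z, hz, rfl⟩ := Subgroup.mem_sup_of_normal_right.mp hx
      rw [← conj_smul_conj_smul]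
      have hzn : z ∈ Subgroup.normalizer (Q₀ : Set C) := Subgroup.center_le_normalizer _ (hZc hz)
      rw [mem_normalizer_iff_conj_smul.mp hzn, Subgroup.conj_smul_eq_self_of_mem hy]
    have hQ₀bot : Q₀ = ⊥ := hii Q₀ hQ₀n (by
      rw [hQ₀card]
      exact Nat.Coprime.pow_left _ ((Nat.coprime_primes hq hp.out).mpr hqp))
    apply hQbne
    rw [← Subgroup.card_eq_one, hb, ← hQ₀card, hQ₀bot, Subgroup.card_bot]

/-- Hall–Higman Lemma 1.2.3. -/
theorem centralizer_pCore_le {G : Type u} [Group G] [Finite G] [Group.IsSolvable G] (p : ℕ)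
    [Fact p.Prime] (h : Cfsg.pPrimeCore p G = ⊥) :
    Subgroup.centralizer (Cfsg.pCore p G : Set G) ≤ Cfsg.pCore p G := by
  set P := Cfsg.pCore p G with hP
  have hPn : P.Normal := pCore_normal p
  set C := Subgroup.centralizer (P : Set G) with hC
  have hCn : C.Normal := Subgroup.normal_centralizer
  have key : P.subgroupOf C = ⊤ := by
    apply eq_top_of_central_pSubgroup p
    · -- central
      intro x hx
      rw [Subgroup.mem_center_iff]
      intro y
      apply Subtype.ext
      have hy : (y : G) ∈ Subgroup.centralizer (P : Set G) := y.2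
      rw [Subgroup.mem_centralizer_iff] at hy
      have := hy (x : G) (Subgroup.mem_subgroupOf.mp hx)
      simpa using this.symm
    · exact (pCore_isPGroup p).comap_subtype
    · intro N hNn hNp
      have hchar : (Cfsg.pCore p C).Characteristic := pCore_characteristic p
      have h1 : ((Cfsg.pCore p C).map C.subtype).Normal :=
        ConjAct.normal_of_characteristic_of_normal
      have h2 : (Cfsg.pCore p C).map C.subtype ≤ P :=
        le_pCore h1 ((pCore_isPGroup p).map _)
      intro x hx
      rw [Subgroup.mem_subgroupOf]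
      exact h2 ⟨x, le_pCore hNn hNp hx, rfl⟩
    · intro N hNn hNc
      have hchar : (Cfsg.pPrimeCore p C).Characteristic := pPrimeCore_characteristic p
      have h1 : ((Cfsg.pPrimeCore p C).map C.subtype).Normal :=
        ConjAct.normal_of_characteristic_of_normal
      have h2 : (Cfsg.pPrimeCore p C).map C.subtype ≤ Cfsg.pPrimeCore p G := by
        apply le_pPrimeCore h1
        rw [Subgroup.card_map_of_injective C.subtype_injective]
        exact pPrimeCore_card_coprime p
      rw [h, le_bot_iff, Subgroup.map_eq_bot_iff_of_injective _ C.subtype_injective] at h2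
      rw [eq_bot_iff, ← h2]
      exact le_pPrimeCore hNn hNc
  intro x hx
  have : (⟨x, hx⟩ : C) ∈ P.subgroupOf C := by rw [key]; exact Subgroup.mem_top _
  exact Subgroup.mem_subgroupOf.mp this

end Cfsg.Agent.Lib.Helper01
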