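import Mathlib
import Cfsg.Agent.Lib.Helper01.Hall
import Cfsg.Agent.S0007

set_option autoImplicit false

namespace Cfsg.Agent.Lib.Helper01

open scoped Pointwise

variable {G : Type*} [Group G]

/-- index of a finite intersection of subgroups with pairwise coprime indices -/
theorem index_biInf_of_coprime [Finite G] {ι : Type*} [DecidableEq ι] (H : ι → Subgroup G)
    (s : Finset ι) (hcop : ∀ i ∈ s, ∀ j ∈ s, i ≠ j → (H i).index.Coprime (H j).index) :
    (⨅ i ∈ s, H i).index = ∏ i ∈ s, (H i).index := by
  induction s using Finset.induction_on with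
  | empty => simp
  | insert a s ha ih =>
    rw [Finset.iInf_insert, Finset.prod_insert ha]
    have ih' := ih (fun i hi j hj hij =>
      hcop i (Finset.mem_insert_of_mem hi) j (Finset.mem_insert_of_mem hj) hij)
    have hc : (H a).index.Coprime (⨅ i ∈ s, H i).index := by
      rw [ih']
      apply Nat.Coprime.prod_right
      intro i hi
      exact hcop a (Finset.mem_insert_self a s) i (Finset.mem_insert_of_mem hi)
        (fun h => ha (h ▸ hi))
    rw [(Cfsg.Agent.S0007.result (H a) (⨅ i ∈ s, H i) hc).1, ih']

/-- If `A, B ≤ D` are disjoint with `|A| |B| = |D|` then `A * B = D` as sets. -/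
theorem coe_mul_eq_of_card [Finite G] {A B D : Subgroup G} (hA : A ≤ D) (hB : B ≤ D)
    (hdisj : Disjoint A B) (hcard : Nat.card A * Nat.card B = Nat.card D) :
    (A : Set G) * (B : Set G) = (D : Set G) := by
  have hdisj' : Disjoint (A.subgroupOf D) (B.subgroupOf D) := by
    rw [disjoint_iff, eq_bot_iff]
    intro x hx
    obtain ⟨hxA, hxB⟩ := Subgroup.mem_inf.mp hx
    have : (x : G) ∈ A ⊓ B := Subgroup.mem_inf.mpr
      ⟨Subgroup.mem_subgroupOf.mp hxA, Subgroup.mem_subgroupOf.mp hxB⟩
    rw [hdisj.eq_bot, Subgroup.mem_bot] at this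
    rw [Subgroup.mem_bot]
    exact Subtype.ext this
  have hcompl : Subgroup.IsComplement' (A.subgroupOf D) (B.subgroupOf D) :=
    Subgroup.isComplement'_of_card_mul_and_disjoint
      (by rw [card_subgroupOf_of_le hA, card_subgroupOf_of_le hB, hcard]) hdisj'
  ext d
  constructor
  · rintro ⟨a, ha, b, hb, rfl⟩
    exact D.mul_mem (hA ha) (hB hb)
  · intro hd
    have h1 := hcompl.mul_eq
    have h2 : (⟨d, hd⟩ : D) ∈ ((A.subgroupOf D : Subgroup D) : Set D) *
        ((B.subgroupOf D : Subgroup D) : Set D) := by
      rw [h1]; exact Set.mem_univ _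
    obtain ⟨a, ha, b, hb, hab⟩ := h2
    refine ⟨a, Subgroup.mem_subgroupOf.mp ha, b, Subgroup.mem_subgroupOf.mp hb, ?_⟩
    have := congrArg Subtype.val hab
    simpa using this

/-- A finite solvable group has a Sylow system. -/
theorem exists_sylow_system [Finite G] [Group.IsSolvable G] :
    ∃ S : (p : Nat.Primes) → Sylow (p : ℕ) G,
      ∀ p q : Nat.Primes, (S p : Set G) * (S q : Set G) = (S q : Set G) * (S p : Set G) := by
  classical
  set n := Nat.card G with hn
  have hn0 : n ≠ 0 := Nat.card_pos.ne'
  -- Hall p-complements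
  have hex : ∀ p : ℕ, ∃ H : Subgroup G, p.Prime → H.index = p ^ n.factorization p := by
    intro p
    by_cases hp : p.Prime
    · have hG : Nat.card G = (n / p ^ n.factorization p) * p ^ n.factorization p := by
        rw [mul_comm]; exact (Nat.ordProj_mul_ordCompl_eq_self n p).symm
      have hcop : (n / p ^ n.factorization p).Coprime (p ^ n.factorization p) :=
        (Nat.Coprime.pow_left _ (Nat.coprime_ordCompl hp hn0)).symm
      obtain ⟨H, hH⟩ := (hallProp (G := G) _ _ hG hcop).1
      refine ⟨H, fun _ => ?_⟩
      have h1 := H.card_mul_index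
      rw [hH, ← hn] at h1
      have h2 := Nat.ordProj_mul_ordCompl_eq_self n p
      have hpos : 0 < n / p ^ n.factorization p := Nat.ordCompl_pos p hn0
      have : n / p ^ n.factorization p * H.index = n / p ^ n.factorization p * p ^ n.factorization p := by
        rw [h1, mul_comm, h2]
      exact Nat.eq_of_mul_eq_mul_left hpos this
    · exact ⟨⊤, fun h => absurd h hp⟩
  choose H hH using hex
  -- coprimality of the indices
  have hcopidx : ∀ s : Finset ℕ, (∀ r ∈ s, r.Prime) →
      ∀ i ∈ s, ∀ j ∈ s, i ≠ j → (H i).index.Coprime (H j).index := by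
    intro s hs i hi j hj hij
    rw [hH i (hs i hi), hH j (hs j hj)]
    exact Nat.Coprime.pow _ _ ((Nat.coprime_primes (hs i hi) (hs j hj)).mpr hij)
  have hidx : ∀ s : Finset ℕ, (∀ r ∈ s, r.Prime) →
      (⨅ r ∈ s, H r).index = ∏ r ∈ s, r ^ n.factorization r := by
    intro s hs
    rw [index_biInf_of_coprime H s (hcopidx s hs)]
    exact Finset.prod_congr rfl (fun r hr => hH r (hs r hr))
  have hprod : ∏ r ∈ n.primeFactors, r ^ n.factorization r = n :=
    Nat.prod_factorization_pow_eq_self hn0
  have hprime_erase : ∀ q : ℕ, ∀ r ∈ n.primeFactors.erase q, r.Prime :=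
    fun q r hr => Nat.prime_of_mem_primeFactors (Finset.mem_of_mem_erase hr)
  have hfac0 : ∀ q : ℕ, q.Prime → q ∉ n.primeFactors → n.factorization q = 0 := by
    intro q hq hqn
    exact Nat.factorization_eq_zero_of_not_dvd
      (fun hdvd => hqn (Nat.mem_primeFactors.mpr ⟨hq, hdvd, hn0⟩))
  -- product over erase
  have hprod_erase : ∀ (s : Finset ℕ) (q : ℕ), (q ∈ s ∨ n.factorization q = 0) →
      q ^ n.factorization q * ∏ r ∈ s.erase q, r ^ n.factorization r =
        ∏ r ∈ s, r ^ n.factorization r := by
    intro s q hq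
    by_cases hqs : q ∈ s
    · exact Finset.mul_prod_erase s (fun r => r ^ n.factorization r) hqs
    · rcases hq with h | h
      · exact absurd h hqs
      · rw [Finset.erase_eq_of_notMem hqs, h, pow_zero, one_mul]
  have hmem_or : ∀ q : ℕ, q.Prime → (q ∈ n.primeFactors ∨ n.factorization q = 0) := by
    intro q hq
    by_cases h : q ∈ n.primeFactors
    · exact Or.inl h
    · exact Or.inr (hfac0 q hq h)
  -- the Sylow subgroups
  let T : ℕ → Subgroup G := fun q => ⨅ r ∈ n.primeFactors.erase q, H r
  have hTidx : ∀ q : ℕ, q.Prime → q ^ n.factorization q * (T q).index = n := by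
    intro q hq
    change q ^ n.factorization q * (⨅ r ∈ n.primeFactors.erase q, H r).index = n
    rw [hidx _ (hprime_erase q), hprod_erase _ q (hmem_or q hq), hprod]
  have hTcard : ∀ q : ℕ, q.Prime → Nat.card (T q) = q ^ (Nat.card G).factorization q := by
    intro q hq
    have h1 := (T q).card_mul_index
    have h2 := hTidx q hq
    have hpos : 0 < (T q).index := Nat.pos_of_ne_zero Subgroup.index_ne_zero_of_finite
    have : Nat.card (T q) * (T q).index = q ^ n.factorization q * (T q).index := by
      rw [h1, h2]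
    exact Nat.eq_of_mul_eq_mul_right hpos this
  refine ⟨fun p => @Sylow.ofCard G _ _ (p : ℕ) ⟨p.2⟩ (T p) (hTcard p p.2), ?_⟩
  intro p q
  by_cases hpq : (p : ℕ) = q
  · have : p = q := Subtype.ext hpq
    rw [this]
  · -- D = intersection over primes other than p, q
    set D : Subgroup G := ⨅ r ∈ (n.primeFactors.erase p).erase q, H r with hD
    have hDidx : (p : ℕ) ^ n.factorization p * ((q : ℕ) ^ n.factorization q * D.index) = n := by
      rw [hD, hidx _ (fun r hr => hprime_erase p r (Finset.mem_of_mem_erase hr))]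
      have hq' : (q : ℕ) ∈ n.primeFactors.erase p ∨ n.factorization q = 0 := by
        rcases hmem_or q q.2 with h | h
        · exact Or.inl (Finset.mem_erase.mpr ⟨fun h' => hpq h'.symm, h⟩)
        · exact Or.inr h
      rw [hprod_erase _ q hq', hprod_erase _ p (hmem_or p p.2), hprod]
    have hDcard : Nat.card (T p) * Nat.card (T q) = Nat.card D := by
      rw [hTcard p p.2, hTcard q q.2]
      have h1 := D.card_mul_index
      have hpos : 0 < D.index := Nat.pos_of_ne_zero Subgroup.index_ne_zero_of_finite
      have : (p : ℕ) ^ n.factorization p * (q : ℕ) ^ n.factorization q * D.index =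
          Nat.card D * D.index := by
        rw [h1, mul_assoc]; exact hDidx.trans hn
      exact Nat.eq_of_mul_eq_mul_right hpos this
    have hTpD : T p ≤ D := by
      apply le_iInf₂
      intro r hr
      exact iInf₂_le r (Finset.mem_of_mem_erase hr)
    have hTqD : T q ≤ D := by
      apply le_iInf₂
      intro r hr
      have hr' : r ∈ n.primeFactors.erase q := by
        rw [Finset.mem_erase] at hr ⊢
        exact ⟨hr.1, Finset.mem_of_mem_erase hr.2⟩
      exact iInf₂_le r hr'
    have hdisj : Disjoint (T p) (T q) := by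
      apply Subgroup.disjoint_of_coprime_natCard
      rw [hTcard p p.2, hTcard q q.2]
      exact Nat.Coprime.pow _ _ ((Nat.coprime_primes p.2 q.2).mpr hpq)
    have e1 := coe_mul_eq_of_card hTpD hTqD hdisj hDcard
    have e2 := coe_mul_eq_of_card hTqD hTpD hdisj.symm (by rw [mul_comm]; exact hDcard)
    change (T p : Set G) * (T q : Set G) = (T q : Set G) * (T p : Set G)
    rw [e1, e2]

end Cfsg.Agent.Lib.Helper01
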