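import Mathlib
import Cfsg.Prelude.Def_OddOrderLocal
import Cfsg.Agent.Lib.Helper01.SylowSystem
import Cfsg.Agent.Lib.Helper57.GTFam
import Cfsg.Agent.Lib.Helper68.Rank2PCentral
import Cfsg.Agent.S1453

/-!
# Narrow `p`-groups from a maximal elementary abelian subgroup of order `p ^ 2`
-/

set_option autoImplicit false

namespace Cfsg.Agent.Lib.Helper01.BGNarrow

open Cfsg
open scoped Pointwise

/-- the `p`-rank bound is invariant under isomorphism -/
theorem pRankLE_of_mulEquiv {R R' : Type*} [Group R] [Group R'] (e : R ≃* R') {p k : ℕ}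
    (h : PRankLE p k R) : PRankLE p k R' := by
  intro A hA hAp
  have hinj : Function.Injective (e.symm.toMonoidHom) := e.symm.injective
  have hA' : IsMulCommutative (A.map e.symm.toMonoidHom) := Subgroup.map_isMulCommutative A _
  have hAp' : ∀ a ∈ A.map e.symm.toMonoidHom, a ^ p = 1 := by
    rintro _ ⟨a, ha, rfl⟩
    rw [← map_pow, hAp a ha, map_one]
  have hcard : Nat.card (A.map e.symm.toMonoidHom) = Nat.card A :=
    Subgroup.card_map_of_injective hinj
  rw [← hcard]
  exact h _ hA' hAp'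

/-- narrowness is invariant under isomorphism -/
theorem isNarrow_of_mulEquiv {R R' : Type*} [Group R] [Group R'] (e : R ≃* R') {p : ℕ}
    (h : IsNarrow p R) : IsNarrow p R' := by
  rcases h with h | ⟨R₀, R₁, h0, h1, hdisj, hcomm, hsup⟩
  · exact Or.inl (pRankLE_of_mulEquiv e h)
  · right
    have hinj : Function.Injective (e.toMonoidHom) := e.injective
    refine ⟨R₀.map e.toMonoidHom, R₁.map e.toMonoidHom, ?_, ?_, ?_, ?_, ?_⟩
    · rw [Subgroup.card_map_of_injective hinj]; exact h0
    · have := h1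
      exact isCyclic_of_surjective (R₁.equivMapOfInjective e.toMonoidHom hinj)
        (MulEquiv.surjective _)
    · rw [← Subgroup.map_inf _ _ _ hinj, hdisj, Subgroup.map_bot]
    · rintro _ ⟨a, ha, rfl⟩ _ ⟨b, hb, rfl⟩
      rw [← map_mul, ← map_mul, hcomm a ha b hb]
    · rw [← Subgroup.map_sup, hsup]
      ext y
      constructor
      · rintro ⟨x, hx, rfl⟩
        rw [Subgroup.mem_centralizer_iff]
        rintro _ ⟨a, ha, rfl⟩
        rw [← map_mul, ← map_mul, Subgroup.mem_centralizer_iff.1 hx a ha]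
      · intro hy
        refine ⟨e.symm y, ?_, by simp⟩
        change e.symm y ∈ Subgroup.centralizer ((R₀ : Subgroup R) : Set R)
        rw [Subgroup.mem_centralizer_iff]
        intro a ha
        apply e.injective
        have := Subgroup.mem_centralizer_iff.1 hy (e a) (Subgroup.mem_map_of_mem _ ha)
        simpa using this

/-- **Bender–Glauberman, Lemma 5.2 (d)-part.** A `p`-group (`p` odd) of rank at least three with
a maximal elementary abelian subgroup of order `p ^ 2` is narrow. -/
theorem isNarrow_of_maximal {R : Type*} [Group R] [Finite R] (p : ℕ) [hp : Fact p.Prime]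
    (hp2 : p ≠ 2) (hR : IsPGroup p R) (hr : ¬ PRankLE p 2 R) (E : Subgroup R)
    (hE : IsElementaryAbelian p E) (hE2 : Nat.card E = p ^ 2)
    (hEmax : ∀ B : Subgroup R, IsElementaryAbelian p B → E ≤ B → B = E) : IsNarrow p R := by
  classical
  obtain ⟨hET, hZcard, -, hTchar, hTidx⟩ :=
    Cfsg.Agent.S1453.result p hp2 hR hr E hE hE2 hEmax
  set W : Subgroup R :=
    Subgroup.closure {x : R | x ∈ Subgroup.upperCentralSeries R 2 ∧ x ^ p = 1} with hW
  set T : Subgroup R := Subgroup.centralizer (W : Set R) with hT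
  set Z : Subgroup R := Subgroup.closure {x : R | x ∈ Subgroup.center R ∧ x ^ p = 1} with hZ
  obtain ⟨x, hxE, hxT⟩ := SetLike.not_le_iff_exists.1 hET
  have hxp : x ^ p = 1 := hE.2 x hxE
  have hx1 : x ≠ 1 := fun h => hxT (h ▸ T.one_mem)
  have hTn : T.Normal := by have := hTchar; infer_instance
  have hZcen : Z ≤ Subgroup.center R := by
    rw [hZ, Subgroup.closure_le]; intro y hy; exact hy.1
  have hZexp : ∀ z ∈ Z, z ^ p = 1 := by
    intro z hz
    induction hz using Subgroup.closure_induction with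
    | mem y hy => exact hy.2
    | one => exact one_pow _
    | mul a b ha hb iha ihb =>
      have hac : a ∈ Subgroup.center R := hZcen ha
      have hcomm : Commute a b := (Subgroup.mem_center_iff.1 hac b).symm
      rw [hcomm.mul_pow, iha, ihb, one_mul]
    | inv a ha iha => rw [inv_pow, iha, inv_one]
  have hmemE : ∀ y : R, y ^ p = 1 → (∀ a ∈ E, a * y = y * a) → y ∈ E := by
    intro y hy hc
    have hB := Cfsg.Agent.Lib.Helper57.GT.isElem_sup_zpowers hE hy hc
    have h1 := hEmax _ hB le_sup_left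
    rw [← h1]
    exact (le_sup_right : Subgroup.zpowers y ≤ _) (Subgroup.mem_zpowers y)
  have hZE : Z ≤ E := by
    intro z hz
    exact hmemE z (hZexp z hz) (fun a _ => Subgroup.mem_center_iff.1 (hZcen hz) a)
  have hZT : Z ≤ T := hZcen.trans (Subgroup.center_le_centralizer _)
  -- the subgroup generated by `x`
  set R₀ : Subgroup R := Subgroup.zpowers x with hR₀
  have hR₀card : Nat.card R₀ = p := by
    rw [hR₀, Nat.card_zpowers]
    exact orderOf_eq_prime hxp hx1
  have hR₀E : R₀ ≤ E := by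
    rw [hR₀, Subgroup.zpowers_le]; exact hxE
  have hR₀T : R₀ ⊓ T = ⊥ := by
    have hfact : Fact (Nat.card ↥R₀).Prime := ⟨hR₀card ▸ hp.1⟩
    have h1 := Subgroup.eq_bot_or_eq_top_of_prime_card (T.subgroupOf R₀)
    rcases h1 with h1 | h1
    · rw [Subgroup.subgroupOf_eq_bot] at h1
      rw [inf_comm]
      exact h1.eq_bot
    · rw [Subgroup.subgroupOf_eq_top] at h1
      exact absurd (h1 (Subgroup.mem_zpowers x)) hxT
  set C : Subgroup R := Subgroup.centralizer ((R₀ : Subgroup R) : Set R) with hC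
  have hxC : ∀ c ∈ C, x * c = c * x := fun c hc =>
    Subgroup.mem_centralizer_iff.1 hc x (Subgroup.mem_zpowers x)
  have hR₀C : R₀ ≤ C := by
    intro a ha
    rw [hC, Subgroup.mem_centralizer_iff]
    intro h hh
    obtain ⟨i, rfl⟩ := Subgroup.mem_zpowers_iff.1 ha
    obtain ⟨j, rfl⟩ := Subgroup.mem_zpowers_iff.1 hh
    exact zpow_mul_comm x j i
  have hZC : Z ≤ C := hZcen.trans (Subgroup.center_le_centralizer _)
  set R₁ : Subgroup R := T ⊓ C with hR₁
  -- `E = R₀ Z`
  have hEprod : ((R₀ : Subgroup R) : Set R) * (Z : Set R) = (E : Set R) := by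
    apply Cfsg.Agent.Lib.Helper01.coe_mul_eq_of_card hR₀E hZE
    · rw [disjoint_iff]
      apply le_antisymm _ bot_le
      rw [← hR₀T]
      exact inf_le_inf_left _ hZT
    · rw [hR₀card, hZcard, hE2, pow_two]
  have hE_comm : ∀ y ∈ R₁, ∀ a ∈ E, a * y = y * a := by
    intro y hy a ha
    have ha' : a ∈ ((R₀ : Subgroup R) : Set R) * (Z : Set R) := by rw [hEprod]; exact ha
    obtain ⟨u, hu, z, hz, rfl⟩ := Set.mem_mul.1 ha'
    have h1 : u * y = y * u := Subgroup.mem_centralizer_iff.1 hy.2 u hu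
    have h2 : z * y = y * z := Subgroup.mem_center_iff.1 (hZcen hz) y |>.symm ▸ rfl
    calc u * z * y = u * (z * y) := mul_assoc _ _ _
      _ = u * (y * z) := by rw [h2]
      _ = (u * y) * z := (mul_assoc _ _ _).symm
      _ = (y * u) * z := by rw [h1]
      _ = y * (u * z) := mul_assoc _ _ _
  have hΩ : ∀ y ∈ R₁, y ^ p = 1 → y ∈ Z := by
    intro y hy hyp
    have hyE : y ∈ E := hmemE y hyp (hE_comm y hy)
    have hy' : y ∈ ((R₀ : Subgroup R) : Set R) * (Z : Set R) := by rw [hEprod]; exact hyE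
    obtain ⟨u, hu, z, hz, rfl⟩ := Set.mem_mul.1 hy'
    have huT : u ∈ T := by
      have h1 : u * z ∈ T := hy.1
      have h2 : z ∈ T := hZT hz
      have h3 : u = (u * z) * z⁻¹ := by group
      rw [h3]
      exact T.mul_mem h1 (T.inv_mem h2)
    have hu1 : u = 1 := by
      have : u ∈ R₀ ⊓ T := ⟨hu, huT⟩
      rw [hR₀T] at this
      exact Subgroup.mem_bot.1 this
    rw [hu1, one_mul]
    exact hz
  have hR₁cyc : IsCyclic ↥R₁ := by
    have hZR₁ : Z ≤ R₁ := le_inf hZT hZC
    apply Cfsg.Agent.Lib.Helper68.R2.isCyclic_of_om_le hp2 (hR.to_subgroup R₁) (Z.subgroupOf R₁)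
    · rw [Nat.card_congr (Subgroup.subgroupOfEquivOfLe hZR₁).toEquiv, hZcard]
    · intro y hy
      rw [Subgroup.mem_subgroupOf]
      apply hΩ y.1 y.2
      have := congrArg Subtype.val hy
      simpa using this
  right
  refine ⟨R₀, R₁, hR₀card, hR₁cyc, ?_, ?_, ?_⟩
  · apply le_antisymm _ bot_le
    rw [← hR₀T]
    exact inf_le_inf_left _ inf_le_left
  · intro a ha b hb
    exact Subgroup.mem_centralizer_iff.1 hb.2 a ha
  · apply le_antisymm
    · exact sup_le hR₀C inf_le_right
    · intro c hc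
      -- the quotient by `T` has order `p` and is generated by the image of `x`
      have hcardQ : Nat.card (R ⧸ T) = p := by
        rw [← Subgroup.index_eq_card]; exact hTidx
      have hmk : (QuotientGroup.mk x : R ⧸ T) ≠ 1 := by
        intro h
        exact hxT ((QuotientGroup.eq_one_iff x).1 h)
      have htop := zpowers_eq_top_of_prime_card (G := R ⧸ T) hcardQ hmk
      have hcm : (QuotientGroup.mk c : R ⧸ T) ∈ Subgroup.zpowers (QuotientGroup.mk x : R ⧸ T) := by
        rw [htop]; exact Subgroup.mem_top _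
      obtain ⟨k, hk⟩ := Subgroup.mem_zpowers_iff.1 hcm
      have h1 : (x ^ k)⁻¹ * c ∈ T := by
        rw [← QuotientGroup.eq, QuotientGroup.mk_zpow]
        exact hk
      have hxk : x ^ k ∈ R₀ := Subgroup.zpow_mem_zpowers x k
      have h2 : (x ^ k)⁻¹ * c ∈ C := C.mul_mem (C.inv_mem (hR₀C hxk)) hc
      have h3 : c = x ^ k * ((x ^ k)⁻¹ * c) := by group
      rw [h3]
      exact Subgroup.mul_mem_sup hxk ⟨h1, h2⟩

end Cfsg.Agent.Lib.Helper01.BGNarrow
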