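import Mathlib
import Cfsg.Agent.Lib.Helper31.BG12a
import Cfsg.Agent.Lib.Helper01.BGNarrow

/-!
# K-S1428-CJ (142812): `τ₂` is invariant under conjugation (also `τ₁`, `τ₃` rank parts)
-/

set_option autoImplicit false

namespace Cfsg.Agent.Lib.Helper01.BG134

open Cfsg Cfsg.Agent.Lib.Helper55

variable {G : Type*} [Group G] [Finite G]

/-- the isomorphism `M ≃* cj g M` -/
noncomputable def cjEquiv (g : G) (M : Subgroup G) : ↥M ≃* ↥(cj g M) :=
  Subgroup.equivMapOfInjective M (MulAut.conj g).toMonoidHom (MulAut.conj g).injective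

theorem pRankLE_cj_iff (g : G) (M : Subgroup G) (p k : ℕ) :
    PRankLE p k ↥(cj g M) ↔ PRankLE p k ↥M :=
  ⟨Cfsg.Agent.Lib.Helper01.BGNarrow.pRankLE_of_mulEquiv (cjEquiv g M).symm,
    Cfsg.Agent.Lib.Helper01.BGNarrow.pRankLE_of_mulEquiv (cjEquiv g M)⟩

theorem mem_sigma_cj_iff {p : ℕ} {M : Subgroup G} (g : G) : p ∈ sigma (cj g M) ↔ p ∈ sigma M := by
  constructor
  · intro h
    have : Fact p.Prime := ⟨h.1⟩
    have := Cfsg.Agent.Lib.Helper31.BG12.mem_sigma_cj h g⁻¹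
    rwa [cj_inv_cj] at this
  · intro h
    have : Fact p.Prime := ⟨h.1⟩
    exact Cfsg.Agent.Lib.Helper31.BG12.mem_sigma_cj h g

/-- KEYSTONE 142812  K-S1428-CJ. -/
theorem mem_tau2_cj {M : Subgroup G} {p : ℕ} (hp : p ∈ tau2 M) (g : G) : p ∈ tau2 (cj g M) := by
  obtain ⟨hpp, hσ, h2, h1⟩ := hp
  refine ⟨hpp, ?_, ?_, ?_⟩
  · rw [mem_sigma_cj_iff]; exact hσ
  · rw [pRankLE_cj_iff]; exact h2
  · rw [pRankLE_cj_iff]; exact h1

end Cfsg.Agent.Lib.Helper01.BG134
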