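import Mathlib
import Cfsg.Prelude.Def_OddOrderLocal
import Cfsg.Agent.Lib.Helper01.Fitting
import Cfsg.Agent.Lib.Helper01.PCore
import Cfsg.Agent.Lib.Helper14.NilpHall
import Cfsg.Agent.Lib.Helper55.Uniq2
import Cfsg.Agent.S1451

/-!
# A piece of Bender–Glauberman 9.5: a maximal subgroup with small Fitting subgroup
-/

set_option autoImplicit false

namespace Cfsg.Agent.Lib.Helper01.BG95

open Cfsg
open scoped commutatorElement

variable {G : Type*} [Group G] [Finite G] {p : ℕ} [Fact p.Prime]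

/-- a subgroup containing the derived subgroup is normal -/
theorem normal_of_commutator_le {K : Type*} [Group K] {N : Subgroup K}
    (h : commutator K ≤ N) : N.Normal := by
  refine ⟨fun n hn g => ?_⟩
  have h1 : ⁅g, n⁆ ∈ N :=
    h (by
      rw [commutator_def]
      exact Subgroup.commutator_mem_commutator (Subgroup.mem_top g) (Subgroup.mem_top n))
  have h2 : g * n * g⁻¹ = ⁅g, n⁆ * n := by
    rw [commutatorElement_def]; group
  rw [h2]
  exact N.mul_mem h1 hn

/-- the commutator subgroup of a subgroup, computed inside the subgroup -/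
theorem mem_commutator_subtype {M N : Subgroup G} (hNM : N ≤ M) {z : G} (hz : z ∈ ⁅N, N⁆)
    (hzM : z ∈ M) : (⟨z, hzM⟩ : ↥M) ∈ commutator ↥M := by
  have h1 : ⁅N, N⁆ ≤ (commutator ↥M).map M.subtype := by
    rw [Subgroup.commutator_le]
    intro g₁ h₁ g₂ h₂
    refine ⟨⁅(⟨g₁, hNM h₁⟩ : ↥M), ⟨g₂, hNM h₂⟩⁆, ?_, ?_⟩
    · rw [commutator_def]
      exact Subgroup.commutator_mem_commutator (Subgroup.mem_top _) (Subgroup.mem_top _)
    · simp [commutatorElement_def]
  obtain ⟨y, hy, hyz⟩ := h1 hz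
  have : y = ⟨z, hzM⟩ := Subtype.ext hyz
  rw [← this]; exact hy

/-- **Piece B of BG 9.5** (small case): if `M` is a maximal subgroup with `F(M)` of rank at most 2
containing `N_G(P)`, and `z ∈ Z(P) ∩ N_G(P)'`, then `M` lies in every subgroup containing
`C_G(z)` and `N_G(P)`. -/
theorem small_le_of_centralizer_le (hG : IsMinSimpleOddOrder G) (P : Sylow p G)
    {M H : Subgroup G} (hM : IsCoatom M) (hr : RankLE 2 ↥(fittingSubgroup ↥M))
    (hNM : Subgroup.normalizer ((P : Subgroup G) : Set G) ≤ M) {z : G}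
    (hzP : z ∈ (P : Subgroup G))
    (hzN : z ∈ ⁅Subgroup.normalizer ((P : Subgroup G) : Set G),
      Subgroup.normalizer ((P : Subgroup G) : Set G)⁆)
    (hzc : z ∈ Subgroup.centralizer ((P : Subgroup G) : Set G))
    (hzH : Subgroup.centralizer ({z} : Set G) ≤ H)
    (hNH : Subgroup.normalizer ((P : Subgroup G) : Set G) ≤ H) : M ≤ H := by
  have hp : p.Prime := Fact.out
  have hMs : Group.IsSolvable ↥M := Cfsg.Agent.Lib.Helper55.ms_solvable hG hM.1
  have hodd : Odd (Nat.card ↥M) := Cfsg.Agent.Lib.Helper55.ms_odd hG M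
  obtain ⟨hnil, -, -⟩ := Cfsg.Agent.S1451.result hodd (Or.inr hr)
  have hPM : (P : Subgroup G) ≤ M := Subgroup.le_normalizer.trans hNM
  have hPH : (P : Subgroup G) ≤ H := Subgroup.le_normalizer.trans hNH
  have hzM : z ∈ M := hPM hzP
  -- the derived subgroup lies in the Fitting subgroup
  have hcF : commutator ↥M ≤ fittingSubgroup ↥M :=
    le_sSup ⟨inferInstance, hnil⟩
  have hz'c : (⟨z, hzM⟩ : ↥M) ∈ commutator ↥M := mem_commutator_subtype hNM hzN hzM
  have hz'F : (⟨z, hzM⟩ : ↥M) ∈ fittingSubgroup ↥M := hcF hz'c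
  have hFnil : Group.IsNilpotent ↥(fittingSubgroup ↥M) := fitting_isNilpotent
  -- `z` is a `p`-element
  have hzord : ∃ k, orderOf (⟨z, hzM⟩ : ↥M) = p ^ k := by
    obtain ⟨k, hk⟩ := (IsPGroup.iff_orderOf.mp P.isPGroup') ⟨z, hzP⟩
    refine ⟨k, ?_⟩
    rw [← Subgroup.orderOf_coe] at hk ⊢
    exact hk
  obtain ⟨k, hk⟩ := hzord
  -- the Fitting subgroup centralizes `z`
  have hFcent : fittingSubgroup ↥M ≤ Subgroup.centralizer ({(⟨z, hzM⟩ : ↥M)} : Set ↥M) := by
    rw [fitting_eq_iSup_pCore]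
    apply iSup_le
    intro q
    have hqF : Fact (q : ℕ).Prime := ⟨q.2⟩
    intro x hx
    rw [Subgroup.mem_centralizer_iff]
    intro y hy
    rw [Set.mem_singleton_iff] at hy
    subst hy
    by_cases hq : (q : ℕ) = p
    · have hx' : x ∈ pCore p ↥M := by rw [← hq]; exact hx
      have hxP : x ∈ ((P.subtype hPM : Sylow p ↥M) : Subgroup ↥M) :=
        pCore_le_sylow (P.subtype hPM) hx'
      have hxP' : (x : G) ∈ (P : Subgroup G) := by
        rw [Sylow.coe_subtype, Subgroup.mem_subgroupOf] at hxP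
        exact hxP
      have h1 := Subgroup.mem_centralizer_iff.mp hzc (x : G) hxP'
      exact Subtype.ext h1.symm
    · have hxF : x ∈ fittingSubgroup ↥M := pCore_le_fitting (q : ℕ) hx
      obtain ⟨j, hj⟩ := (IsPGroup.iff_orderOf.mp (pCore_isPGroup (G := ↥M) (q : ℕ))) ⟨x, hx⟩
      have hj' : orderOf x = (q : ℕ) ^ j := by
        rw [← Subgroup.orderOf_coe] at hj
        exact hj
      have hcop : (orderOf (⟨z, hzM⟩ : ↥M)).Coprime (orderOf x) := by
        rw [hk, hj']
        apply Nat.Coprime.pow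
        exact (Nat.coprime_primes hp q.2).mpr (fun h => hq h.symm)
      exact Cfsg.Agent.Lib.Helper14.commute_of_mem_nilpotent hFnil hz'F hxF hcop
  have hFH : ∀ f ∈ fittingSubgroup ↥M, (f : G) ∈ H := by
    intro f hf
    apply hzH
    rw [Subgroup.mem_centralizer_iff]
    intro y hy
    rw [Set.mem_singleton_iff] at hy
    subst hy
    have h1 := Subgroup.mem_centralizer_iff.mp (hFcent hf) ⟨y, hzM⟩ rfl
    exact congrArg Subtype.val h1
  -- `H ∩ M` is normal in `M`
  have hNn : (H.subgroupOf M).Normal :=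
    normal_of_commutator_le (fun x hx => Subgroup.mem_subgroupOf.mpr (hFH x (hcF hx)))
  have hPN : ((P.subtype hPM : Sylow p ↥M) : Subgroup ↥M) ≤ H.subgroupOf M := by
    intro x hx
    rw [Sylow.coe_subtype, Subgroup.mem_subgroupOf] at hx
    exact Subgroup.mem_subgroupOf.mpr (hPH hx)
  have hfr := Sylow.normalizer_sup_eq_top' (N := H.subgroupOf M) (P.subtype hPM) hPN
  have hnorm : Subgroup.normalizer (((P.subtype hPM : Sylow p ↥M) : Subgroup ↥M) : Set ↥M)
      ≤ H.subgroupOf M := by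
    intro x hx
    rw [Subgroup.mem_subgroupOf]
    apply hNH
    rw [Subgroup.mem_normalizer_iff] at hx ⊢
    intro g
    constructor
    · intro hg
      have h1 := (hx ⟨g, hPM hg⟩).mp (by
        rw [Sylow.coe_subtype, Subgroup.mem_subgroupOf]; exact hg)
      rw [Sylow.coe_subtype, Subgroup.mem_subgroupOf] at h1
      exact h1
    · intro hg
      have hgM : g ∈ M := by
        have h1 : (x : G) * g * (x : G)⁻¹ ∈ M := hPM hg
        have h2 : g = (x : G)⁻¹ * ((x : G) * g * (x : G)⁻¹) * (x : G) := by group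
        rw [h2]
        exact M.mul_mem (M.mul_mem (M.inv_mem x.2) h1) x.2
      have h1 := (hx ⟨g, hgM⟩).mpr (by
        rw [Sylow.coe_subtype, Subgroup.mem_subgroupOf]; exact hg)
      rw [Sylow.coe_subtype, Subgroup.mem_subgroupOf] at h1
      exact h1
  have htop : H.subgroupOf M = ⊤ := by
    rw [eq_top_iff, ← hfr]
    exact sup_le hnorm le_rfl
  exact Subgroup.subgroupOf_eq_top.mp htop

end Cfsg.Agent.Lib.Helper01.BG95
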