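import Mathlib
import Cfsg.Prelude.Def_OddOrderLocal
import Cfsg.Agent.Lib.Helper01.PPrimeCore
import Cfsg.Agent.Lib.Helper01.BGNarrow
import Cfsg.Agent.Lib.Helper12.CNMaxSub
import Cfsg.Agent.Lib.Helper26.Rank2Solv
import Cfsg.Agent.Lib.Helper31.Transitivity
import Cfsg.Agent.Lib.Helper39.PiCore
import Cfsg.Agent.Lib.Helper40.NarrowGlue
import Cfsg.Agent.Lib.Helper41.Frobenius
import Cfsg.Agent.Lib.Helper54.SylowLib
import Cfsg.Agent.Lib.Helper55.Uniq2
import Cfsg.Agent.Lib.Helper55.Uniq3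
import Cfsg.Agent.Lib.Helper65.Hall
import Cfsg.Agent.S1403
import Cfsg.Agent.S1450
import Cfsg.Agent.S1455

/-!
# Bender–Glauberman: the subgroup `M_β` (generic part)
-/

set_option autoImplicit false

namespace Cfsg.Agent.Lib.Helper01.BGBeta

open Cfsg

/-- a normal `p`-complement as a normal `p'`-subgroup of `p`-power index -/
theorem exists_normal_of_npc {X : Type*} [Group X] [Finite X] {p : ℕ} [hp : Fact p.Prime]
    (h : HasNormalPComplement p X) :
    ∃ N : Subgroup X, N.Normal ∧ (Nat.card N).Coprime p ∧ ∃ n : ℕ, N.index = p ^ n := by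
  obtain ⟨P, N, hN, hc⟩ := h
  refine ⟨N, hN, ?_, ?_⟩
  · have h1 : (P : Subgroup X).index = Nat.card N := hc.index_eq_card
    have h2 : ¬ p ∣ (P : Subgroup X).index := P.not_dvd_index
    rw [h1] at h2
    exact ((Nat.Prime.coprime_iff_not_dvd hp.1).2 h2).symm
  · obtain ⟨n, hn⟩ := IsPGroup.iff_card.1 P.2
    refine ⟨n, ?_⟩
    rw [← hn]
    exact hc.symm.index_eq_card

/-- normal `p`-complements are transported by isomorphisms -/
theorem npc_of_mulEquiv {X Y : Type*} [Group X] [Group Y] [Finite X] (e : X ≃* Y) {p : ℕ}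
    [Fact p.Prime] (h : HasNormalPComplement p X) : HasNormalPComplement p Y := by
  have hfin : Finite Y := Finite.of_equiv X e.toEquiv
  obtain ⟨N, hN, hcop, n, hn⟩ := exists_normal_of_npc h
  have hinj : Function.Injective (e.toMonoidHom) := e.injective
  have hN' : (N.map e.toMonoidHom).Normal := hN.map _ e.surjective
  apply Cfsg.Agent.Lib.Helper26.Rank2Solv.hasNormalPComplement_of (N.map e.toMonoidHom) ?_ n ?_
  · rwa [Subgroup.card_map_of_injective hinj]
  · rw [← hn]
    exact Subgroup.index_map_equiv N e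

/-- a finite group with a normal `q`-complement for every prime divisor `q` of its order is
nilpotent -/
theorem isNilpotent_of_forall_npc {X : Type*} [Group X] [Finite X]
    (h : ∀ q : ℕ, q.Prime → q ∣ Nat.card X → HasNormalPComplement q X) :
    Group.IsNilpotent X := by
  classical
  apply (Group.isNilpotent_of_finite_tfae.out 0 3 rfl rfl).mpr
  intro p hp P
  have hex : ∀ q : ℕ, ∃ N : Subgroup X, N.Normal ∧ (P : Subgroup X) ≤ N ∧
      (q.Prime → q ∣ Nat.card X → q ≠ p → (Nat.card N).Coprime q) := by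
    intro q
    by_cases hq : q.Prime ∧ q ∣ Nat.card X ∧ q ≠ p
    · have hqf : Fact q.Prime := ⟨hq.1⟩
      obtain ⟨N, hN, hcop, n, hn⟩ := exists_normal_of_npc (h q hq.1 hq.2.1)
      refine ⟨N, hN, ?_, fun _ _ _ => hcop⟩
      rw [← Subgroup.relIndex_eq_one]
      have h1 : N.relIndex (P : Subgroup X) ∣ N.index := Subgroup.relIndex_dvd_index_of_normal N P
      have h2 : N.relIndex (P : Subgroup X) ∣ Nat.card (P : Subgroup X) :=
        Subgroup.relIndex_dvd_card N P
      obtain ⟨m, hm⟩ := IsPGroup.iff_card.1 P.2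
      rw [hn] at h1
      rw [hm] at h2
      have hcop' : (q ^ n).Coprime (p ^ m) :=
        Nat.Coprime.pow _ _ ((Nat.coprime_primes hq.1 hp.1).2 hq.2.2)
      exact Nat.eq_one_of_dvd_coprimes hcop' h1 h2
    · exact ⟨⊤, inferInstance, le_top, fun h1 h2 h3 => absurd ⟨h1, h2, h3⟩ hq⟩
  choose N hN hPN hNcop using hex
  set D : Subgroup X := ⨅ q, N q with hD
  have hDn : D.Normal := Subgroup.normal_iInf_normal hN
  have hPD : (P : Subgroup X) ≤ D := le_iInf hPN
  have hDp : IsPGroup p D := by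
    apply IsPGroup.of_card (n := (Nat.card D).primeFactorsList.length)
    apply Nat.eq_prime_pow_of_unique_prime_dvd Nat.card_pos.ne'
    intro d hd hdD
    by_contra hne
    have hdX : d ∣ Nat.card X := hdD.trans (Subgroup.card_subgroup_dvd_card D)
    have hcop := hNcop d hd hdX hne
    have hDN : D ≤ N d := iInf_le _ d
    have h3 : d ∣ Nat.card (N d) := hdD.trans (Subgroup.card_dvd_of_le hDN)
    exact hd.one_lt.ne' (Nat.Coprime.eq_one_of_dvd hcop.symm h3)
  have hDP : D = (P : Subgroup X) := P.is_maximal' hDp hPD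
  rw [← hDP]
  exact hDn

/-- a subgroup all of whose prime divisors `q` give normal `q`-complements of the ambient group
is nilpotent -/
theorem isNilpotent_of_npc_ambient {X : Type*} [Group X] [Finite X] (H : Subgroup X)
    (h : ∀ q : ℕ, q.Prime → q ∣ Nat.card H → HasNormalPComplement q X) :
    Group.IsNilpotent H := by
  apply isNilpotent_of_forall_npc
  intro q hq hqH
  have hqf : Fact q.Prime := ⟨hq⟩
  exact Cfsg.Agent.Lib.Helper41.hasNormalPComplement_subgroup (h q hq hqH) H

/-- a prime `p` with `p`-rank not bounded divides the order -/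
theorem dvd_card_of_not_pRankLE {X : Type*} [Group X] [Finite X] {p k : ℕ} [hp : Fact p.Prime]
    (h : ¬ PRankLE p k X) : p ∣ Nat.card X := by
  unfold PRankLE at h
  push Not at h
  obtain ⟨A, -, hAp, hAcard⟩ := h
  have hA : IsPGroup p A := fun a => ⟨1, Subtype.ext (by simpa using hAp a.1 a.2)⟩
  obtain ⟨m, hm⟩ := IsPGroup.iff_card.1 hA
  have hm0 : m ≠ 0 := by
    rintro rfl
    rw [hm, pow_zero] at hAcard
    exact absurd hAcard (not_lt.2 (Nat.one_le_pow _ _ hp.1.pos))
  have h1 : p ∣ Nat.card A := by rw [hm]; exact dvd_pow_self p hm0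
  exact h1.trans (Subgroup.card_subgroup_dvd_card A)

/-- the Sylow `p`-subgroups (`p ∈ β`) lie in `O_β(H)` -/
theorem sylow_le_piCore {H : Type*} [Group H] [Finite H] (β : Set ℕ)
    (hT : ∀ q : ℕ, q.Prime → q ∣ Nat.card H → q ∉ β →
        ∀ L : Subgroup ↥(commutator H), (Nat.card L).Coprime q →
          L ≤ pPrimeCore q ↥(commutator H))
    (p : ℕ) [hp : Fact p.Prime] (hpβ : p ∈ β) (S : Sylow p H)
    (hS : (S : Subgroup H) ≤ commutator H) : (S : Subgroup H) ≤ piCore β H := by
  classical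
  set K : Subgroup H := commutator H with hK
  let Nq : ℕ → Subgroup H := fun q =>
    if q.Prime ∧ q ∣ Nat.card H ∧ q ∉ β then (pPrimeCore q ↥K).map K.subtype else ⊤
  have hNq : ∀ q, (Nq q).Normal := by
    intro q
    simp only [Nq]
    split_ifs with hq
    · have hch : (pPrimeCore q ↥K).Characteristic :=
        Cfsg.Agent.Lib.Helper01.pPrimeCore_characteristic q
      exact ConjAct.normal_of_characteristic_of_normal
    · infer_instance
  set D : Subgroup H := ⨅ q, Nq q with hD
  have hDn : D.Normal := Subgroup.normal_iInf_normal hNq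
  have hDβ : Cfsg.Agent.Lib.Helper39.IsPiGroup β ↥D := by
    intro r hr hrD
    by_contra hrβ
    have hrH : r ∣ Nat.card H := hrD.trans (Subgroup.card_subgroup_dvd_card D)
    have hDN : D ≤ (pPrimeCore r ↥K).map K.subtype := by
      have h1 : D ≤ Nq r := iInf_le _ r
      simpa only [Nq, if_pos (show r.Prime ∧ r ∣ Nat.card H ∧ r ∉ β from ⟨hr, hrH, hrβ⟩)]
        using h1
    have h2 : r ∣ Nat.card ((pPrimeCore r ↥K).map K.subtype : Subgroup H) :=
      hrD.trans (Subgroup.card_dvd_of_le hDN)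
    rw [Subgroup.card_map_of_injective K.subtype_injective] at h2
    have h3 := Cfsg.Agent.Lib.Helper01.pPrimeCore_card_coprime (G := ↥K) r
    exact hr.one_lt.ne' (Nat.Coprime.eq_one_of_dvd h3.symm h2)
  have hDle : D ≤ piCore β H := Cfsg.Agent.Lib.Helper39.le_piCore β D hDβ
  refine le_trans ?_ hDle
  rw [hD]
  apply le_iInf
  intro q
  simp only [Nq]
  split_ifs with hq
  · obtain ⟨hqp, hqH, hqβ⟩ := hq
    have hne : q ≠ p := fun h => hqβ (h ▸ hpβ)
    have hL : ((S : Subgroup H).subgroupOf K) ≤ pPrimeCore q ↥K := by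
      apply hT q hqp hqH hqβ
      rw [Nat.card_congr (Subgroup.subgroupOfEquivOfLe hS).toEquiv]
      obtain ⟨m, hm⟩ := IsPGroup.iff_card.1 S.2
      rw [hm]
      exact Nat.Coprime.pow_left m ((Nat.coprime_primes hp.1 hqp).2 (Ne.symm hne))
    intro s hs
    exact ⟨⟨s, hS hs⟩, hL (Subgroup.mem_subgroupOf.2 hs), rfl⟩
  · exact le_top

/-- `O_σ(H) ≤ H'` when the Sylow subgroups for the primes in `σ` lie in `H'` -/
theorem piCore_le_commutator {H : Type*} [Group H] [Finite H] (σ : Set ℕ)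
    (hS : ∀ p ∈ σ, p.Prime → ∀ S : Sylow p H, (S : Subgroup H) ≤ commutator H) :
    piCore σ H ≤ commutator H := by
  intro x hx
  rw [← QuotientGroup.eq_one_iff (N := commutator H), ← orderOf_eq_one_iff]
  by_contra hne
  obtain ⟨r, hr, hrd⟩ := Nat.exists_prime_and_dvd hne
  have h1 : orderOf (QuotientGroup.mk x : H ⧸ commutator H) ∣ orderOf x :=
    orderOf_map_dvd (QuotientGroup.mk' (commutator H)) x
  have h2 : orderOf x ∣ Nat.card (piCore σ H) := by
    have h := orderOf_dvd_natCard (⟨x, hx⟩ : piCore σ H)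
    rwa [Subgroup.orderOf_mk] at h
  have hrσ : r ∈ σ :=
    Cfsg.Agent.Lib.Helper39.isPiGroup_piCore σ r hr (hrd.trans (h1.trans h2))
  have h3 : r ∣ (commutator H).index := by
    rw [Subgroup.index_eq_card]
    exact hrd.trans (orderOf_dvd_natCard _)
  have hrf : Fact r.Prime := ⟨hr⟩
  obtain S : Sylow r H := default
  have h4 := hS r hrσ hr S
  exact S.not_dvd_index (h3.trans (Subgroup.index_dvd_of_le h4))

/-- Hall subgroups of a solvable subgroup, in the ambient vocabulary -/
theorem exists_hallOf {G : Type*} [Group G] [Finite G] (K : Subgroup G) [Group.IsSolvable K]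
    (π : Set ℕ) :
    ∃ H₀ : Subgroup ↥K, IsPiHallOf π (H₀.map K.subtype) K ∧
      ∀ q : ℕ, q.Prime → q ∣ Nat.card H₀ → q ∈ π := by
  obtain ⟨H₀, h1, h2⟩ := Cfsg.Agent.Lib.Helper65.exists_hall ↥K π
  refine ⟨H₀, ⟨Subgroup.map_subtype_le _, ?_, ?_⟩, h1⟩
  · intro q hq hqd
    rw [Subgroup.card_map_of_injective K.subtype_injective] at hqd
    exact h1 q hq hqd
  · intro q hq hqπ hqd
    rw [Subgroup.relIndex, Subgroup.subgroupOf,
      Subgroup.comap_map_eq_self_of_injective K.subtype_injective] at hqd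
    exact h2 q hq hqd hqπ

section minsimple

variable {G : Type*} [Group G] [Finite G]

/-- for `p ∈ α(M)` the normalizer of a Sylow `p`-subgroup of `M` lies in `M` -/
theorem normalizer_sylow_le (hG : IsMinSimpleOddOrder G) (M : Subgroup G) (hM : IsCoatom M)
    (p : ℕ) [hp : Fact p.Prime] (hpα : ¬ PRankLE p 2 ↥M) (S : Sylow p ↥M) :
    Subgroup.normalizer (((S : Subgroup ↥M).map M.subtype : Subgroup G) : Set G) ≤ M := by
  set SG : Subgroup G := (S : Subgroup ↥M).map M.subtype with hSG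
  have hSGM : SG ≤ M := Subgroup.map_subtype_le _
  have hMtop : M ≠ ⊤ := hM.1
  have hSGtop : SG ≠ ⊤ := fun h => hMtop (top_le_iff.1 (h ▸ hSGM))
  have hrS : ¬ PRankLE p 2 ↥(S : Subgroup ↥M) := fun h =>
    hpα (Cfsg.Agent.Lib.Helper40.NarrowGlue.pRankLE_of_sylow S h)
  have hrSG : ¬ PRankLE p 2 ↥SG := fun h =>
    hrS (BGNarrow.pRankLE_of_mulEquiv
      ((S : Subgroup ↥M).equivMapOfInjective M.subtype M.subtype_injective).symm h)
  have hpp : p.Prime := hp.1
  have hK2 : ¬ RankLE 1 ↥SG := by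
    intro h
    apply hrSG
    intro A hA hAp
    exact (h p hpp A hA hAp).trans (Nat.pow_le_pow_right hpp.pos (by norm_num))
  have hK3 : ¬ RankLE 2 ↥SG := fun h => hrSG (h p hpp)
  have hU : InUniqueMaximal SG := Cfsg.Agent.S1403.result hG SG hSGtop hK2 (Or.inl hK3)
  have hSG1 : SG ≠ ⊥ := Cfsg.Agent.Lib.Helper55.ne_bot_of_inUniqueMaximal hG hU
  obtain ⟨L, ⟨hL, hSL⟩, huniq⟩ := hU
  have hLM : M = L := huniq M ⟨hM, hSGM⟩
  obtain ⟨L', hL', hNL'⟩ :=
    Cfsg.Agent.Lib.Helper12.CNMaxSub.exists_coatom_normalizer_le hG hSG1 hSGtop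
  have h1 : L' = L := huniq L' ⟨hL', Subgroup.le_normalizer.trans hNL'⟩
  rw [h1, ← hLM] at hNL'
  exact hNL'

/-- the structure of a maximal subgroup `M` at a prime outside `β(M)` -/
theorem pstruct (hG : IsMinSimpleOddOrder G) (M : Subgroup G) (hM : IsCoatom M)
    (hpl : ∀ p : ℕ, p.Prime → PLengthLE p 1 ↥M)
    (p : ℕ) [hp : Fact p.Prime] (hpM : p ∣ Nat.card M) (hpβ : p ∉ beta M) :
    (∀ q : ℕ, q.Prime → q ∣ (pPrimeCore p ↥M).index → q ≤ p) ∧
      HasNormalPComplement p ↥(commutator ↥M) ∧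
      (∀ L : Subgroup ↥(commutator ↥M), (Nat.card L).Coprime p →
        L ≤ pPrimeCore p ↥(commutator ↥M)) := by
  have hMtop : M ≠ ⊤ := hM.1
  have hsolv : Group.IsSolvable ↥M := Cfsg.Agent.Lib.Helper55.ms_solvable hG hMtop
  have hodd : Odd (Nat.card ↥M) := Cfsg.Agent.Lib.Helper55.ms_odd hG M
  have hpp : p.Prime := hp.1
  by_cases hr : PRankLE p 2 ↥M
  · obtain ⟨h1, -, h3, h4, -, -⟩ := Cfsg.Agent.S1450.result hodd p hpM hr
    exact ⟨h1, h3, h4⟩
  · have hα : p ∈ alpha M := ⟨hpp, hr⟩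
    have hnid : ¬ IsIdealPrime p G := fun h => hpβ ⟨hα, h⟩
    have hrG : ¬ PRankLE p 2 G := by
      intro h
      apply hr
      intro A hA hAp
      have h1 := h (A.map M.subtype) (Subgroup.map_isMulCommutative A _)
        (by rintro _ ⟨a, ha, rfl⟩; rw [← map_pow, hAp a ha, map_one])
      rwa [Subgroup.card_map_of_injective M.subtype_injective] at h1
    have hex : ∃ (P : Sylow p G) (A : Subgroup G), A ≤ (P : Subgroup G) ∧
        IsElementaryAbelian p A ∧ Nat.card A = p ^ 2 ∧
        ¬ ∃ B : Subgroup G, B ≤ (P : Subgroup G) ∧ IsElementaryAbelian p B ∧ A < B := by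
      by_contra hcon
      apply hnid
      refine ⟨hpp, hrG, ?_⟩
      intro P A hAP hA hA2
      by_contra hB
      exact hcon ⟨P, A, hAP, hA, hA2, hB⟩
    obtain ⟨P, A, hAP, hA, hA2, hAmax⟩ := hex
    have hp2 : p ≠ 2 := by
      rintro rfl
      exact (Nat.not_even_iff_odd.2 hodd) (even_iff_two_dvd.2 hpM)
    have hPn : IsNarrow p ↥(P : Subgroup G) := by
      apply BGNarrow.isNarrow_of_maximal p hp2 P.isPGroup' ?_ (A.subgroupOf P) ?_ ?_ ?_
      · exact fun h => hrG (Cfsg.Agent.Lib.Helper40.NarrowGlue.pRankLE_of_sylow P h)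
      · have hAc : IsMulCommutative ↥A := hA.1
        refine ⟨Subgroup.subgroupOf_isMulCommutative _ _, fun a ha => ?_⟩
        have h1 := hA.2 a.1 (Subgroup.mem_subgroupOf.1 ha)
        exact Subtype.ext (by simpa using h1)
      · rw [Nat.card_congr (Subgroup.subgroupOfEquivOfLe hAP).toEquiv, hA2]
      · intro B hB hEB
        by_contra hne
        apply hAmax
        have hBc : IsMulCommutative ↥B := hB.1
        refine ⟨B.map (P : Subgroup G).subtype, Subgroup.map_subtype_le _,
          ⟨Subgroup.map_isMulCommutative _ _, ?_⟩, ?_⟩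
        · rintro _ ⟨b, hb, rfl⟩
          rw [← map_pow, hB.2 b hb, map_one]
        · refine lt_of_le_of_ne ?_ ?_
          · intro a ha
            exact ⟨⟨a, hAP ha⟩, hEB (Subgroup.mem_subgroupOf.2 ha), rfl⟩
          · intro heq
            apply hne
            ext b
            rw [Subgroup.mem_subgroupOf, heq]
            constructor
            · intro hb
              exact Subgroup.mem_map_of_mem _ hb
            · rintro ⟨b', hb', hbb'⟩
              have h1 : b' = b := Subtype.ext hbb'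
              rwa [← h1]
    obtain S : Sylow p ↥M := default
    have hN := normalizer_sylow_le hG M hM p hr S
    obtain ⟨P', hP'⟩ := Cfsg.Agent.Lib.Helper54.exists_sylow_eq_map_of_normalizer_le S hN
    have e1 : ↥(P : Subgroup G) ≃* ↥(P' : Subgroup G) := Sylow.equiv P P'
    have e2 : ↥(P' : Subgroup G) ≃* ↥((S : Subgroup ↥M).map M.subtype) :=
      MulEquiv.subgroupCongr hP'
    have e3 : ↥(S : Subgroup ↥M) ≃* ↥((S : Subgroup ↥M).map M.subtype) :=
      (S : Subgroup ↥M).equivMapOfInjective M.subtype M.subtype_injective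
    have hSn : IsNarrow p ↥(S : Subgroup ↥M) :=
      BGNarrow.isNarrow_of_mulEquiv ((e1.trans e2).trans e3.symm) hPn
    obtain ⟨h1, -, h3, h4, -, -⟩ :=
      Cfsg.Agent.S1455.result hodd p hpM S hSn (fun _ => hpl p hpp)
    exact ⟨h1, h3, h4⟩

end minsimple

end Cfsg.Agent.Lib.Helper01.BGBeta
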