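import Mathlib
import Cfsg.Agent.Lib.Helper01.BGBeta

/-!
# Bender–Glauberman: the subgroup `M_β` (assembly, modulo `p`-length one and `P ≤ M'`)
-/

set_option autoImplicit false

namespace Cfsg.Agent.Lib.Helper01.BGBeta

open Cfsg

variable {G : Type*} [Group G] [Finite G]

/-- **Bender–Glauberman, the `M_β` theorem**, from: every `p`-length of `M` is at most one, and the
Sylow subgroups of `M` for the primes in `σ(M)` lie in `M'`. -/
theorem main (hG : IsMinSimpleOddOrder G) (M : Subgroup G) (hM : IsCoatom M)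
    (hpl : ∀ p : ℕ, p.Prime → PLengthLE p 1 ↥M)
    (hder : ∀ p ∈ sigma M, ∀ S : Sylow p ↥M, (S : Subgroup ↥M) ≤ commutator ↥M) :
    IsPiHallOf (beta M) (piCoreOf (beta M) M) M ∧ IsPiHall (beta M) (piCoreOf (beta M) M) ∧
      (∃ H : Subgroup G, IsPiHallOf {q | q.Prime ∧ q ∉ beta M} H ⁅M, M⁆ ∧
        Group.IsNilpotent H) ∧
      (∃ H : Subgroup G, IsPiHallOf {q | q.Prime ∧ q ∉ beta M} H (sigmaCore M) ∧
        Group.IsNilpotent H) ∧
      ∀ p : ℕ, p.Prime → p ∣ Nat.card M → p ∉ beta M →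
        HasNormalPComplement p ↥⁅M, M⁆ ∧ HasNormalPComplement p ↥(sigmaCore M) ∧
        ∀ q : ℕ, q.Prime → q ∣ (pPrimeCore p ↥M).index → q ≤ p := by
  classical
  have hMtop : M ≠ ⊤ := hM.1
  have hmap : (commutator ↥M).map M.subtype = ⁅M, M⁆ := by
    rw [commutator_def, Subgroup.map_commutator, ← MonoidHom.range_eq_map,
      Subgroup.range_subtype]
  let e₀ : ↥(commutator ↥M) ≃* ↥⁅M, M⁆ :=
    ((commutator ↥M).equivMapOfInjective M.subtype M.subtype_injective).trans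
      (MulEquiv.subgroupCongr hmap)
  have hDM : ⁅M, M⁆ ≤ M := by rw [← hmap]; exact Subgroup.map_subtype_le _
  have hσD : sigmaCore M ≤ ⁅M, M⁆ := by
    rw [← hmap]
    unfold sigmaCore
    apply Subgroup.map_mono
    apply piCore_le_commutator
    intro p hpσ _ S
    exact hder p hpσ S
  have h4 : ∀ p : ℕ, p.Prime → p ∣ Nat.card M → p ∉ beta M →
      HasNormalPComplement p ↥⁅M, M⁆ ∧ HasNormalPComplement p ↥(sigmaCore M) ∧
      ∀ q : ℕ, q.Prime → q ∣ (pPrimeCore p ↥M).index → q ≤ p := by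
    intro p hp hpM hpβ
    have hpf : Fact p.Prime := ⟨hp⟩
    obtain ⟨h1, h2, -⟩ := pstruct hG M hM hpl p hpM hpβ
    have h5 : HasNormalPComplement p ↥⁅M, M⁆ := npc_of_mulEquiv e₀ h2
    refine ⟨h5, ?_, h1⟩
    have h6 := Cfsg.Agent.Lib.Helper41.hasNormalPComplement_subgroup h5
      ((sigmaCore M).subgroupOf ⁅M, M⁆)
    exact npc_of_mulEquiv (Subgroup.subgroupOfEquivOfLe hσD) h6
  have hsolvD : Group.IsSolvable ↥⁅M, M⁆ :=
    Cfsg.Agent.Lib.Helper55.ms_solvable hG (fun h => hMtop (top_le_iff.1 (h ▸ hDM)))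
  have hσM : sigmaCore M ≤ M := hσD.trans hDM
  have hsolvσ : Group.IsSolvable ↥(sigmaCore M) :=
    Cfsg.Agent.Lib.Helper55.ms_solvable hG (fun h => hMtop (top_le_iff.1 (h ▸ hσM)))
  have hHall : ∀ K : Subgroup G, K ≤ M → Group.IsSolvable ↥K →
      (∀ p : ℕ, p.Prime → p ∣ Nat.card M → p ∉ beta M → HasNormalPComplement p ↥K) →
      ∃ H : Subgroup G, IsPiHallOf {q | q.Prime ∧ q ∉ beta M} H K ∧ Group.IsNilpotent H := by
    intro K hKM hKs hK
    obtain ⟨H₀, hH₀, hH₀π⟩ := exists_hallOf K {q | q.Prime ∧ q ∉ beta M}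
    refine ⟨H₀.map K.subtype, hH₀, ?_⟩
    have hnil : Group.IsNilpotent ↥H₀ := by
      apply isNilpotent_of_npc_ambient
      intro q hq hqd
      apply hK q hq _ (hH₀π q hq hqd).2
      exact (hqd.trans (Subgroup.card_subgroup_dvd_card H₀)).trans (Subgroup.card_dvd_of_le hKM)
    exact nilpotent_of_mulEquiv (H₀.equivMapOfInjective K.subtype K.subtype_injective)
  have hβ : ∀ p : ℕ, p ∈ beta M → ¬ p ∣ (piCore (beta M) ↥M).index ∧ ¬ p ∣ M.index := by
    intro p hpβ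
    have hpα : p ∈ alpha M := hpβ.1
    have hpp : p.Prime := hpα.1
    have hpf : Fact p.Prime := ⟨hpp⟩
    have hr : ¬ PRankLE p 2 ↥M := hpα.2
    obtain S : Sylow p ↥M := default
    have hN := normalizer_sylow_le hG M hM p hr S
    have hpM : p ∣ Nat.card M := dvd_card_of_not_pRankLE hr
    have hpσ : p ∈ sigma M := ⟨hpp, hpM, S, hN⟩
    have hS := hder p hpσ S
    have hT : ∀ q : ℕ, q.Prime → q ∣ Nat.card ↥M → q ∉ beta M →
        ∀ L : Subgroup ↥(commutator ↥M), (Nat.card L).Coprime q →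
          L ≤ pPrimeCore q ↥(commutator ↥M) := by
      intro q hq hqM hqβ
      have hqf : Fact q.Prime := ⟨hq⟩
      exact (pstruct hG M hM hpl q hqM hqβ).2.2
    have hle := sylow_le_piCore (beta M) hT p hpβ S hS
    constructor
    · intro hd
      exact S.not_dvd_index (hd.trans (Subgroup.index_dvd_of_le hle))
    · obtain ⟨P', hP'⟩ := Cfsg.Agent.Lib.Helper54.exists_sylow_eq_map_of_normalizer_le S hN
      intro hd
      have hP'M : (P' : Subgroup G) ≤ M := by rw [hP']; exact Subgroup.map_subtype_le _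
      exact P'.not_dvd_index (hd.trans (Subgroup.index_dvd_of_le hP'M))
  have hrel : (piCoreOf (beta M) M).relIndex M = (piCore (beta M) ↥M).index := by
    unfold piCoreOf
    rw [Subgroup.relIndex, Subgroup.subgroupOf,
      Subgroup.comap_map_eq_self_of_injective M.subtype_injective]
  refine ⟨?_, ?_, hHall ⁅M, M⁆ hDM hsolvD (fun p hp hpM hpβ => (h4 p hp hpM hpβ).1),
    hHall (sigmaCore M) hσM hsolvσ (fun p hp hpM hpβ => (h4 p hp hpM hpβ).2.1), h4⟩
  · refine ⟨Cfsg.Agent.Lib.Helper31.piCoreOf_le _ _, Cfsg.Agent.Lib.Helper31.piCoreOf_pi _ _, ?_⟩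
    intro p _ hpβ
    rw [hrel]
    exact (hβ p hpβ).1
  · refine ⟨Cfsg.Agent.Lib.Helper31.piCoreOf_pi _ _, ?_⟩
    intro p hp hpβ hd
    rw [← Subgroup.relIndex_mul_index (Cfsg.Agent.Lib.Helper31.piCoreOf_le (beta M) M), hrel] at hd
    rcases (Nat.Prime.dvd_mul hp).1 hd with h | h
    · exact (hβ p hpβ).1 h
    · exact (hβ p hpβ).2 h

end Cfsg.Agent.Lib.Helper01.BGBeta
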