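import Mathlib
import Cfsg.Agent.Lib.Helper01.BG95B
import Cfsg.Agent.Lib.Helper01.BGBeta2
import Cfsg.Agent.Lib.Helper41.FamilyTransfer

/-!
# Bender–Glauberman: Sylow subgroups for the primes of `σ(M)` lie in `M'`
(from the conjugation lemma 10.1 and the focal subgroup theorem)
-/

set_option autoImplicit false

namespace Cfsg.Agent.Lib.Helper01.BGBeta

open Cfsg
open scoped commutatorElement Pointwise

variable {G : Type*} [Group G] [Finite G]

/-- a minimal simple group is perfect -/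
theorem commutator_top_eq_top (hG : IsMinSimpleOddOrder G) :
    ⁅(⊤ : Subgroup G), (⊤ : Subgroup G)⁆ = (⊤ : Subgroup G) := by
  obtain ⟨-, hsimple, hnab, -⟩ := hG
  rw [← commutator_def]
  rcases (inferInstance : (commutator G).Normal).eq_bot_or_eq_top with h | h
  · exfalso
    apply hnab
    refine ⟨⟨fun a b => ?_⟩⟩
    have h1 : ⁅a, b⁆ ∈ commutator G := by
      rw [commutator_def]
      exact Subgroup.commutator_mem_commutator (Subgroup.mem_top a) (Subgroup.mem_top b)
    rw [h, Subgroup.mem_bot] at h1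
    exact commutatorElement_eq_one_iff_mul_comm.1 h1
  · exact h

/-- **Bender–Glauberman 10.2, a step.** For `p ∈ σ(M)` the Sylow `p`-subgroups of `M` lie in
`M'`, given the conjugation lemma 10.1 for `M`. -/
theorem hder_of (hG : IsMinSimpleOddOrder G) (M : Subgroup G)
    (h1404 : ∀ (p : ℕ) [Fact p.Prime], p ∈ sigma M → ∀ X : Subgroup G, IsPGroup p X → X ≠ ⊥ →
      X ≤ M → ∀ g : G, X.map (MulAut.conj g).toMonoidHom ≤ M →
        ∃ m ∈ M, ∃ c ∈ Subgroup.centralizer (X : Set G), g = m * c) :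
    ∀ p ∈ sigma M, ∀ S : Sylow p ↥M, (S : Subgroup ↥M) ≤ commutator ↥M := by
  intro p hpσ S
  obtain ⟨hpp, hpM, S₀, hN⟩ := hpσ
  have hpf : Fact p.Prime := ⟨hpp⟩
  obtain ⟨P', hP'⟩ := Cfsg.Agent.Lib.Helper54.exists_sylow_eq_map_of_normalizer_le S₀ hN
  have hP'M : (P' : Subgroup G) ≤ M := by rw [hP']; exact Subgroup.map_subtype_le _
  have hperf := commutator_top_eq_top hG
  have hfocal : (P' : Subgroup G) ⊓ ⁅(⊤ : Subgroup G), ⊤⁆ ≤ ⁅M, M⁆ := by
    apply Cfsg.Agent.Lib.Helper41.relative_focal (p := p) le_top P'.isPGroup' ?_ ?_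
    · rw [Subgroup.relIndex_top_right]; exact P'.not_dvd_index
    · intro x hx u _ hxu
      by_cases hx1 : x = 1
      · subst hx1
        rw [commutatorElement_one_left]
        exact Subgroup.one_mem _
      · have hXp : IsPGroup p (Subgroup.zpowers x) :=
          P'.isPGroup'.to_le (Subgroup.zpowers_le.2 hx)
        have hX1 : Subgroup.zpowers x ≠ ⊥ := by rwa [Ne, Subgroup.zpowers_eq_bot]
        have hXM : Subgroup.zpowers x ≤ M := (Subgroup.zpowers_le.2 hx).trans hP'M
        have hconj : (Subgroup.zpowers x).map (MulAut.conj u).toMonoidHom ≤ M := by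
          rw [MonoidHom.map_zpowers, Subgroup.zpowers_le]
          apply hP'M
          have h1 : x⁻¹ * ⁅x, u⁆ ∈ (P' : Subgroup G) := mul_mem (inv_mem hx) hxu
          have h2 : x⁻¹ * ⁅x, u⁆ = (u * x * u⁻¹)⁻¹ := by
            rw [commutatorElement_def]; group
          rw [h2] at h1
          have h3 := inv_mem h1
          rw [inv_inv] at h3
          simpa using h3
        obtain ⟨m, hm, c, hc, rfl⟩ := h1404 p ⟨hpp, hpM, S₀, hN⟩ _ hXp hX1 hXM u hconj
        have hcx : x * c = c * x :=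
          Subgroup.mem_centralizer_iff.1 hc x (Subgroup.mem_zpowers x)
        have hcomm : Commute c x := hcx.symm
        have h5 : ⁅x, m * c⁆ = ⁅x, m⁆ := by
          simp only [commutatorElement_def]
          calc x * (m * c) * x⁻¹ * (m * c)⁻¹ = x * m * (c * x⁻¹) * (m * c)⁻¹ := by group
            _ = x * m * (x⁻¹ * c) * (m * c)⁻¹ := by rw [hcomm.inv_right.eq]
            _ = x * m * x⁻¹ * m⁻¹ := by group
        rw [h5]
        exact Subgroup.commutator_mem_commutator (hP'M hx) hm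
  have hS₀ : (S₀ : Subgroup ↥M) ≤ commutator ↥M := by
    intro s hs
    have h1 : (s : G) ∈ (P' : Subgroup G) := by
      rw [hP']; exact Subgroup.mem_map_of_mem _ hs
    have h2 : (s : G) ∈ ⁅M, M⁆ := hfocal ⟨h1, by rw [hperf]; exact Subgroup.mem_top _⟩
    exact Cfsg.Agent.Lib.Helper01.BG95.mem_commutator_subtype le_rfl h2 s.2
  obtain ⟨g, rfl⟩ := MulAction.exists_smul_eq ↥M S₀ S
  intro s hs
  have hs' : s ∈ MulAut.conj g • (S₀ : Subgroup ↥M) := hs
  obtain ⟨t, ht, rfl⟩ := (Subgroup.mem_smul_pointwise_iff_exists _ _ _).1 hs'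
  rw [MulAut.smul_def, MulAut.conj_apply]
  exact (inferInstance : (commutator ↥M).Normal).conj_mem t (hS₀ ht) g

end Cfsg.Agent.Lib.Helper01.BGBeta
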