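import Mathlib
import Cfsg.Prelude.Def_OddOrderLocal
import Cfsg.Agent.Lib.Helper13.BG12A
import Cfsg.Agent.Lib.Helper01.CyclicAux

/-!
# K-S1428-T3N: for `q ∈ τ₃(H)` the normalizer of a nontrivial `q`-subgroup of `H` is not in `H`
-/

set_option autoImplicit false

namespace Cfsg.Agent.Lib.Helper01.BG134

open Cfsg

/-- In a finite cyclic group two subgroups of the same order are equal. -/
theorem eq_of_card_eq_of_isCyclic {C : Type*} [Group C] [Finite C] [IsCyclic C] (A B : Subgroup C)
    (h : Nat.card A = Nat.card B) : A = B := by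
  classical
  obtain ⟨g, hg⟩ := IsCyclic.exists_generator (α := B)
  have hog : orderOf g = Nat.card B := orderOf_eq_card_of_forall_mem_zpowers hg
  have hog' : orderOf (g : C) = Nat.card B := by rw [Subgroup.orderOf_coe, hog]
  have hle : A ≤ B := by
    intro x hx
    have hx1 : x ^ Nat.card B = 1 := by
      rw [← h]
      have h0 : (⟨x, hx⟩ : A) ^ Nat.card A = 1 := pow_card_eq_one'
      have h1 := congrArg Subtype.val h0
      rw [Subgroup.coe_pow, Subgroup.coe_one] at h1
      exact h1
    have := Cfsg.Agent.Lib.Helper01.mem_zpowers_of_isCyclic (H := C) Nat.card_pos (g : C) x hog' hx1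
    exact (Subgroup.zpowers_le.mpr g.2) this
  exact Subgroup.eq_of_le_of_card_ge hle (le_of_eq h.symm)

variable {G : Type*} [Group G] [Finite G]

/-- A subgroup of a cyclic subgroup `S` is normalized by the normalizer of `S`. -/
theorem normalizer_le_normalizer_of_isCyclic (S Q : Subgroup G) (hS : IsCyclic S) (hQS : Q ≤ S) :
    Subgroup.normalizer (S : Set G) ≤ Subgroup.normalizer (Q : Set G) := by
  intro g hg
  have hmap : Q.map (MulAut.conj g).toMonoidHom ≤ S := by
    rintro _ ⟨x, hx, rfl⟩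
    exact (Subgroup.mem_normalizer_iff.mp hg x).mp (hQS hx)
  have hcard : Nat.card (Q.map (MulAut.conj g).toMonoidHom) = Nat.card Q :=
    Subgroup.card_map_of_injective (MulAut.conj g).injective
  have h1 : (Q.map (MulAut.conj g).toMonoidHom).subgroupOf S = Q.subgroupOf S := by
    apply eq_of_card_eq_of_isCyclic
    rw [Nat.card_congr (Subgroup.subgroupOfEquivOfLe hmap).toEquiv,
      Nat.card_congr (Subgroup.subgroupOfEquivOfLe hQS).toEquiv, hcard]
  have h2 : Q.map (MulAut.conj g).toMonoidHom = Q := by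
    have := congrArg (Subgroup.map S.subtype) h1
    rwa [Subgroup.map_subgroupOf_eq_of_le hmap, Subgroup.map_subgroupOf_eq_of_le hQS] at this
  rw [Subgroup.mem_normalizer_iff]
  intro x
  constructor
  · intro hx
    rw [← h2]
    exact ⟨x, hx, rfl⟩
  · intro hx
    rw [← h2] at hx
    obtain ⟨y, hy, hyx⟩ := hx
    have : y = x := by
      have h3 : g * y * g⁻¹ = g * x * g⁻¹ := hyx
      have h4 := mul_right_cancel h3
      exact mul_left_cancel h4
    rw [← this]; exact hy

/-- KEYSTONE 142821  K-S1428-T3N. -/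
theorem not_normalizer_le_of_mem_tau3 (hG : IsMinSimpleOddOrder G) {H : Subgroup G} (_hH : IsCoatom H)
    {q : ℕ} [Fact q.Prime] (hq : q ∈ tau3 H) {Q : Subgroup G} (hQH : Q ≤ H) (hQq : IsPGroup q Q)
    (hQ1 : Q ≠ ⊥) : ¬ Subgroup.normalizer (Q : Set G) ≤ H := by
  intro hN
  obtain ⟨hqp, hqσ, -, hrk⟩ := hq
  apply hqσ
  -- `q` divides `|H|` and is odd
  have hqQ : q ∣ Nat.card Q := by
    rcases hQq.card_eq_or_dvd with h | h
    · exact absurd (Subgroup.card_eq_one.mp h) hQ1
    · exact h
  have hqH : q ∣ Nat.card H := hqQ.trans (Subgroup.card_dvd_of_le hQH)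
  have hq2 : q ≠ 2 := by
    rintro rfl
    have h2G : 2 ∣ Nat.card G := hqH.trans (Subgroup.card_subgroup_dvd_card H)
    exact (Nat.not_even_iff_odd.mpr hG.1) (even_iff_two_dvd.mpr h2G)
  -- a Sylow `q`-subgroup of `H` over `Q`
  have hQ' : IsPGroup q (Q.subgroupOf H) := hQq.comap_of_injective H.subtype H.subtype_injective
  obtain ⟨P, hP⟩ := hQ'.exists_le_sylow
  refine ⟨hqp, hqH, P, ?_⟩
  have hSH : (P : Subgroup H).map H.subtype ≤ H := Subgroup.map_subtype_le _
  have hSq : IsPGroup q ((P : Subgroup H).map H.subtype) := P.isPGroup'.map _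
  have hcyc : IsCyclic ↥((P : Subgroup H).map H.subtype) :=
    Cfsg.Agent.Lib.Helper13.BG12.isCyclic_of_pRankLE_one hq2 hrk hSH hSq
  have hQS : Q ≤ (P : Subgroup H).map H.subtype := by
    intro x hx
    exact ⟨⟨x, hQH hx⟩, hP (Subgroup.mem_subgroupOf.mpr hx), rfl⟩
  exact (normalizer_le_normalizer_of_isCyclic _ Q hcyc hQS).trans hN

end Cfsg.Agent.Lib.Helper01.BG134
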