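import Mathlib
import Cfsg.Agent.Lib.Helper02.BG1310Defs
import Cfsg.Agent.S1350
import Cfsg.Agent.S1415
import Cfsg.Agent.Lib.Helper13.BG12B
import Cfsg.Agent.Lib.Helper54.BG134A3a
import Cfsg.Agent.Lib.Helper31.BG139L178
import Cfsg.Agent.Lib.Helper71.BG10Sub
import Cfsg.Agent.Lib.Helper91.BG125e
import Cfsg.Agent.Lib.Helper12.CNMaxSub
import Cfsg.Agent.Lib.Helper84.BG134T
import Cfsg.Agent.Lib.Helper03.CoprimeAbelian

set_option autoImplicit false

/-! K-LD2-I (Lemma D pack, architect helper2; keystone 143104): type (I) gives `C₃ ≤ C₁`. -/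

namespace Cfsg.Agent.Lib.Helper01.BG1310

open Cfsg Cfsg.Agent.Lib.Helper55 Cfsg.Agent.Lib.Helper31.BG134 Cfsg.Agent.Lib.Helper15.BG139
  Cfsg.Agent.Lib.Helper02.BG1310

variable {G : Type*} [Group G] [Finite G]

/-- a subgroup containing every element of prime power order of `K` contains `K` -/
theorem le_of_primePow_mem_I (K T : Subgroup G)
    (hT : ∀ g ∈ K, ∀ q : ℕ, q.Prime → ∀ k : ℕ, orderOf g = q ^ k → g ∈ T) : K ≤ T := by
  have key : ∀ (q : ℕ) [Fact q.Prime] (S' : Sylow q K), (S' : Subgroup K) ≤ T.subgroupOf K := by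
    intro q _ S' s hs
    rw [Subgroup.mem_subgroupOf]
    obtain ⟨k, hk⟩ := (IsPGroup.iff_orderOf.mp S'.2) ⟨s, hs⟩
    rw [Subgroup.orderOf_mk] at hk
    exact hT s s.2 q Fact.out k (by rw [Subgroup.orderOf_coe]; exact hk)
  have htop : T.subgroupOf K = ⊤ := by
    rw [← Subgroup.index_eq_one]
    by_contra hne
    obtain ⟨q, hq, hdvd⟩ := Nat.exists_prime_and_dvd hne
    have : Fact q.Prime := ⟨hq⟩
    obtain ⟨S'⟩ := (Sylow.nonempty : Nonempty (Sylow q K))
    have h1 := Subgroup.index_dvd_of_le (key q S')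
    exact S'.not_dvd_index (dvd_trans hdvd h1)
  intro g hg
  have : (⟨g, hg⟩ : K) ∈ T.subgroupOf K := by rw [htop]; exact Subgroup.mem_top _
  exact Subgroup.mem_subgroupOf.mp this

/-- an element of order `q ^ (k+1)` has a power of order `q` -/
theorem orderOf_pow_primePow_I {g : G} {q k : ℕ} (hq : q.Prime) (hg : orderOf g = q ^ (k + 1)) :
    orderOf (g ^ (q ^ k)) = q := by
  have h0 : 0 < q ^ k := pow_pos hq.pos k
  rw [orderOf_pow' g h0.ne', hg, Nat.gcd_eq_right (pow_dvd_pow q (Nat.le_succ k)), pow_succ,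
    Nat.mul_div_cancel_left _ h0]

theorem ne_bot_of_prime_card_I {Y : Subgroup G} (hY : (Nat.card Y).Prime) : Y ≠ ⊥ := by
  rintro rfl
  rw [Subgroup.card_bot] at hY
  exact Nat.not_prime_one hY

theorem typeI_cent_le (hTX : HTX G) (h28 : H1428 G) {M E E₁ E₃ : Subgroup G}
    (d : NRS M E E₁ E₃) (hI : TypeI M E₁ E₃) : CP M E₃ ≤ CP M E₁ := by
  by_contra hcon
  have hG := d.nr.hG
  have hM := d.nr.hM
  have hE := d.nr.hE
  have hE₃E : E₃ ≤ E := d.nr.hE₃.1
  have hE₁E : E₁ ≤ E := d.nr.hE₁.1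
  have hEM : E ≤ M := hE.1
  have hC₃1 : CP M E₃ ≠ ⊥ := by
    intro h
    apply hcon
    rw [h]
    exact bot_le
  -- (a) `E₁` does not centralize `E₃`
  have hE₃comm : ∀ a ∈ E₃, ∀ b ∈ E₃, a * b = b * a := by
    intro a ha b hb
    have hcyc : IsCyclic ↥E₃ := d.hE₃c
    have h := (IsCyclic.commGroup (α := ↥E₃)).mul_comm ⟨a, ha⟩ ⟨b, hb⟩
    exact congrArg Subtype.val h
  have hE₃1 : E₃ ≠ ⊥ := by
    obtain ⟨S', hS', hS'c, -⟩ := d.nr.hnr
    intro h
    rw [h, le_bot_iff] at hS'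
    rw [hS', Subgroup.card_bot] at hS'c
    exact Nat.not_prime_one hS'c
  have ha : ¬ E₁ ≤ Subgroup.centralizer (E₃ : Set G) := by
    intro hcen
    apply hE₃1
    have hZ : E₃ ≤ Subgroup.centralizer (E : Set G) := by
      intro y hy
      rw [Subgroup.mem_centralizer_iff]
      intro x hx
      obtain ⟨a, ha, b, hb, rfl⟩ := d.hfac x hx
      have h1 : a * y = y * a := hE₃comm a ha y hy
      have h2 : b * y = y * b := ((Subgroup.mem_centralizer_iff.mp (hcen hb)) y hy).symm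
      calc a * b * y = a * (b * y) := mul_assoc _ _ _
        _ = a * (y * b) := by rw [h2]
        _ = (a * y) * b := (mul_assoc _ _ _).symm
        _ = (y * a) * b := by rw [h1]
        _ = y * (a * b) := mul_assoc _ _ _
    have hc : IsMulCommutative E₃ := by
      rw [isMulCommutative_iff]
      intro a b
      apply Subtype.ext
      exact hE₃comm a a.2 b b.2
    have hcop : Nat.Coprime (Nat.card E₃) (E₃.relIndex E) := by
      apply Nat.Coprime.symm
      apply Nat.coprime_of_dvd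
      intro q hq hq1 hq2
      exact d.nr.hE₃.2.2 q hq (d.nr.hE₃.2.1 q hq hq2) hq1
    have h3 := Cfsg.Agent.Lib.Helper03.commutator_inf_centralizer_inf_eq_bot_of_abelian_hall
      E₃ E hE₃E hc hcop
    rw [eq_bot_iff, ← h3]
    exact le_inf (le_inf d.hE₃d hZ) le_rfl
  -- a `p`-element `x̂` of `E₁` not centralizing `E₃`
  obtain ⟨xh, hxhE, p, hp, k, hxho, hxhc⟩ : ∃ xh ∈ E₁, ∃ p : ℕ, p.Prime ∧ ∃ k : ℕ,
      orderOf xh = p ^ k ∧ xh ∉ Subgroup.centralizer (E₃ : Set G) := by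
    by_contra hne
    push Not at hne
    exact ha (le_of_primePow_mem_I E₁ _ (fun g hg q hq k hk => hne g hg q hq k hk))
  -- an `s`-element `ŷ` of `E₃` not commuting with `x̂`
  obtain ⟨yh, hyhE, s, hs, l, hyho, hyhc⟩ : ∃ yh ∈ E₃, ∃ s : ℕ, s.Prime ∧ ∃ l : ℕ,
      orderOf yh = s ^ l ∧ yh ∉ Subgroup.centralizer ({xh} : Set G) := by
    by_contra hne
    push Not at hne
    apply hxhc
    have h1 : E₃ ≤ Subgroup.centralizer ({xh} : Set G) :=
      le_of_primePow_mem_I E₃ _ (fun g hg q hq k hk => hne g hg q hq k hk)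
    rw [Subgroup.mem_centralizer_iff]
    intro y hy
    exact ((Subgroup.mem_centralizer_iff.mp (h1 hy)) xh (Set.mem_singleton _)).symm
  have hncomm : xh * yh ≠ yh * xh := by
    intro h
    apply hyhc
    rw [Subgroup.mem_centralizer_iff]
    intro z hz
    rw [Set.mem_singleton_iff] at hz
    rw [hz]; exact h
  have hxh1 : xh ≠ 1 := by
    rintro rfl
    exact hncomm (by rw [one_mul, mul_one])
  have hyh1 : yh ≠ 1 := by
    rintro rfl
    exact hncomm (by rw [one_mul, mul_one])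
  obtain ⟨k', rfl⟩ : ∃ k', k = k' + 1 := by
    rcases k with _ | k'
    · exfalso; rw [pow_zero, orderOf_eq_one_iff] at hxho; exact hxh1 hxho
    · exact ⟨k', rfl⟩
  obtain ⟨l', rfl⟩ : ∃ l', l = l' + 1 := by
    rcases l with _ | l'
    · exfalso; rw [pow_zero, orderOf_eq_one_iff] at hyho; exact hyh1 hyho
    · exact ⟨l', rfl⟩
  have hpF : Fact p.Prime := ⟨hp⟩
  have hsF : Fact s.Prime := ⟨hs⟩
  -- (b) the subgroups of prime order
  set x : G := xh ^ (p ^ k') with hxdef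
  set y : G := yh ^ (s ^ l') with hydef
  have hxo : orderOf x = p := orderOf_pow_primePow_I hp hxho
  have hyo : orderOf y = s := orderOf_pow_primePow_I hs hyho
  have hxE₁ : x ∈ E₁ := E₁.pow_mem hxhE _
  have hyE₃ : y ∈ E₃ := E₃.pow_mem hyhE _
  have hx1 : x ≠ 1 := by
    intro h
    rw [h, orderOf_one] at hxo
    exact hp.ne_one hxo.symm
  set P : Subgroup G := Subgroup.zpowers x with hPdef
  set S₀ : Subgroup G := Subgroup.zpowers y with hS₀def
  have hPc : Nat.card P = p := by rw [hPdef, Nat.card_zpowers, hxo]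
  have hS₀c : Nat.card S₀ = s := by rw [hS₀def, Nat.card_zpowers, hyo]
  have hPE₁ : P ≤ E₁ := by rw [hPdef, Subgroup.zpowers_le]; exact hxE₁
  have hS₀E₃ : S₀ ≤ E₃ := by rw [hS₀def, Subgroup.zpowers_le]; exact hyE₃
  have hPp : (Nat.card P).Prime := by rw [hPc]; exact hp
  have hS₀p : (Nat.card S₀).Prime := by rw [hS₀c]; exact hs
  have hP1 : P ≠ ⊥ := ne_bot_of_prime_card_I hPp
  have hS₀1 : S₀ ≠ ⊥ := ne_bot_of_prime_card_I hS₀p
  have hE₃P : E₃ ≤ Subgroup.centralizer (P : Set G) := hI.1 P hPE₁ hPp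
  have hC₃P : ¬ CP M E₃ ≤ Subgroup.centralizer (P : Set G) := by
    intro h
    apply hcon
    rw [← d.hC₁ P hPE₁ hP1]
    exact le_inf inf_le_left h
  -- (c) the maximal subgroup `H`
  have hS₀M : S₀ ≤ M := (hS₀E₃.trans hE₃E).trans hEM
  have hS₀top : S₀ ≠ ⊤ := by
    intro h
    apply hM.1
    rw [eq_top_iff, ← h]
    exact hS₀M
  obtain ⟨H, hH, hNH⟩ := Cfsg.Agent.Lib.Helper12.CNMaxSub.exists_coatom_normalizer_le hG hS₀1 hS₀top
  obtain ⟨hEH, hnc, hMH⟩ := d.hH S₀ H hS₀E₃ hS₀p hH hNH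
  have hp1M : p ∈ tau1 M := by
    apply d.nr.hE₁.2.1 p hp
    rw [← hPc]
    exact Subgroup.card_dvd_of_le hPE₁
  have hs3M : s ∈ tau3 M := by
    apply d.nr.hE₃.2.1 s hs
    rw [← hS₀c]
    exact Subgroup.card_dvd_of_le hS₀E₃
  have hPM : P ≤ M := (hPE₁.trans hE₁E).trans hEM
  have hPH : P ≤ H := (hPE₁.trans hE₁E).trans hEH
  have hp1H : p ∈ tau1 H := by
    by_contra hnot
    have h1 := Cfsg.Agent.Lib.Helper84.BG134.lemmaT hG hM hH hnc (p := p) hp1M.2.1 hnot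
      (X := P) (IsPGroup.of_card (n := 1) (by rw [pow_one, hPc])) hPM hPH
    rw [hMH] at h1
    exact hC₃P h1
  -- (d) `s ∈ σ(H)`
  have hsH : s ∈ sigma H :=
    hTX M H S₀ s hM hH (Or.inr hs3M) hS₀M hS₀c (by rw [d.hC₃ S₀ hS₀E₃ hS₀1]; exact hC₃1) hNH
  have hShH : Subgroup.zpowers yh ≤ H := by
    rw [Subgroup.zpowers_le]; exact hEH (hE₃E hyhE)
  have hShσ : Subgroup.zpowers yh ≤ sigmaCore H :=
    Cfsg.Agent.Lib.Helper91.BG125.le_sigmaCore_of_mem_sigma hG hH hsH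
      (IsPGroup.of_card (n := l' + 1) (by rw [Nat.card_zpowers, hyho])) hShH
  -- (e) a complement of `Hσ` containing `P̂`
  have hHall : IsPiHallOf (sigma H) (sigmaCore H) H := (Cfsg.Agent.S1350.result hG H hH).1
  have hPhH : Subgroup.zpowers xh ≤ H := by
    rw [Subgroup.zpowers_le]; exact hEH (hE₁E hxhE)
  have hK : ∀ u : ℕ, u.Prime → u ∣ Nat.card (Subgroup.zpowers xh) → u ∉ sigma H := by
    intro u hu hud
    rw [Nat.card_zpowers, hxho] at hud
    rw [(Nat.prime_dvd_prime_iff_eq hu hp).mp (hu.dvd_of_dvd_pow hud)]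
    exact hp1H.2.1
  obtain ⟨EH, hEHc, hKE⟩ := Cfsg.Agent.Lib.Helper13.BG12.exists_complIn_ge hG hH hHall hPhH hK
  have hEHtop : EH ≠ ⊤ := by
    rintro rfl
    exact hH.1 (top_le_iff.mp hEHc.1)
  have hsolv : Group.IsSolvable ↥EH := ms_solvable hG hEHtop
  have hK1 : ∀ u : ℕ, u.Prime → u ∣ Nat.card (Subgroup.zpowers xh) → u ∈ tau1 H := by
    intro u hu hud
    rw [Nat.card_zpowers, hxho] at hud
    rw [(Nat.prime_dvd_prime_iff_eq hu hp).mp (hu.dvd_of_dvd_pow hud)]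
    exact hp1H
  obtain ⟨F₁, hF₁, hPF⟩ := Cfsg.Agent.Lib.Helper54.BG134.exists_isPiHallOf_ge hsolv (tau1 H)
    hKE hK1
  have hpa := Cfsg.Agent.Lib.Helper31.BG139.primeAct hG hH h28 hEHc hF₁
  have hxF₁ : x ∈ F₁ := hPF ((Subgroup.zpowers xh).pow_mem (Subgroup.mem_zpowers xh) _)
  have hsub := hpa x hxF₁ hx1
  have hyhcen : yh ∈ Subgroup.centralizer ({x} : Set G) := by
    rw [Subgroup.mem_centralizer_iff]
    intro z hz
    rw [Set.mem_singleton_iff] at hz
    rw [hz]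
    exact (Subgroup.mem_centralizer_iff.mp (hE₃P hyhE)) x (Subgroup.mem_zpowers x)
  have h5 : yh ∈ Subgroup.centralizer (F₁ : Set G) :=
    hsub ⟨hShσ (Subgroup.mem_zpowers yh), hyhcen⟩
  exact hncomm ((Subgroup.mem_centralizer_iff.mp h5) xh (hPF (Subgroup.mem_zpowers xh)))

end Cfsg.Agent.Lib.Helper01.BG1310
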