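import Mathlib
import Cfsg.Agent.Lib.Helper02.BG1310Defs
import Cfsg.Agent.S1350
import Cfsg.Agent.S1415
import Cfsg.Agent.Lib.Helper13.BG12B
import Cfsg.Agent.Lib.Helper54.BG134A3a
import Cfsg.Agent.Lib.Helper31.BG139L178
import Cfsg.Agent.Lib.Helper71.BG10Sub
import Cfsg.Agent.Lib.Helper91.BG125e
import Cfsg.Agent.Lib.Helper12.CNMaxSub
import Cfsg.Agent.Lib.Helper40.BG36C1

set_option autoImplicit false

/-! K-LD2-IIa1 (Lemma D pack, architect helper2): type (II), `E₁` centralizes `C₃`, `p ∈ τ₁(H)` is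
impossible. -/

namespace Cfsg.Agent.Lib.Helper01.BG1310

open Cfsg Cfsg.Agent.Lib.Helper55 Cfsg.Agent.Lib.Helper31.BG134 Cfsg.Agent.Lib.Helper15.BG139
  Cfsg.Agent.Lib.Helper02.BG1310

variable {G : Type*} [Group G] [Finite G]

/-- a subgroup of order `u` for a prime `u` dividing the order -/
theorem exists_le_card_eq_prime {K : Subgroup G} {u : ℕ} (hu : u.Prime) (hd : u ∣ Nat.card K) :
    ∃ Y : Subgroup G, Y ≤ K ∧ Nat.card Y = u := by
  have : Fact u.Prime := ⟨hu⟩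
  obtain ⟨x, hx⟩ := exists_prime_orderOf_dvd_card' u hd
  refine ⟨Subgroup.zpowers (x : G), ?_, ?_⟩
  · rw [Subgroup.zpowers_le]; exact x.2
  · rw [Nat.card_zpowers, Subgroup.orderOf_coe, hx]

/-- a nontrivial subgroup contains a subgroup of prime order -/
theorem exists_prime_card_le {K : Subgroup G} (hK : K ≠ ⊥) :
    ∃ Y : Subgroup G, Y ≤ K ∧ (Nat.card Y).Prime := by
  have h1 : Nat.card K ≠ 1 := fun h => hK (Subgroup.card_eq_one.mp h)
  obtain ⟨y, hy, hyd⟩ := Nat.exists_prime_and_dvd h1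
  obtain ⟨Y, hYK, hYc⟩ := exists_le_card_eq_prime hy hyd
  exact ⟨Y, hYK, by rw [hYc]; exact hy⟩

theorem ne_bot_of_prime_card {Y : Subgroup G} (hY : (Nat.card Y).Prime) : Y ≠ ⊥ := by
  rintro rfl
  rw [Subgroup.card_bot] at hY
  exact Nat.not_prime_one hY

theorem typeII_fixes_tau1_false (hTX : HTX G) (hP4 : HP4 G) (hA : HA G) (hS : HNRS G)
    (h28 : H1428 G) {M E E₁ E₃ S₀ H : Subgroup G}
    (d : NRS M E E₁ E₃) (hII : TypeII M E₁ E₃)
    (hc : CP M E₃ ≤ Subgroup.centralizer (E₁ : Set G))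
    (hS₀ : S₀ ≤ E₃) (hS₀c : (Nat.card S₀).Prime) (hH : IsCoatom H)
    (hNH : Subgroup.normalizer (S₀ : Set G) ≤ H) (hp1 : Nat.card E₁ ∈ tau1 H)
    (h3 : ∀ H : Subgroup G, IsCoatom H → (∀ g : G, cj g M ≠ H) → E ≤ H →
      sigmaCore M ⊓ H = CP M E₃ → Nat.card E₁ ∉ sigma H → sigmaCore H ⊓ M ≤ E₃) : False := by
  have hG := d.nr.hG
  have hM := d.nr.hM
  have hE := d.nr.hE
  obtain ⟨hpp, hfpf, -, -⟩ := hII
  obtain ⟨hEH, hnc, hMH⟩ := d.hH S₀ H hS₀ hS₀c hH hNH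
  have hS₀1 : S₀ ≠ ⊥ := ne_bot_of_prime_card hS₀c
  have hE₃E : E₃ ≤ E := d.nr.hE₃.1
  have hE₁E : E₁ ≤ E := d.nr.hE₁.1
  have hEM : E ≤ M := hE.1
  have hS₀M : S₀ ≤ M := (hS₀.trans hE₃E).trans hEM
  have hs3 : Nat.card S₀ ∈ tau3 M :=
    d.nr.hE₃.2.1 _ hS₀c (Subgroup.card_dvd_of_le hS₀)
  have hCS₀ : CP M S₀ = CP M E₃ := d.hC₃ S₀ hS₀ hS₀1
  have hC₃1 : CP M E₃ ≠ ⊥ := by
    obtain ⟨S', hS', hS'c, hS'C⟩ := d.nr.hnr
    rw [d.hC₃ S' hS' (ne_bot_of_prime_card hS'c)] at hS'C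
    exact hS'C
  have hsH : Nat.card S₀ ∈ sigma H :=
    hTX M H S₀ _ hM hH (Or.inr hs3) hS₀M rfl (by rw [hCS₀]; exact hC₃1) hNH
  have : Fact (Nat.card S₀).Prime := ⟨hS₀c⟩
  have hS₀H : S₀ ≤ H := Subgroup.le_normalizer.trans hNH
  have hS₀σ : S₀ ≤ sigmaCore H :=
    Cfsg.Agent.Lib.Helper91.BG125.le_sigmaCore_of_mem_sigma hG hH hsH
      (IsPGroup.of_card (n := 1) (by rw [pow_one])) hS₀H
  -- `S₀` centralizes `C₃`
  have hS₀C₃ : ∀ x ∈ S₀, ∀ c ∈ CP M E₃, c * x = x * c := by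
    intro x hx c hc'
    exact ((Subgroup.mem_centralizer_iff.mp hc'.2) x (hS₀ hx)).symm
  -- `S₀` does not centralize `E₁`
  have hS₀P : ¬ S₀ ≤ Subgroup.centralizer (E₁ : Set G) := by
    intro h
    apply hS₀1
    rw [eq_bot_iff, ← hfpf]
    exact le_inf hS₀ h
  -- primes of `C₃`
  have hP4' : ∀ Y : Subgroup G, Y ≤ CP M E₃ → (Nat.card Y).Prime →
      (Nat.card Y ∈ tau1 H ∨ Nat.card Y ∈ tau3 H) := by
    intro Y hY hYp
    exact hP4 M H S₀ Y _ hM hH (Or.inr hs3) hS₀M rfl hNH (by rw [hCS₀]; exact hY) hYp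
  have hpσ : Nat.card E₁ ∉ sigma H := hp1.2.1
  have hC₃H : CP M E₃ ≤ H := by rw [← hMH]; exact inf_le_right
  have hPH : E₁ ≤ H := hE₁E.trans hEH
  have hPN : E₁ ≤ Subgroup.normalizer ((CP M E₃ : Subgroup G) : Set G) := by
    refine le_trans ?_ (Subgroup.centralizer_le_normalizer _)
    intro x hx
    rw [Subgroup.mem_centralizer_iff]
    intro c hc'
    exact ((Subgroup.mem_centralizer_iff.mp (hc hc')) x hx).symm
  have hHall : IsPiHallOf (sigma H) (sigmaCore H) H := (Cfsg.Agent.S1350.result hG H hH).1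
  have hK : ∀ u : ℕ, u.Prime → u ∣ Nat.card (E₁ ⊔ CP M E₃ : Subgroup G) → u ∉ sigma H := by
    intro u hu hud
    have h1 := hud.trans (Cfsg.Agent.Lib.Helper40.BG36C1.card_sup_dvd E₁ (CP M E₃) hPN)
    rcases (Nat.Prime.dvd_mul hu).mp h1 with h | h
    · obtain ⟨Y, hYC, hYc⟩ := exists_le_card_eq_prime hu h
      rcases hP4' Y hYC (by rw [hYc]; exact hu) with h' | h'
      · rw [hYc] at h'; exact h'.2.1
      · rw [hYc] at h'; exact h'.2.1
    · rw [(Nat.prime_dvd_prime_iff_eq hu hpp).mp h]; exact hpσ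
  obtain ⟨EH, hEHc, hKE⟩ := Cfsg.Agent.Lib.Helper13.BG12.exists_complIn_ge hG hH hHall
    (sup_le hPH hC₃H) hK
  have hPEH : E₁ ≤ EH := le_sup_left.trans hKE
  have hC₃EH : CP M E₃ ≤ EH := le_sup_right.trans hKE
  have hEHtop : EH ≠ ⊤ := by
    rintro rfl
    exact hH.1 (top_le_iff.mp hEHc.1)
  have hsolv : Group.IsSolvable ↥EH := ms_solvable hG hEHtop
  by_cases hcase : ∃ Y₀ : Subgroup G, Y₀ ≤ CP M E₃ ∧ (Nat.card Y₀).Prime ∧ Nat.card Y₀ ∈ tau1 H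
  · -- CASE 1
    obtain ⟨Y₀, hY₀C, hY₀p, hY₀1⟩ := hcase
    have hY₀N : Y₀ ≤ Subgroup.normalizer (E₁ : Set G) :=
      (hY₀C.trans hc).trans (Subgroup.centralizer_le_normalizer _)
    have hK1 : ∀ u : ℕ, u.Prime → u ∣ Nat.card (Y₀ ⊔ E₁ : Subgroup G) → u ∈ tau1 H := by
      intro u hu hud
      have h1 := hud.trans (Cfsg.Agent.Lib.Helper40.BG36C1.card_sup_dvd Y₀ E₁ hY₀N)
      rcases (Nat.Prime.dvd_mul hu).mp h1 with h | h
      · rw [(Nat.prime_dvd_prime_iff_eq hu hpp).mp h]; exact hp1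
      · rw [(Nat.prime_dvd_prime_iff_eq hu hY₀p).mp h]; exact hY₀1
    obtain ⟨F₁, hF₁, hYPF⟩ := Cfsg.Agent.Lib.Helper54.BG134.exists_isPiHallOf_ge hsolv (tau1 H)
      (sup_le (hY₀C.trans hC₃EH) hPEH) hK1
    have hpa := Cfsg.Agent.Lib.Helper31.BG139.primeAct hG hH h28 hEHc hF₁
    obtain ⟨y₀, hy₀1⟩ := (Subgroup.ne_bot_iff_exists_ne_one).mp (ne_bot_of_prime_card hY₀p)
    have hy₀Y : (y₀ : G) ∈ Y₀ := y₀.2
    have hy₀1' : (y₀ : G) ≠ 1 := fun h => hy₀1 (Subtype.ext h)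
    have hsub := hpa (y₀ : G) (hYPF (Subgroup.mem_sup_left hy₀Y)) hy₀1'
    apply hS₀P
    intro x hx
    have hx1 : x ∈ sigmaCore H ⊓ Subgroup.centralizer ({(y₀ : G)} : Set G) := by
      refine ⟨hS₀σ hx, ?_⟩
      refine Subgroup.mem_centralizer_iff.mpr ?_
      intro c hc'
      rw [Set.mem_singleton_iff] at hc'
      rw [hc']
      exact hS₀C₃ x hx _ (hY₀C hy₀Y)
    exact Subgroup.centralizer_le (fun z hz => hYPF (Subgroup.mem_sup_right hz)) (hsub hx1)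
  · -- CASE 2
    have hall3 : ∀ Y : Subgroup G, Y ≤ CP M E₃ → (Nat.card Y).Prime → Nat.card Y ∈ tau3 H := by
      intro Y hY hYp
      rcases hP4' Y hY hYp with h | h
      · exact absurd ⟨Y, hY, hYp, h⟩ hcase
      · exact h
    obtain ⟨F₁, hF₁, hPF⟩ := Cfsg.Agent.Lib.Helper54.BG134.exists_isPiHallOf_ge hsolv (tau1 H)
      hPEH (by
        intro u hu hud
        rw [(Nat.prime_dvd_prime_iff_eq hu hpp).mp hud]; exact hp1)
    obtain ⟨F₃, hF₃, -⟩ := Cfsg.Agent.Lib.Helper54.BG134.exists_isPiHallOf_ge hsolv (tau3 H)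
      (bot_le : (⊥ : Subgroup G) ≤ EH) (by
        intro u hu hud
        rw [Subgroup.card_bot] at hud
        exact absurd (Nat.le_of_dvd one_pos hud) (by have := hu.two_le; omega))
    obtain ⟨-, -, hF₃n⟩ := (Cfsg.Agent.S1415.result hG H hH EH hEHc).2.2 F₃ hF₃
    have hC₃F : CP M E₃ ≤ F₃ := by
      apply Cfsg.Agent.Lib.Helper71.BG10.le_of_isPiHallOf_normal hF₃ hF₃n hC₃EH
      intro u hu hud
      obtain ⟨Y, hYC, hYc⟩ := exists_le_card_eq_prime hu hud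
      have := hall3 Y hYC (by rw [hYc]; exact hu)
      rwa [hYc] at this
    obtain ⟨Y₀, hY₀C, hY₀p⟩ := exists_prime_card_le hC₃1
    have hY₀1 : Y₀ ≠ ⊥ := ne_bot_of_prime_card hY₀p
    have hS₀CY : S₀ ≤ CP H Y₀ := by
      intro x hx
      refine ⟨hS₀σ hx, ?_⟩
      refine Subgroup.mem_centralizer_iff.mpr ?_
      intro c hc'
      exact hS₀C₃ x hx c (hY₀C hc')
    have hnrH : NR H EH F₁ F₃ :=
      ⟨hG, hH, hEHc, hF₁, hF₃, ⟨Y₀, hY₀C.trans hC₃F, hY₀p, fun h => hS₀1 (by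
        rw [eq_bot_iff, ← h]; exact hS₀CY)⟩⟩
    have dH := hS H EH F₁ F₃ hnrH
    rcases dH.hdich with hI | hIIH
    · -- type (I) for `H`
      have hY₀M : Y₀ ≤ M := (hY₀C.trans inf_le_left).trans
        (Cfsg.Agent.Lib.Helper71.BG11.sigmaCore_le M)
      have hY₀top : Y₀ ≠ ⊤ := by
        rintro rfl
        exact hM.1 (top_le_iff.mp hY₀M)
      obtain ⟨L, hL, hNL⟩ :=
        Cfsg.Agent.Lib.Helper12.CNMaxSub.exists_coatom_normalizer_le hG hY₀1 hY₀top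
      have hLM : L = M := hA M S₀ Y₀ _ hM (Or.inr hs3) hS₀M rfl (by rw [hCS₀]; exact hY₀C)
        hY₀p L hL hNL
      have hCM : Subgroup.centralizer (Y₀ : Set G) ≤ M := by
        rw [← hLM]; exact (Subgroup.centralizer_le_normalizer _).trans hNL
      have hle := h3 H hH hnc hEH hMH hpσ
      apply dH.hC₁ne
      rw [eq_bot_iff, ← hfpf]
      intro x hx
      have hx3 := hI.2 hx
      refine ⟨hle ⟨hx3.1, hCM ?_⟩, ?_⟩
      · exact Subgroup.centralizer_le (fun z hz => hC₃F (hY₀C hz)) hx3.2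
      · exact Subgroup.centralizer_le (fun z hz => hPF hz) hx.2
    · -- type (II) for `H`
      obtain ⟨hF₁p, hfpfH, -, -⟩ := hIIH
      have hcard : Nat.card E₁ = Nat.card F₁ :=
        (Nat.prime_dvd_prime_iff_eq hpp hF₁p).mp (Subgroup.card_dvd_of_le hPF)
      have hF₁P : E₁ = F₁ := Subgroup.eq_of_le_of_card_ge hPF hcard.ge
      apply hY₀1
      rw [eq_bot_iff, ← hfpfH]
      refine le_inf (hY₀C.trans hC₃F) ?_
      rw [← hF₁P]
      exact hY₀C.trans hc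

end Cfsg.Agent.Lib.Helper01.BG1310
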