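import Mathlib
import Cfsg.Prelude.Def_Solvable
import Cfsg.Prelude.Def_Local
import Cfsg.Agent.Lib.Helper01.Basic
import Cfsg.Agent.Lib.Helper01.PCore
import Cfsg.Agent.Lib.Helper01.PPrimeCore
import Cfsg.Agent.Lib.Helper01.SZRel
import Cfsg.Agent.Lib.Helper01.Coprime
import Cfsg.Agent.Lib.Helper81.PSolvable

/-!
# Groups whose maximal subgroups are `p`-nilpotent or of prime index

If `G` is `p`-solvable and every maximal subgroup of `G` has a normal `p`-complement or has
prime index, then `G = O_{p',p,p',p}(G)`.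
-/

set_option autoImplicit false

namespace Cfsg.Agent.Lib.Helper01

open scoped Pointwise

/-- every maximal subgroup has a normal `p`-complement or prime index -/
def MaxCond (p : ℕ) (G : Type*) [Group G] : Prop :=
  ∀ M : Subgroup G, IsCoatom M →
    (∃ K : Subgroup ↥M, K.Normal ∧ ¬ p ∣ Nat.card K ∧ ∃ k : ℕ, K.index = p ^ k) ∨ (M.index).Prime

theorem MaxCond.of_surjective {G Q : Type*} [Group G] [Group Q] [Finite G] {p : ℕ}
    [hp : Fact p.Prime] (h : MaxCond p G) (f : G →* Q) (hf : Function.Surjective f) :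
    MaxCond p Q := by
  intro M hM
  have hM' : IsCoatom (M.comap f) := Subgroup.isCoatom_comap_of_surjective hf hM
  rcases h _ hM' with ⟨K, hKn, hKc, k, hk⟩ | hprime
  · left
    have hsurj : Function.Surjective (f.subgroupComap M) :=
      f.subgroupComap_surjective_of_surjective M hf
    refine ⟨K.map (f.subgroupComap M), hKn.map _ hsurj, ?_, ?_⟩
    · intro hdvd
      exact hKc (dvd_trans hdvd (Subgroup.card_map_dvd K _))
    · have := Subgroup.index_map_dvd K hsurj
      rw [hk] at this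
      obtain ⟨j, _, hj⟩ := (Nat.dvd_prime_pow hp.out).mp this
      exact ⟨j, hj⟩
  · right
    rwa [Subgroup.index_comap_of_surjective M hf] at hprime

theorem mulAut_comm_of_isCyclic {H : Type*} [Group H] [IsCyclic H] (φ ψ : MulAut H) :
    φ * ψ = ψ * φ := by
  apply (IsCyclic.mulAutMulEquiv H).injective
  rw [map_mul, map_mul, mul_comm]

/-- a normal subgroup of prime order is centralized by all commutators -/
theorem commutator_comm_of_normal_prime {W : Type*} [Group W] {p : ℕ} [hp : Fact p.Prime]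
    (U : Subgroup W) [hU : U.Normal] (hcard : Nat.card U = p) (a b u : W) (hu : u ∈ U) :
    (a * b * a⁻¹ * b⁻¹) * u = u * (a * b * a⁻¹ * b⁻¹) := by
  have : IsCyclic U := isCyclic_of_prime_card hcard
  have h1 : MulAut.conjNormal (H := U) (a * b * a⁻¹ * b⁻¹) = 1 := by
    rw [map_mul, map_mul, map_mul, map_inv, map_inv]
    rw [mulAut_comm_of_isCyclic (MulAut.conjNormal a) (MulAut.conjNormal b)]
    group
  have h2 := congrArg (fun φ => ((φ ⟨u, hu⟩ : U) : W)) h1
  simp only [MulAut.conjNormal_apply, MulAut.one_apply] at h2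
  calc (a * b * a⁻¹ * b⁻¹) * u
      = ((a * b * a⁻¹ * b⁻¹) * u * (a * b * a⁻¹ * b⁻¹)⁻¹) * (a * b * a⁻¹ * b⁻¹) := by group
    _ = u * (a * b * a⁻¹ * b⁻¹) := by rw [h2]

theorem comm_mem_coatom_of_prime_index {G : Type*} [Group G] [Finite G] {p : ℕ}
    [hp : Fact p.Prime] (V : Subgroup G) [hVn : V.Normal] (hV : IsPGroup p V) (M : Subgroup G)
    (hM : IsCoatom M) (hVM : ¬ V ≤ M) (hprime : M.index.Prime) :
    (∀ g h : G, ∀ v ∈ V,
      (g * h * g⁻¹ * h⁻¹) * v * (g * h * g⁻¹ * h⁻¹)⁻¹ * v⁻¹ ∈ M) ∧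
    (∀ v' ∈ V, ∀ v ∈ V, v' * v * v'⁻¹ * v⁻¹ ∈ M) := by
  have hsup : V ⊔ M = ⊤ := by
    by_contra hne
    have hlt : M < V ⊔ M := lt_of_le_of_ne le_sup_right (fun h => hVM (h ▸ le_sup_left))
    exact hne (hM.2 _ hlt)
  set D := V ⊓ M with hD
  have hcard : M.index * Nat.card D = Nat.card V := by
    have h1 := card_sup_mul_card_inf V M
    rw [sup_comm, hsup, Subgroup.card_top, ← M.card_mul_index] at h1
    have hpos : 0 < Nat.card M := Nat.card_pos
    have : Nat.card M * (M.index * Nat.card D) = Nat.card M * Nat.card V := by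
      rw [mul_comm (Nat.card M) (Nat.card V), ← h1, mul_assoc]
    exact Nat.eq_of_mul_eq_mul_left hpos this
  obtain ⟨n, hn⟩ := IsPGroup.iff_card.mp hV
  have hidx : M.index = p := by
    have : M.index ∣ p ^ n := by rw [← hn, ← hcard]; exact dvd_mul_right _ _
    exact (Nat.prime_dvd_prime_iff_eq hprime hp.out).mp (hprime.dvd_of_dvd_pow this)
  have hn0 : n ≠ 0 := by
    rintro rfl
    rw [pow_zero] at hn
    have : M.index ∣ 1 := by rw [← hn, ← hcard]; exact dvd_mul_right _ _
    rw [hidx] at this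
    exact hp.out.one_lt.ne' (Nat.dvd_one.mp this)
  -- D is normal in G
  have hDV : D ≤ V := inf_le_left
  have hDM : D ≤ M := inf_le_right
  have hDn : D.Normal := by
    rw [← Subgroup.normalizer_eq_top_iff, eq_top_iff, ← hsup]
    apply sup_le
    · -- V normalizes D since D has index p in the p-group V
      rw [← Subgroup.normal_subgroupOf_iff_le_normalizer hDV]
      apply Subgroup.normal_of_index_eq_minFac_card
      have h1 : (D.subgroupOf V).index = p := by
        have h2 := (D.subgroupOf V).card_mul_index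
        rw [card_subgroupOf_of_le hDV, ← hcard, hidx, mul_comm] at h2
        exact Nat.eq_of_mul_eq_mul_right Nat.card_pos h2
      rw [h1, hn, Nat.Prime.pow_minFac hp.out hn0]
    · intro m hm
      rw [Subgroup.mem_normalizer_iff]
      intro x
      constructor
      · intro hx
        exact ⟨hVn.conj_mem x hx.1 m, M.mul_mem (M.mul_mem hm hx.2) (M.inv_mem hm)⟩
      · intro hx
        have h1 : m⁻¹ * (m * x * m⁻¹) * m⁻¹⁻¹ ∈ V := hVn.conj_mem _ hx.1 m⁻¹
        have h2 : m⁻¹ * (m * x * m⁻¹) * m⁻¹⁻¹ ∈ M :=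
          M.mul_mem (M.mul_mem (M.inv_mem hm) hx.2) (M.inv_mem (M.inv_mem hm))
        have e : m⁻¹ * (m * x * m⁻¹) * m⁻¹⁻¹ = x := by group
        rw [e] at h1 h2
        exact ⟨h1, h2⟩
  -- the quotient by D
  set π := QuotientGroup.mk' D with hπ
  have hker : π.ker = D := QuotientGroup.ker_mk' D
  have hUn : (V.map π).Normal := hVn.map π (QuotientGroup.mk'_surjective D)
  have hUcard : Nat.card (V.map π) = p := by
    have h1 := card_map_mul_card_inf_ker π V
    rw [hker, inf_eq_left.mpr hDV, ← hcard, hidx] at h1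
    exact Nat.eq_of_mul_eq_mul_right Nat.card_pos h1
  have key : ∀ x : G, (∀ u ∈ V.map π, π x * u = u * π x) → ∀ v ∈ V,
      x * v * x⁻¹ * v⁻¹ ∈ M := by
    intro x hx v hv
    apply hDM
    rw [← hker, MonoidHom.mem_ker, map_mul, map_mul, map_mul, map_inv, map_inv,
      hx _ (Subgroup.mem_map_of_mem π hv)]
    group
  constructor
  · intro g h v hv
    apply key _ _ v hv
    intro u hu
    rw [map_mul, map_mul, map_mul, map_inv, map_inv]
    exact commutator_comm_of_normal_prime (V.map π) hUcard (π g) (π h) u hu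
  · intro v' hv' v hv
    apply key _ _ v hv
    intro u hu
    have : IsCyclic (V.map π) := isCyclic_of_prime_card hUcard
    have hc := isMulCommutative_iff.mp (IsCyclic.isMulCommutative (α := V.map π))
    have := hc ⟨π v', Subgroup.mem_map_of_mem π hv'⟩ ⟨u, hu⟩
    exact congrArg Subtype.val this

theorem mem_frattini_iff {G : Type*} [Group G] (x : G) :
    x ∈ frattini G ↔ ∀ M : Subgroup G, IsCoatom M → x ∈ M := by
  unfold frattini Order.radical
  simp only [Subgroup.mem_iInf, Set.mem_ofPred_eq]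

theorem caseB {G : Type*} [Group G] [Finite G] {p : ℕ} [hp : Fact p.Prime]
    (hG : Cfsg.IsPSolvable p G) (hO : Cfsg.pPrimeCore p G = ⊥)
    (hB : ∀ M : Subgroup G, IsCoatom M → ¬ Cfsg.pCore p G ≤ M → M.index.Prime) :
    ¬ p ∣ (Cfsg.pCore p G).index := by
  have hVn : (Cfsg.pCore p G).Normal := pCore_normal p
  have hVp : IsPGroup p (Cfsg.pCore p G) := pCore_isPGroup p
  set V := Cfsg.pCore p G with hVdef
  set Φ := frattini G with hΦ
  have hΦn : Φ.Normal := inferInstance
  set π := QuotientGroup.mk' Φ with hπ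
  have hker : π.ker = Φ := QuotientGroup.ker_mk' Φ
  have hUn : (V.map π).Normal := hVn.map π (QuotientGroup.mk'_surjective Φ)
  set C := (Subgroup.centralizer ((V.map π : Subgroup (G ⧸ Φ)) : Set (G ⧸ Φ))).comap π with hC
  have hCn : C.Normal := inferInstance
  -- membership in C
  have memC : ∀ x : G, (∀ v ∈ V, x * v * x⁻¹ * v⁻¹ ∈ Φ) → x ∈ C := by
    intro x hx
    rw [hC, Subgroup.mem_comap, Subgroup.mem_centralizer_iff]
    rintro _ ⟨v, hv, rfl⟩
    have h1 := hx v hv
    rw [← hker, MonoidHom.mem_ker, map_mul, map_mul, map_mul, map_inv, map_inv] at h1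
    calc π v * π x = (π x * π v * (π x)⁻¹ * (π v)⁻¹)⁻¹ * (π x * π v) := by group
      _ = π x * π v := by rw [h1, inv_one, one_mul]
  have Cmem : ∀ x ∈ C, ∀ v ∈ V, x * v * x⁻¹ * v⁻¹ ∈ Φ := by
    intro x hx v hv
    rw [hC, Subgroup.mem_comap, Subgroup.mem_centralizer_iff] at hx
    have h1 := hx _ (Subgroup.mem_map_of_mem π hv)
    rw [← hker, MonoidHom.mem_ker, map_mul, map_mul, map_mul, map_inv, map_inv, ← h1]
    group
  -- commutators and V lie in C
  have hcommC : ∀ g h : G, g * h * g⁻¹ * h⁻¹ ∈ C := by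
    intro g h
    apply memC
    intro v hv
    rw [mem_frattini_iff]
    intro M hM
    by_cases hVM : V ≤ M
    · apply hVM
      exact V.mul_mem (hVn.conj_mem v hv _) (V.inv_mem hv)
    · exact (comm_mem_coatom_of_prime_index V hVp M hM hVM (hB M hM hVM)).1 g h v hv
  have hVC : V ≤ C := by
    intro v' hv'
    apply memC
    intro v hv
    rw [mem_frattini_iff]
    intro M hM
    by_cases hVM : V ≤ M
    · apply hVM
      exact V.mul_mem (hVn.conj_mem v hv _) (V.inv_mem hv)
    · exact (comm_mem_coatom_of_prime_index V hVp M hM hVM (hB M hM hVM)).2 v' hv' v hv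
  -- C ≤ V
  have hCV : C ≤ V := by
    by_contra hCV
    have hne : V ≠ C := fun h => hCV (h ▸ le_rfl)
    obtain ⟨Y, hYn, hVY, hYC, hVneY, hidx⟩ :=
      Cfsg.Agent.Lib.Helper81.IsPSolvable.exists_normal_between hp.out hG V C hVC hne
    have hYcard : Nat.card Y = Nat.card V * V.relIndex Y := by
      rw [← Subgroup.relIndex_bot_left, ← Subgroup.relIndex_bot_left,
        Subgroup.relIndex_mul_relIndex ⊥ V Y bot_le hVY]
    obtain ⟨k, hk⟩ := IsPGroup.iff_card.mp hVp
    rcases hidx with ⟨m, hm⟩ | hcop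
    · have : IsPGroup p Y := IsPGroup.of_card (n := k + m) (by rw [hYcard, hk, hm, pow_add])
      exact hVneY (le_antisymm hVY (le_pCore hYn this))
    · set m := V.relIndex Y with hm
      have hm1 : m ≠ 1 := by
        intro h1
        rw [h1, mul_one] at hYcard
        exact hVneY (Subgroup.eq_of_le_of_card_ge hVY hYcard.le)
      have hcopVm : (Nat.card V).Coprime m := by
        rw [hk]; exact Nat.Coprime.pow_left k hcop.symm
      have hnormV : ∀ X : Subgroup G, X ≤ Subgroup.normalizer (V : Set G) := by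
        intro X
        rw [Subgroup.normalizer_eq_top_iff.mpr hVn]; exact le_top
      obtain ⟨Q0, hQ0Y, hQ0card⟩ := sz_exists_in Y V hVY (hnormV Y) m hYcard hcopVm
      have hcopVQ : (Nat.card V).Coprime (Nat.card Q0) := by rw [hQ0card]; exact hcopVm
      have hVsolv : Group.IsSolvable V := by
        have : Group.IsNilpotent V := hVp.isNilpotent
        infer_instance
      have hsupY : Q0 ⊔ V = Y := by
        apply Subgroup.eq_of_le_of_card_ge (sup_le hQ0Y hVY)
        rw [card_sup_of_coprime_of_le_normalizer V Q0 (hnormV Q0) hcopVQ, hYcard, hQ0card]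
      -- the subgroup D = V ⊓ Φ
      set D := V ⊓ Φ with hD
      have hDn : D.Normal := inferInstance
      have hDV : D ≤ V := inf_le_left
      have hnormD : ∀ X : Subgroup G, X ≤ Subgroup.normalizer (D : Set G) := by
        intro X
        rw [Subgroup.normalizer_eq_top_iff.mpr hDn]; exact le_top
      have hDp : IsPGroup p D := hVp.to_le hDV
      have hDsolv : Group.IsSolvable D := by
        have : Group.IsNilpotent D := hDp.isNilpotent
        infer_instance
      have hcopDQ : (Nat.card D).Coprime (Nat.card Q0) :=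
        Nat.Coprime.coprime_dvd_left (Subgroup.card_dvd_of_le hDV) hcopVQ
      have hnorm : Subgroup.normalizer (Q0 : Set G) ⊔ Φ = ⊤ := by
        rw [eq_top_iff]
        intro g _
        have hB : MulAut.conj g • Q0 ≤ Q0 ⊔ V := by
          rw [hsupY]
          rintro _ ⟨q, hq, rfl⟩
          exact hYn.conj_mem q (hQ0Y hq) g
        obtain ⟨n, hn, hnB⟩ := conj_by_normal_of_card_eq (hnormV Q0) hcopVQ (Or.inl hVsolv) hB
          (card_conj_smul g Q0)
        have hB' : MulAut.conj g • Q0 ≤ Q0 ⊔ D := by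
          intro b hb
          have hq : n * b * n⁻¹ ∈ Q0 := by
            rw [← hnB]
            exact ⟨b, hb, rfl⟩
          set q := n * b * n⁻¹ with hqdef
          have hb' : b = (n⁻¹ * q * n * q⁻¹) * q := by rw [hqdef]; group
          rw [hb', sup_comm]
          apply Subgroup.mul_mem_sup _ hq
          constructor
          · have : n⁻¹ * q * n * q⁻¹ = n⁻¹ * (q * n * q⁻¹) := by group
            rw [this]
            exact V.mul_mem (V.inv_mem hn) (hVn.conj_mem n hn q)
          · have h1 := Cmem q (hYC (hQ0Y hq)) n hn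
            have h2 := hΦn.conj_mem _ h1 n⁻¹
            have : n⁻¹ * (q * n * q⁻¹ * n⁻¹) * n⁻¹⁻¹ = n⁻¹ * q * n * q⁻¹ := by group
            rwa [this] at h2
        obtain ⟨d, hd, hdB⟩ := conj_by_normal_of_card_eq (hnormD Q0) hcopDQ (Or.inl hDsolv) hB'
          (card_conj_smul g Q0)
        rw [conj_smul_conj_smul] at hdB
        have h3 : d * g ∈ Subgroup.normalizer (Q0 : Set G) :=
          mem_normalizer_iff_conj_smul.mpr hdB
        have : g = (d * g) * (g⁻¹ * d⁻¹ * g) := by group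
        rw [this]
        apply Subgroup.mul_mem_sup h3
        have h4 : g⁻¹ * d⁻¹ * g⁻¹⁻¹ ∈ D := hDn.conj_mem _ (D.inv_mem hd) g⁻¹
        rw [inv_inv] at h4
        exact (inf_le_right : D ≤ Φ) h4
      have htop : Subgroup.normalizer (Q0 : Set G) = ⊤ := frattini_nongenerating hnorm
      have hQ0n : Q0.Normal := Subgroup.normalizer_eq_top_iff.mp htop
      have hQ0le : Q0 ≤ Cfsg.pPrimeCore p G := le_pPrimeCore hQ0n (by rw [hQ0card]; exact hcop)
      rw [hO, le_bot_iff] at hQ0le
      rw [hQ0le, Subgroup.card_bot] at hQ0card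
      exact hm1 hQ0card.symm
  -- every Sylow p-subgroup is normal, hence equal to V
  obtain ⟨P⟩ : Nonempty (Sylow p G) := inferInstance
  have hVP : V ≤ (P : Subgroup G) := pCore_le_sylow P
  have hPn : (P : Subgroup G).Normal := by
    constructor
    intro x hx g
    have : g * x * g⁻¹ = (g * x * g⁻¹ * x⁻¹) * x := by group
    rw [this]
    exact (P : Subgroup G).mul_mem (hVP (hCV (hcommC g x))) hx
  have hPV : (P : Subgroup G) ≤ V := le_pCore hPn P.2
  have : V = (P : Subgroup G) := le_antisymm hVP hPV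
  rw [this]
  exact P.not_dvd_index

theorem caseA {G : Type*} [Group G] [Finite G] {p : ℕ} [hp : Fact p.Prime]
    (V : Subgroup G) [hVn : V.Normal] (hVp : IsPGroup p V)
    (M : Subgroup G) (hM : IsCoatom M) (hVM : ¬ V ≤ M)
    (K0 : Subgroup ↥M) (hK0n : K0.Normal) (hK0c : ¬ p ∣ Nat.card K0) (k : ℕ)
    (hk : K0.index = p ^ k) :
    ∃ K : Subgroup G, K.Normal ∧ V ≤ K ∧ ¬ p ∣ V.relIndex K ∧ ∃ j : ℕ, K.index = p ^ j := by
  have hsup : V ⊔ M = ⊤ := by
    by_contra hne
    have hlt : M < V ⊔ M := lt_of_le_of_ne le_sup_right (fun h => hVM (h ▸ le_sup_left))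
    exact hne (hM.2 _ hlt)
  set K1 := K0.map M.subtype with hK1
  have hK1card : Nat.card K1 = Nat.card K0 :=
    Subgroup.card_map_of_injective M.subtype_injective
  have hK1M : K1 ≤ M := Subgroup.map_subtype_le _
  set K := K1 ⊔ V with hK
  have hVK : V ≤ K := le_sup_right
  have hnormV : ∀ X : Subgroup G, X ≤ Subgroup.normalizer (V : Set G) := by
    intro X
    rw [Subgroup.normalizer_eq_top_iff.mpr hVn]; exact le_top
  obtain ⟨n, hn⟩ := IsPGroup.iff_card.mp hVp
  have hcop : (Nat.card V).Coprime (Nat.card K1) := by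
    rw [hn, hK1card]
    exact Nat.Coprime.pow_left n ((Nat.Prime.coprime_iff_not_dvd hp.out).mpr hK0c)
  have hKcard : Nat.card K = Nat.card V * Nat.card K1 :=
    card_sup_of_coprime_of_le_normalizer V K1 (hnormV K1) hcop
  have hKn : K.Normal := by
    rw [← Subgroup.normalizer_eq_top_iff, eq_top_iff, ← hsup]
    apply sup_le (hVK.trans Subgroup.le_normalizer)
    intro m hm
    rw [mem_normalizer_iff_conj_smul, hK, Subgroup.smul_sup, conj_smul_normal m V]
    congr 1
    apply Subgroup.eq_of_le_of_card_ge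
    · rintro _ ⟨y, hy, rfl⟩
      obtain ⟨y0, hy0, rfl⟩ := hy
      have h1 : (⟨m, hm⟩ : M) * y0 * (⟨m, hm⟩ : M)⁻¹ ∈ K0 := hK0n.conj_mem y0 hy0 _
      exact ⟨_, h1, rfl⟩
    · rw [card_conj_smul]
  refine ⟨K, hKn, hVK, ?_, ?_⟩
  · have h1 : Nat.card K = Nat.card V * V.relIndex K := by
      rw [← Subgroup.relIndex_bot_left, ← Subgroup.relIndex_bot_left,
        Subgroup.relIndex_mul_relIndex ⊥ V K bot_le hVK]
    rw [hKcard] at h1
    have h2 : V.relIndex K = Nat.card K1 := (Nat.eq_of_mul_eq_mul_left Nat.card_pos h1).symm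
    rw [h2, hK1card]
    exact hK0c
  · have h1 := card_sup_mul_card_inf V M
    rw [sup_comm, hsup, Subgroup.card_top, ← K.card_mul_index, hKcard, ← K0.card_mul_index,
      hk, hK1card] at h1
    have h2 : Nat.card V * Nat.card K0 * (K.index * Nat.card (V ⊓ M : Subgroup G)) =
        Nat.card V * Nat.card K0 * p ^ k := by
      rw [← mul_assoc, h1, mul_assoc]
    have hpos : 0 < Nat.card V * Nat.card K0 := Nat.mul_pos Nat.card_pos Nat.card_pos
    have h3 := Nat.eq_of_mul_eq_mul_left hpos h2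
    have h4 : K.index ∣ p ^ k := Dvd.intro _ h3
    obtain ⟨j, _, hj⟩ := (Nat.dvd_prime_pow hp.out).mp h4
    exact ⟨j, hj⟩

theorem core_lemma {G : Type*} [Group G] [Finite G] {p : ℕ} [hp : Fact p.Prime]
    (hG : Cfsg.IsPSolvable p G) (hO : Cfsg.pPrimeCore p G = ⊥) (hmax : MaxCond p G) :
    ∃ K : Subgroup G, K.Normal ∧ Cfsg.pCore p G ≤ K ∧
      ¬ p ∣ (Cfsg.pCore p G).relIndex K ∧ ∃ j : ℕ, K.index = p ^ j := by
  have hVn : (Cfsg.pCore p G).Normal := pCore_normal p
  have hVp : IsPGroup p (Cfsg.pCore p G) := pCore_isPGroup p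
  by_cases hA : ∃ M : Subgroup G, IsCoatom M ∧ ¬ Cfsg.pCore p G ≤ M ∧
      ∃ K0 : Subgroup ↥M, K0.Normal ∧ ¬ p ∣ Nat.card K0 ∧ ∃ k : ℕ, K0.index = p ^ k
  · obtain ⟨M, hM, hVM, K0, hK0n, hK0c, k, hk⟩ := hA
    exact caseA _ hVp M hM hVM K0 hK0n hK0c k hk
  · refine ⟨⊤, inferInstance, le_top, ?_, 0, by simp⟩
    rw [Subgroup.relIndex_top_right]
    apply caseB hG hO
    intro M hM hVM
    rcases hmax M hM with h | h
    · exact absurd ⟨M, hM, hVM, h⟩ hA
    · exact h

theorem maxCond_main {G : Type*} [Group G] [Finite G] {p : ℕ} [hp : Fact p.Prime]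
    (hG : Cfsg.IsPSolvable p G) (hmax : MaxCond p G) :
    ∃ A B C : Subgroup G, A.Normal ∧ B.Normal ∧ C.Normal ∧ A ≤ B ∧ B ≤ C ∧ ¬ p ∣ Nat.card A ∧
      (∃ k : ℕ, A.relIndex B = p ^ k) ∧ ¬ p ∣ B.relIndex C ∧ ∃ k : ℕ, C.index = p ^ k := by
  have hOn : (Cfsg.pPrimeCore p G).Normal := pPrimeCore_normal p
  set O := Cfsg.pPrimeCore p G with hOdef
  set π := QuotientGroup.mk' O with hπ
  have hsurj : Function.Surjective π := QuotientGroup.mk'_surjective O
  have hker : π.ker = O := QuotientGroup.ker_mk' O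
  have hG' : Cfsg.IsPSolvable p (G ⧸ O) :=
    Cfsg.Agent.Lib.Helper81.IsPSolvable.quotient hp.out hG O
  have hmax' : MaxCond p (G ⧸ O) := hmax.of_surjective π hsurj
  have hO' : Cfsg.pPrimeCore p (G ⧸ O) = ⊥ := pPrimeCore_quotient_eq_bot p
  obtain ⟨K, hKn, hVK, hrel, j, hj⟩ := core_lemma hG' hO' hmax'
  have hVn : (Cfsg.pCore p (G ⧸ O)).Normal := pCore_normal p
  have hVp : IsPGroup p (Cfsg.pCore p (G ⧸ O)) := pCore_isPGroup p
  set V := Cfsg.pCore p (G ⧸ O) with hV
  have hObot : ∀ X : Subgroup G, O.relIndex X =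
      ((⊥ : Subgroup (G ⧸ O)).comap π).relIndex X := by
    intro X
    rw [MonoidHom.comap_bot, hker]
  refine ⟨O, V.comap π, K.comap π, hOn, hVn.comap π, hKn.comap π, ?_, Subgroup.comap_mono hVK,
    ?_, ?_, ?_, ?_⟩
  · intro x hx
    rw [Subgroup.mem_comap]
    have : π x = 1 := (QuotientGroup.eq_one_iff x).mpr hx
    rw [this]; exact V.one_mem
  · exact (Nat.Prime.coprime_iff_not_dvd hp.out).mp (pPrimeCore_card_coprime p).symm
  · obtain ⟨k, hk⟩ := IsPGroup.iff_card.mp hVp
    refine ⟨k, ?_⟩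
    rw [hObot, Subgroup.relIndex_comap, Subgroup.map_comap_eq_self_of_surjective hsurj,
      Subgroup.relIndex_bot_left, hk]
  · rw [Subgroup.relIndex_comap, Subgroup.map_comap_eq_self_of_surjective hsurj]
    exact hrel
  · exact ⟨j, by rw [Subgroup.index_comap_of_surjective K hsurj, hj]⟩

end Cfsg.Agent.Lib.Helper01
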