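import Mathlib
import Cfsg.Agent.Lib.Helper89.CycCover
import Cfsg.Agent.Lib.Helper01.MaxPNilp

/-!
# S1428 D2, pure part: a `p'`-group acting on a group `A` of order `p ^ 2` and centralizing a
subgroup `P ≤ A` of order `p` has an abelian image in `Aut A`: its commutators centralize `A`.
-/

set_option autoImplicit false

namespace Cfsg.Agent.Lib.Helper01.BG134

variable {G : Type*} [Group G]

/-- commutators of elements normalizing a cyclic subgroup `Z` centralize `Z` -/
theorem commutator_mem_centralizer_of_isCyclic (Z : Subgroup G) [IsCyclic Z] {x y : G}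
    (hx : x ∈ Subgroup.normalizer (Z : Set G)) (hy : y ∈ Subgroup.normalizer (Z : Set G)) :
    x * y * x⁻¹ * y⁻¹ ∈ Subgroup.centralizer (Z : Set G) := by
  set φ := Z.normalizerMonoidHom with hφ
  have h1 : φ (⟨x, hx⟩ * ⟨y, hy⟩ * ⟨x, hx⟩⁻¹ * ⟨y, hy⟩⁻¹) = 1 := by
    rw [map_mul, map_mul, map_mul, map_inv, map_inv,
      Cfsg.Agent.Lib.Helper01.mulAut_comm_of_isCyclic (φ ⟨x, hx⟩) (φ ⟨y, hy⟩)]
    group
  have h2 : (⟨x, hx⟩ * ⟨y, hy⟩ * ⟨x, hx⟩⁻¹ * ⟨y, hy⟩⁻¹ : ↥(Subgroup.normalizer (Z : Set G))) ∈ φ.ker :=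
    h1
  rw [hφ, Subgroup.normalizerMonoidHom_ker, Subgroup.mem_subgroupOf] at h2
  simpa using h2

/-- **Pure core of D2.** -/
theorem commutator_le_centralizer_of_line [Finite G] {p : ℕ} [Fact p.Prime] (A P X : Subgroup G)
    (hA : Nat.card A = p ^ 2) (hPA : P ≤ A) (hP : Nat.card P = p)
    (hXA : X ≤ Subgroup.normalizer (A : Set G)) (hXP : X ≤ Subgroup.centralizer (P : Set G))
    (hXp : ¬ p ∣ Nat.card X) : ⁅X, X⁆ ≤ Subgroup.centralizer (A : Set G) := by
  classical
  have hp : p.Prime := Fact.out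
  have hcop : (Nat.card X).Coprime p := by
    rw [Nat.coprime_comm, Nat.Prime.coprime_iff_not_dvd hp]; exact hXp
  have hApg : IsPGroup p A := IsPGroup.of_card hA
  have hidx : P.relIndex A = p := by
    have h1 := Subgroup.index_mul_card (P.subgroupOf A)
    rw [Nat.card_congr (Subgroup.subgroupOfEquivOfLe hPA).toEquiv, hP, hA] at h1
    have h2 : (P.subgroupOf A).index * p = p * p := by rw [h1]; ring
    exact Nat.eq_of_mul_eq_mul_right hp.pos h2
  obtain ⟨a₀, ha₀A, ha₀P, hinv⟩ :=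
    Cfsg.Agent.Lib.Helper89.exists_invariant_cyclic X hcop (Nat.card A) A P rfl hApg hXA
      (hXP.trans (Subgroup.centralizer_le_normalizer _)) hPA hidx
  -- `X` normalizes `⟨a₀⟩`
  have hconj : ∀ g ∈ X, ∀ z ∈ Subgroup.zpowers a₀, g * z * g⁻¹ ∈ Subgroup.zpowers a₀ := by
    intro g hg z hz
    obtain ⟨n, rfl⟩ := Subgroup.mem_zpowers_iff.mp hz
    have : g * a₀ ^ n * g⁻¹ = (g * a₀ * g⁻¹) ^ n := by
      rw [← MulAut.conj_apply, ← MulAut.conj_apply, map_zpow]
    rw [this]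
    exact Subgroup.zpow_mem _ (hinv g hg) _
  have hXZ : X ≤ Subgroup.normalizer ((Subgroup.zpowers a₀ : Subgroup G) : Set G) := by
    intro g hg
    rw [Subgroup.mem_normalizer_iff]
    intro z
    constructor
    · exact hconj g hg z
    · intro hz
      have := hconj g⁻¹ (X.inv_mem hg) _ hz
      simpa [mul_assoc] using this
  rw [Subgroup.commutator_le]
  intro x hx y hy
  have hz1 : x * y * x⁻¹ * y⁻¹ ∈ Subgroup.centralizer ((Subgroup.zpowers a₀ : Subgroup G) : Set G) :=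
    commutator_mem_centralizer_of_isCyclic _ (hXZ hx) (hXZ hy)
  have hz2 : x * y * x⁻¹ * y⁻¹ ∈ Subgroup.centralizer (P : Set G) :=
    Subgroup.mul_mem _ (Subgroup.mul_mem _ (Subgroup.mul_mem _ (hXP hx) (hXP hy))
      (Subgroup.inv_mem _ (hXP hx))) (Subgroup.inv_mem _ (hXP hy))
  rw [commutatorElement_def]
  set z := x * y * x⁻¹ * y⁻¹ with hz
  -- the subgroup of `A` centralized by `z`
  set T : Subgroup G := A ⊓ Subgroup.centralizer ({z} : Set G) with hT
  have hPT : P ≤ T := by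
    intro u hu
    refine Subgroup.mem_inf.mpr ⟨hPA hu, ?_⟩
    rw [Subgroup.mem_centralizer_singleton_iff]
    exact (Subgroup.mem_centralizer_iff.mp hz2 u hu)
  have ha₀T : a₀ ∈ T := by
    refine Subgroup.mem_inf.mpr ⟨ha₀A, ?_⟩
    rw [Subgroup.mem_centralizer_singleton_iff]
    exact (Subgroup.mem_centralizer_iff.mp hz1 a₀ (Subgroup.mem_zpowers a₀))
  have hTA : T ≤ A := inf_le_left
  have hTeq : T = A := by
    have hdvd : Nat.card T ∣ p ^ 2 := hA ▸ Subgroup.card_dvd_of_le hTA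
    obtain ⟨k, hk2, hk⟩ := (Nat.dvd_prime_pow hp).mp hdvd
    have hk2' : k = 2 := by
      by_contra hne
      have hk1 : k ≤ 1 := by omega
      have hle : Nat.card T ≤ Nat.card P := by
        rw [hk, hP]
        calc p ^ k ≤ p ^ 1 := Nat.pow_le_pow_right hp.pos hk1
          _ = p := pow_one p
      have := Subgroup.eq_of_le_of_card_ge hPT hle
      exact ha₀P (this ▸ ha₀T)
    apply Subgroup.eq_of_le_of_card_ge hTA
    rw [hk, hk2', hA]
  rw [Subgroup.mem_centralizer_iff]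
  intro a ha
  have : a ∈ T := hTeq ▸ ha
  have h3 := (Subgroup.mem_inf.mp this).2
  rw [Subgroup.mem_centralizer_singleton_iff] at h3
  exact h3

end Cfsg.Agent.Lib.Helper01.BG134
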