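import Mathlib
import Cfsg.Agent.Lib.Helper01.BG134D2a
import Cfsg.Agent.Lib.Helper01.Coprime
import Cfsg.Agent.Lib.Helper31.BG134Defs
import Cfsg.Agent.Lib.Helper31.BG12a
import Cfsg.Agent.Lib.Helper13.BG12B
import Cfsg.Agent.Lib.Helper12.CNMaxSub
import Cfsg.Agent.Lib.Helper55.SylowIn
import Cfsg.Agent.S1350
import Cfsg.Agent.S1408
import Cfsg.Agent.S1414
import Cfsg.Agent.S1417
import Cfsg.Agent.S1418

/-!
# K-S1428-D2 (keystone 142816): in the configuration of a counterexample to BG 13.4, `p ∉ τ₂(H)`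

`p_not_tau2_core` is the complete proof modulo the statements of the pack-1 leaves
G7 (142806), G8 (142807), P1 (142808), carried as hypotheses.
-/

set_option autoImplicit false

namespace Cfsg.Agent.Lib.Helper01.BG134

open Cfsg Cfsg.Agent.Lib.Helper55 Cfsg.Agent.Lib.Helper31.BG134

variable {G : Type*} [Group G] [Finite G]

theorem le_normalizer_inf' {A B : Subgroup G} {g : G}
    (hA : g ∈ Subgroup.normalizer (A : Set G)) (hB : g ∈ Subgroup.normalizer (B : Set G)) :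
    g ∈ Subgroup.normalizer ((A ⊓ B : Subgroup G) : Set G) := by
  rw [Subgroup.mem_normalizer_iff] at hA hB ⊢
  intro x
  rw [Subgroup.mem_inf, Subgroup.mem_inf, ← hA x, ← hB x]

/-- D2 modulo G7, G8, P1. -/
theorem p_not_tau2_core {M P R H : Subgroup G} {p r : ℕ} (c : Ctx M P R H p r)
    (hnc : ∀ g : G, cj g M ≠ H) (hr1 : r ∈ tau1 H)
    (h7 : ∀ L : Subgroup G, IsCoatom L → L ≠ M → ∀ (q : ℕ) [Fact q.Prime], q ∈ sigma M →
      q ∈ sigma L → ∀ X : Subgroup G, IsPGroup q X → X ≠ ⊥ → X ≤ M →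
      Subgroup.normalizer (X : Set G) ≤ L →
      ∀ l ∈ L, ∃ b ∈ piCoreOf (beta L) L, ∃ m ∈ M ⊓ L, l = b * m)
    (h8 : ∀ L : Subgroup G, IsCoatom L → L ≠ M → ∀ (q : ℕ) [Fact q.Prime], q ∈ sigma M →
      q ∉ sigma L → ∀ X : Subgroup G, IsPGroup q X → X ≠ ⊥ → X ≤ M →
      Subgroup.normalizer (X : Set G) ≤ L →
      q ∈ tau2 L ∧ IsComplIn (M ⊓ L) (sigmaCore L) L ∧ sigmaCore L ⊓ M = ⊥)
    (hP1 : ∀ L N D T : Subgroup G, N ≤ L → D ≤ L → L ≤ Subgroup.normalizer (N : Set G) →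
      (∀ l ∈ L, ∃ b ∈ N, ∃ d ∈ D, l = b * d) → ∀ (t : ℕ) [Fact t.Prime], ¬ t ∣ Nat.card N →
      T ≤ L → IsPGroup t T → ∃ l ∈ L, cj l T ≤ D) :
    p ∉ tau2 H := by
  classical
  intro hp2
  have hG := c.hG
  have hM := c.hM
  have hH := c.hH
  obtain ⟨hpp, hpσM, -, -, hprk⟩ := c.hp
  have : Fact p.Prime := ⟨hpp⟩
  obtain ⟨-, hpσH, hprk2H, hprk1H⟩ := id hp2
  have hr := c.hr
  have : Fact r.Prime := ⟨hr⟩
  have hHallH := (Cfsg.Agent.S1350.result hG H hH).1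
  -- step 1: `H_σ` is nilpotent, so `σ(H) ∩ σ(M) = ∅`
  obtain ⟨A₀, hA₀H, hA₀el, hA₀card⟩ := Cfsg.Agent.Lib.Helper13.BG12.exists_elemAb_sq_of_tau2 hp2
  have hnil : Group.IsNilpotent (sigmaCore H) :=
    (Cfsg.Agent.S1417.result hG H hH p hp2 A₀ ⟨hA₀H, hA₀el, hA₀card⟩).1
  have hncHM : ∀ g : G, cj g H ≠ M := by
    intro g hg
    apply hnc g⁻¹
    rw [← hg, cj_inv_cj]
  have hdisj : ∀ q : ℕ, q ∈ sigma H → q ∈ sigma M → False := fun q h1 h2 =>
    Cfsg.Agent.Lib.Helper31.BG12.sigma_sigma_disjoint hG hH hM hncHM hnil h1 h2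
  -- the groups `C`, `R`, `P` inside `H`
  set C : Subgroup G := sigmaCore M ⊓ Subgroup.centralizer (P : Set G) with hC
  have hCP : C ≤ Subgroup.centralizer (P : Set G) := inf_le_right
  have hCH : C ≤ H := hCP.trans ((Subgroup.centralizer_le_normalizer _).trans c.hNH)
  have hRH : R ≤ H := c.hRP.trans ((Subgroup.centralizer_le_normalizer _).trans c.hNH)
  have hPH : P ≤ H := Subgroup.le_normalizer.trans c.hNH
  have hRC : R ≤ Subgroup.normalizer (C : Set G) := by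
    intro ρ hρ
    exact le_normalizer_inf'
      (Cfsg.Agent.Lib.Helper71.BG11.le_normalizer_sigmaCore M (c.hRM hρ))
      (Subgroup.le_normalizer (c.hRP hρ))
  have hrp : r ≠ p := by
    rintro rfl
    exact hprk1H hr1.2.2.2.2
  have hcard1 : Nat.card (R ⊔ C : Subgroup G) ∣ Nat.card C * Nat.card R :=
    Dvd.intro _ (Cfsg.Agent.Lib.Helper01.card_sup_mul_card_inf_of_le_normalizer C R hRC)
  have hXCP : R ⊔ C ≤ Subgroup.centralizer (P : Set G) := sup_le c.hRP hCP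
  have hPX : P ≤ Subgroup.normalizer ((R ⊔ C : Subgroup G) : Set G) :=
    (Subgroup.le_centralizer_iff.mp hXCP).trans (Subgroup.centralizer_le_normalizer _)
  have hcard2 : Nat.card (P ⊔ (R ⊔ C) : Subgroup G) ∣ Nat.card (R ⊔ C : Subgroup G) * Nat.card P :=
    Dvd.intro _ (Cfsg.Agent.Lib.Helper01.card_sup_mul_card_inf_of_le_normalizer (R ⊔ C) P hPX)
  have hprimeX : ∀ q : ℕ, q.Prime → q ∣ Nat.card (R ⊔ C : Subgroup G) → q ∈ sigma M ∨ q = r := by
    intro q hq hqd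
    rcases (Nat.Prime.dvd_mul hq).mp (hqd.trans hcard1) with h | h
    · left
      exact Cfsg.Agent.Lib.Helper71.BG11.sigmaCore_pi hG hM hq
        (h.trans (Subgroup.card_dvd_of_le inf_le_left))
    · right
      rw [c.hRc] at h
      exact (Nat.prime_dvd_prime_iff_eq hq hr).mp h
  have hK : ∀ q : ℕ, q.Prime → q ∣ Nat.card (P ⊔ (R ⊔ C) : Subgroup G) → q ∉ sigma H := by
    intro q hq hqd hqH
    rcases (Nat.Prime.dvd_mul hq).mp (hqd.trans hcard2) with h | h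
    · rcases hprimeX q hq h with h' | h'
      · exact hdisj q hqH h'
      · rw [h'] at hqH
        exact hr1.2.1 hqH
    · rw [c.hPc] at h
      rw [(Nat.prime_dvd_prime_iff_eq hq hpp).mp h] at hqH
      exact hpσH hqH
  have hKH : P ⊔ (R ⊔ C) ≤ H := sup_le hPH (sup_le hRH hCH)
  obtain ⟨E, hE, hKE⟩ := Cfsg.Agent.Lib.Helper13.BG12.exists_complIn_ge hG hH hHallH hKH hK
  obtain ⟨A, hAE, hAel, hAcard⟩ :=
    Cfsg.Agent.Lib.Helper13.BG12.exists_elemAb_sq_le_compl hG hH hHallH hp2 hE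
  obtain ⟨⟨hEA, hXA⟩, -, -⟩ := Cfsg.Agent.S1418.result hG H hH E hE p hp2 A ⟨hAE, hAel, hAcard⟩
  have hPA : P ≤ A := hXA P (le_sup_left.trans hKE) c.hPc
  have hXNA : R ⊔ C ≤ Subgroup.normalizer (A : Set G) := (le_sup_right.trans hKE).trans hEA
  have hXp : ¬ p ∣ Nat.card (R ⊔ C : Subgroup G) := by
    intro hd
    rcases hprimeX p hpp hd with h | h
    · exact hpσM h
    · exact hrp h.symm
  have hcomm := commutator_le_centralizer_of_line A P (R ⊔ C) hAcard hPA c.hPc hXNA hXCP hXp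
  have hCRA : ⁅C, R⁆ ≤ Subgroup.centralizer (A : Set G) :=
    (Subgroup.commutator_mono le_sup_right le_sup_left).trans hcomm
  have hCRne : ⁅C, R⁆ ≠ ⊥ := by
    intro h
    exact c.hnc (Subgroup.commutator_eq_bot_iff_le_centralizer.mp h)
  have hCRC : ⁅C, R⁆ ≤ C := by
    rw [Subgroup.commutator_le]
    intro x hx ρ hρ
    rw [commutatorElement_def]
    have h1 : ρ * x⁻¹ * ρ⁻¹ ∈ C :=
      (Subgroup.mem_normalizer_iff.mp (hRC hρ) x⁻¹).mp (C.inv_mem hx)
    have h2 : x * ρ * x⁻¹ * ρ⁻¹ = x * (ρ * x⁻¹ * ρ⁻¹) := by group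
    rw [h2]
    exact C.mul_mem hx h1
  -- a subgroup `Y` of prime order `q` in `⁅C, R⁆`
  have hcard_ne : Nat.card ↥⁅C, R⁆ ≠ 1 := fun h => hCRne (Subgroup.card_eq_one.mp h)
  obtain ⟨q, hq, hqd⟩ := Nat.exists_prime_and_dvd hcard_ne
  have : Fact q.Prime := ⟨hq⟩
  obtain ⟨y, hy⟩ := exists_prime_orderOf_dvd_card' q hqd
  set Y : Subgroup G := Subgroup.zpowers (y : G) with hY
  have hYord : orderOf (y : G) = q := by rw [Subgroup.orderOf_coe, hy]
  have hYcard : Nat.card Y = q := by rw [hY, Nat.card_zpowers, hYord]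
  have hYCR : Y ≤ ⁅C, R⁆ := Subgroup.zpowers_le.mpr y.2
  have hYC : Y ≤ C := hYCR.trans hCRC
  have hYσ : Y ≤ sigmaCore M := hYC.trans inf_le_left
  have hYM : Y ≤ M := hYσ.trans (Cfsg.Agent.Lib.Helper71.BG11.sigmaCore_le M)
  have hYq : IsPGroup q Y := IsPGroup.of_card (n := 1) (by rw [hYcard, pow_one])
  have hY1 : Y ≠ ⊥ := by
    intro h
    rw [h, Subgroup.card_bot] at hYcard
    exact hq.one_lt.ne hYcard
  have hqM : q ∈ sigma M := by
    apply Cfsg.Agent.Lib.Helper71.BG11.sigmaCore_pi hG hM hq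
    rw [← hYcard]
    exact Subgroup.card_dvd_of_le hYσ
  have hAY : A ≤ Subgroup.centralizer (Y : Set G) :=
    Subgroup.le_centralizer_iff.mp (hYCR.trans hCRA)
  have hYtop : Y ≠ ⊤ := by
    intro h
    apply hM.1
    rw [eq_top_iff, ← h]
    exact hYM
  obtain ⟨L, hL, hNL⟩ := Cfsg.Agent.Lib.Helper12.CNMaxSub.exists_coatom_normalizer_le hG hY1 hYtop
  have hAL : A ≤ L := hAY.trans ((Subgroup.centralizer_le_normalizer _).trans hNL)
  -- no conjugate of `A` lies in `M`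
  have hbad : ∀ B : Subgroup G, B ≤ M → (∀ a ∈ B, ∀ b ∈ B, a * b = b * a) →
      (∀ a ∈ B, a ^ p = 1) → Nat.card B = p ^ 2 → False := by
    intro B hBM h1 h2 h3
    apply (Cfsg.Agent.Lib.Helper55.not_pRankLE_sub_iff.mpr ⟨B, hBM, h1, h2, ?_⟩) hprk
    rw [h3, pow_one]
    nlinarith [hpp.one_lt]
  have hAcomm : ∀ a ∈ A, ∀ b ∈ A, a * b = b * a := by
    intro a ha b hb
    have := hAel.1.is_comm.comm ⟨a, ha⟩ ⟨b, hb⟩
    exact congrArg Subtype.val this
  have hbadcj : ∀ l : G, cj l A ≤ M → False := by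
    intro l hl
    apply hbad (cj l A) hl
    · rintro _ ⟨a, ha, rfl⟩ _ ⟨b, hb, rfl⟩
      simp only [MulEquiv.coe_toMonoidHom, MulAut.conj_apply]
      have := hAcomm a ha b hb
      calc l * a * l⁻¹ * (l * b * l⁻¹) = l * (a * b) * l⁻¹ := by group
        _ = l * (b * a) * l⁻¹ := by rw [this]
        _ = l * b * l⁻¹ * (l * a * l⁻¹) := by group
    · rintro _ ⟨a, ha, rfl⟩
      simp only [MulEquiv.coe_toMonoidHom]
      rw [← map_pow, hAel.2 a ha, map_one]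
    · rw [card_cj, hAcard]
  have hLM : L ≠ M := by
    rintro rfl
    apply hbadcj 1
    rw [cj_one]
    exact hAL
  have hid : ¬ IsIdealPrime p G := (Cfsg.Agent.S1408.result hG H hH p hpσH hprk2H hprk1H).1
  have hApg : IsPGroup p A := IsPGroup.of_card hAcard
  by_cases hqL : q ∈ sigma L
  · have hfac := h7 L hL hLM q hqM hqL Y hYq hY1 hYM hNL
    have h14 := (Cfsg.Agent.S1414.result hG L hL).1
    have hNp : ¬ p ∣ Nat.card (piCoreOf (beta L) L) := fun hd => hid (h14.2.1 p hpp hd).2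
    obtain ⟨l, -, hlA⟩ := hP1 L (piCoreOf (beta L) L) (M ⊓ L) A h14.1 inf_le_right
      (Cfsg.Agent.Lib.Helper31.le_normalizer_piCoreOf _ L) hfac p hNp hAL hApg
    exact hbadcj l (hlA.trans inf_le_left)
  · obtain ⟨-, hcompl, hLσM⟩ := h8 L hL hLM q hqM hqL Y hYq hY1 hYM hNL
    have hHallL := (Cfsg.Agent.S1350.result hG L hL).1
    by_cases hpL : p ∈ sigma L
    · have hPL : P ≤ L := hPA.trans hAL
      have hPLσ : P ≤ sigmaCore L := by
        apply Cfsg.Agent.Lib.Helper71.BG10.le_of_isPiHallOf_normal hHallL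
          (Cfsg.Agent.Lib.Helper71.BG11.le_normalizer_sigmaCore L) hPL
        intro s hs hsd
        rw [c.hPc] at hsd
        rw [(Nat.prime_dvd_prime_iff_eq hs hpp).mp hsd]
        exact hpL
      have hPbot : P ≤ ⊥ := hLσM ▸ le_inf hPLσ c.hPM
      have hP1' : Nat.card P = 1 := by
        rw [le_bot_iff.mp hPbot, Subgroup.card_bot]
      rw [c.hPc] at hP1'
      exact hpp.one_lt.ne' hP1'
    · have hNp : ¬ p ∣ Nat.card (sigmaCore L) := fun hd => hpL (hHallL.2.1 p hpp hd)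
      have hfac : ∀ l ∈ L, ∃ b ∈ sigmaCore L, ∃ d ∈ M ⊓ L, l = b * d := by
        intro l hl
        obtain ⟨a, ha, b, hb, rfl⟩ := hcompl.2.2.2 l hl
        refine ⟨a * b * a⁻¹, ?_, a, ha, by group⟩
        exact (Subgroup.mem_normalizer_iff.mp
          (Cfsg.Agent.Lib.Helper71.BG11.le_normalizer_sigmaCore L (Subgroup.mem_inf.mp ha).2) b).mp hb
      obtain ⟨l, -, hlA⟩ := hP1 L (sigmaCore L) (M ⊓ L) A
        (Cfsg.Agent.Lib.Helper71.BG11.sigmaCore_le L) inf_le_right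
        (Cfsg.Agent.Lib.Helper71.BG11.le_normalizer_sigmaCore L) hfac p hNp hAL hApg
      exact hbadcj l (hlA.trans inf_le_left)

end Cfsg.Agent.Lib.Helper01.BG134
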