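import Mathlib
import Cfsg.Agent.Lib.Helper55.SylowIn
import Cfsg.Agent.Lib.Helper01.Coprime

/-!
# K-S1428-P1 (142808): `L = N D`, `N` normal of order prime to `t`: every `t`-subgroup of `L` is
`L`-conjugate into `D`.
-/

set_option autoImplicit false

namespace Cfsg.Agent.Lib.Helper01.BG134

open Cfsg Cfsg.Agent.Lib.Helper55

variable {G : Type*} [Group G] [Finite G]

/-- a `q`-subgroup of `L` of index prime to `q` is a Sylow `q`-subgroup of `L` -/
theorem isSylowIn_of_not_dvd_relIndex' {q : ℕ} [Fact q.Prime] {L T : Subgroup G} (hTL : T ≤ L)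
    (hT : IsPGroup q T) (h : ¬ q ∣ T.relIndex L) : IsSylowIn q L T := by
  have hq : q.Prime := Fact.out
  refine ⟨hTL, hT, ?_⟩
  intro T' hT'L hT'q hle
  have h1 : T.relIndex T' ∣ T.relIndex L :=
    ⟨_, (Subgroup.relIndex_mul_relIndex T T' L hle hT'L).symm⟩
  have h2 : T.relIndex T' ∣ Nat.card T' := Subgroup.relIndex_dvd_card T T'
  obtain ⟨k, hk⟩ := hT'q.exists_card_eq
  rw [hk] at h2
  obtain ⟨j, -, hj⟩ := (Nat.dvd_prime_pow hq).mp h2
  have hj0 : j = 0 := by
    by_contra hne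
    apply h
    exact (dvd_pow_self q hne).trans (hj ▸ h1)
  rw [hj0, pow_zero] at hj
  exact (Subgroup.relIndex_eq_one.mp hj).antisymm hle |>.symm ▸ rfl

/-- KEYSTONE 142808  K-S1428-P1. -/
theorem exists_conj_le_of_factor (L N D T : Subgroup G) (hNL : N ≤ L) (hDL : D ≤ L)
    (hLN : L ≤ Subgroup.normalizer (N : Set G))
    (hfac : ∀ l ∈ L, ∃ b ∈ N, ∃ d ∈ D, l = b * d) {t : ℕ} [Fact t.Prime]
    (htN : ¬ t ∣ Nat.card N) (hTL : T ≤ L) (hT : IsPGroup t T) :
    ∃ l ∈ L, cj l T ≤ D := by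
  classical
  obtain ⟨S, hS, -⟩ := exists_isSylowIn_ge (p := t) (K := D) (Z := ⊥) bot_le IsPGroup.of_bot
  have hSD : S ≤ D := hS.1
  have h1 : ¬ t ∣ S.relIndex D := by
    have := (hS.toSylow).not_dvd_index
    rw [hS.coe_toSylow] at this
    exact this
  have hLeq : L = D ⊔ N := by
    apply le_antisymm
    · intro l hl
      obtain ⟨b, hb, d, hd, rfl⟩ := hfac l hl
      exact Subgroup.mul_mem _ (Subgroup.mem_sup_right hb) (Subgroup.mem_sup_left hd)
    · exact sup_le hDL hNL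
  have h2 : D.relIndex L ∣ Nat.card N := by
    have h3 := Cfsg.Agent.Lib.Helper01.card_sup_mul_card_inf_of_le_normalizer N D (hDL.trans hLN)
    rw [← hLeq] at h3
    have h4 : D.relIndex L * Nat.card D = Nat.card L := by
      have := Subgroup.index_mul_card (D.subgroupOf L)
      rwa [Nat.card_congr (Subgroup.subgroupOfEquivOfLe hDL).toEquiv] at this
    rw [← h4] at h3
    have hDpos : 0 < Nat.card D := Nat.card_pos
    have h5 : D.relIndex L * Nat.card (N ⊓ D : Subgroup G) * Nat.card D = Nat.card N * Nat.card D := by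
      rw [← h3]; ring
    exact ⟨_, (Nat.eq_of_mul_eq_mul_right hDpos h5).symm⟩
  have h6 : ¬ t ∣ S.relIndex L := by
    rw [← Subgroup.relIndex_mul_relIndex S D L hSD hDL]
    intro hd
    rcases (Nat.Prime.dvd_mul (Fact.out : t.Prime)).mp hd with h | h
    · exact h1 h
    · exact htN (h.trans h2)
  have hSL : IsSylowIn t L S := isSylowIn_of_not_dvd_relIndex' (hSD.trans hDL) hS.2.1 h6
  obtain ⟨l, hl, hlT⟩ := hSL.exists_conj_le hTL hT
  exact ⟨l, hl, hlT.trans hSD⟩

end Cfsg.Agent.Lib.Helper01.BG134
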