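import Mathlib
import Cfsg.Agent.Lib.Helper32.CoprimeDecomp

/-!
# S1428 sub-lemma (S4): coprime action of a commuting family on an abelian `q`-group with no
common fixed point: `A = ⨆ i, ⁅A, U i⁆`.
-/

set_option autoImplicit false

namespace Cfsg.Agent.Lib.Helper01.BG134

variable {G : Type*} [Group G] [Finite G]

theorem mem_normalizer_iInf {κ : Sort*} (X : κ → Subgroup G) (u : G)
    (h : ∀ k, u ∈ Subgroup.normalizer (X k : Set G)) :
    u ∈ Subgroup.normalizer ((⨅ k, X k : Subgroup G) : Set G) := by
  rw [Subgroup.mem_normalizer_iff]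
  intro x
  simp only [Subgroup.mem_iInf]
  exact forall_congr' (fun k => Subgroup.mem_normalizer_iff.mp (h k) x)

theorem mem_normalizer_inf {X Y : Subgroup G} {u : G}
    (hX : u ∈ Subgroup.normalizer (X : Set G)) (hY : u ∈ Subgroup.normalizer (Y : Set G)) :
    u ∈ Subgroup.normalizer ((X ⊓ Y : Subgroup G) : Set G) := by
  rw [Subgroup.mem_normalizer_iff] at hX hY ⊢
  intro x
  rw [Subgroup.mem_inf, Subgroup.mem_inf, ← hX x, ← hY x]

/-- **(S4)** -/
theorem iSup_commutator_eq_of_fix_eq_bot {q : ℕ} [Fact q.Prime] {ι : Type*} [Finite ι]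
    (A : Subgroup G) (U : ι → Subgroup G) (hA : IsPGroup q A)
    (hab : ∀ a ∈ A, ∀ b ∈ A, a * b = b * a)
    (hUA : ∀ i, U i ≤ Subgroup.normalizer (A : Set G)) (hUq : ∀ i, ¬ q ∣ Nat.card (U i))
    (hUU : ∀ i j, U i ≤ Subgroup.centralizer (U j : Set G))
    (hfix : A ⊓ ⨅ i, Subgroup.centralizer (U i : Set G) = ⊥) : (⨆ i, ⁅A, U i⁆) = A := by
  classical
  have hq : q.Prime := Fact.out
  have : Fintype ι := Fintype.ofFinite ι
  apply le_antisymm
  · apply iSup_le
    intro i
    exact Subgroup.le_normalizer_iff_commutator_le_left.1 (hUA i)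
  · have key : ∀ s : Finset ι,
        A ≤ (A ⊓ ⨅ i ∈ s, Subgroup.centralizer (U i : Set G)) ⊔ ⨆ i ∈ s, ⁅A, U i⁆ := by
      intro s
      induction s using Finset.induction_on with
      | empty => simp
      | insert j s hj ih =>
        set B : Subgroup G := A ⊓ ⨅ i ∈ s, Subgroup.centralizer (U i : Set G) with hB
        have hBA : B ≤ A := inf_le_left
        have hUjB : U j ≤ Subgroup.normalizer (B : Set G) := by
          intro u hu
          apply mem_normalizer_inf (hUA j hu)
          apply mem_normalizer_iInf
          intro i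
          apply mem_normalizer_iInf
          intro _
          exact Subgroup.le_normalizer (hUU j i hu)
        have hBq : IsPGroup q B := hA.to_le hBA
        have hcop : (Nat.card B).Coprime (Nat.card (U j)) := by
          obtain ⟨k, hk⟩ := IsPGroup.iff_card.mp hBq
          rw [hk]
          apply Nat.Coprime.pow_left
          exact (Nat.Prime.coprime_iff_not_dvd hq).mpr (hUq j)
        have hBcomm : IsMulCommutative B :=
          ⟨⟨fun a b => Subtype.ext (hab a (hBA a.2) b (hBA b.2))⟩⟩
        have hsolv : Group.IsSolvable B := by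
          have : ∀ a b : B, a * b = b * a := fun a b => hBcomm.is_comm.comm a b
          exact isSolvable_of_comm this
        have hdec := Cfsg.Agent.Lib.Helper32.le_centralizer_sup_commutator hUjB hcop (Or.inl hsolv)
        rw [Finset.iInf_insert, Finset.iSup_insert]
        calc A ≤ B ⊔ ⨆ i ∈ s, ⁅A, U i⁆ := ih
          _ ≤ ((B ⊓ Subgroup.centralizer (U j : Set G)) ⊔ ⁅B, U j⁆) ⊔ ⨆ i ∈ s, ⁅A, U i⁆ :=
              sup_le_sup_right hdec _
          _ ≤ _ := by
              apply sup_le (sup_le ?_ ?_) ?_
              · apply le_sup_of_le_left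
                rw [hB]
                apply le_inf
                · exact inf_le_left.trans inf_le_left
                · exact le_inf inf_le_right (inf_le_left.trans inf_le_right)
              · apply le_sup_of_le_right
                apply le_sup_of_le_left
                exact Subgroup.commutator_mono hBA le_rfl
              · apply le_sup_of_le_right
                exact le_sup_right
    have h1 := key Finset.univ
    have h2 : (⨅ i ∈ (Finset.univ : Finset ι), Subgroup.centralizer (U i : Set G)) =
        ⨅ i, Subgroup.centralizer (U i : Set G) := by simp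
    have h3 : (⨆ i ∈ (Finset.univ : Finset ι), ⁅A, U i⁆) = ⨆ i, ⁅A, U i⁆ := by simp
    rw [h2, h3, hfix, bot_sup_eq] at h1
    exact h1

end Cfsg.Agent.Lib.Helper01.BG134
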