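import Mathlib
import Cfsg.Prelude.Def_OddOrderLocal
import Cfsg.Agent.S1445
import Cfsg.Agent.Lib.Helper01.PCore
import Cfsg.Agent.Lib.Helper01.PPrimeCore
import Cfsg.Agent.Lib.Helper01.Fitting
import Cfsg.Agent.Lib.Helper01.Coprime
import Cfsg.Agent.Lib.Helper03.FrobThompson
import Cfsg.Agent.Lib.Helper54.Quot

/-!
# K-151-C (keystone 135503, pack of helper12 for S1355 + S1364): the CORE of BG Theorem 15.2

A finite solvable group `X = H ⋊ K` of odd order with prime action of `K` on `H`, `|C_H(K)| = q` prime,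
`[H, K] = H` and `H` not nilpotent: `Q = O_q(X)` is a Sylow `q`-subgroup of `H` containing `C_H(K)`,
and `H / Q` is nilpotent (so the complements of `Q` in `H` are nilpotent).
-/

set_option autoImplicit false
set_option linter.unusedVariables false
set_option linter.unusedSectionVars false

namespace Cfsg.Agent.Lib.Helper01.BG151

open Cfsg

variable {X : Type*} [Group X]

/-- the Fitting subgroup is characteristic -/
theorem fittingSubgroup_characteristic_c (K : Type*) [Group K] :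
    (Cfsg.fittingSubgroup K).Characteristic := by
  rw [Subgroup.characteristic_iff_map_le]
  intro φ
  unfold Cfsg.fittingSubgroup
  rw [Subgroup.map_le_iff_le_comap]
  apply sSup_le
  rintro N ⟨hN, hnil⟩
  rw [← Subgroup.map_le_iff_le_comap]
  apply le_sSup
  refine ⟨hN.map _ φ.surjective, ?_⟩
  have e : N ≃* N.map φ.toMonoidHom := N.equivMapOfInjective φ.toMonoidHom φ.injective
  exact Group.nilpotent_of_mulEquiv e

theorem fittingOf_isNilpotent_c [Finite X] (H : Subgroup X) : Group.IsNilpotent ↥(fittingOf H) := by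
  have h1 : Group.IsNilpotent ↥(Cfsg.fittingSubgroup ↥H) :=
    Cfsg.Agent.Lib.Helper01.fitting_isNilpotent
  exact Group.nilpotent_of_mulEquiv
    ((Cfsg.fittingSubgroup ↥H).equivMapOfInjective H.subtype H.subtype_injective)

theorem fittingOf_normal_c (H : Subgroup X) [H.Normal] : (fittingOf H).Normal := by
  have h1 := fittingSubgroup_characteristic_c ↥H
  exact (ConjAct.normal_of_characteristic_of_normal :
    ((Cfsg.fittingSubgroup ↥H).map H.subtype).Normal)

/-- a `q`-subgroup of a normal nilpotent subgroup lies in `O_q` -/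
theorem le_pCore_of_le_normal_nilpotent_c [Finite X] {q : ℕ} [Fact q.Prime] {F C : Subgroup X}
    (hF : F.Normal) (hnil : Group.IsNilpotent F) (hCF : C ≤ F) (hCq : IsPGroup q C) :
    C ≤ Cfsg.pCore q X := by
  obtain ⟨P, hP⟩ := (hCq.comap_subtype (K := F)).exists_le_sylow
  have hPn : (P : Subgroup F).Normal := inferInstance
  have hPc : (P : Subgroup F).Characteristic := Sylow.characteristic_of_normal P hPn
  have hN : ((P : Subgroup F).map F.subtype).Normal := ConjAct.normal_of_characteristic_of_normal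
  have hq : IsPGroup q ((P : Subgroup F).map F.subtype) := P.isPGroup'.map _
  refine le_trans ?_ (Cfsg.Agent.Lib.Helper01.le_pCore hN hq)
  intro c hc
  refine ⟨⟨c, hCF hc⟩, hP ?_, rfl⟩
  show (⟨c, hCF hc⟩ : F) ∈ C.comap F.subtype
  exact hc

/-- **K-151-C (CORE)** (135503). -/
theorem core {X : Type*} [Group X] [Finite X] [Group.IsSolvable X] (hodd : Odd (Nat.card X))
    (H K : Subgroup X) [H.Normal] (hHK : H ⊔ K = ⊤) (hcop : (Nat.card H).Coprime (Nat.card K))
    (hK1 : K ≠ ⊥)
    (hprime : ∀ x ∈ K, x ≠ 1 →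
      H ⊓ Subgroup.centralizer ({x} : Set X) = H ⊓ Subgroup.centralizer (K : Set X))
    (q : ℕ) (hq : q.Prime) (hC : Nat.card ↥(H ⊓ Subgroup.centralizer (K : Set X)) = q)
    (hcomm : ⁅H, K⁆ = H) (hnn : ¬ Group.IsNilpotent H) :
    ∃ Q D : Subgroup X, Q.Normal ∧ IsPGroup q Q ∧ (Nat.card Q).Coprime Q.index ∧
      H ⊓ Subgroup.centralizer (K : Set X) ≤ Q ∧ Q ⊔ D = H ∧ Group.IsNilpotent D := by
  have hqf : Fact q.Prime := ⟨hq⟩
  -- Step 1: `F(H) ∩ C_H(K) ≠ 1`
  have hF1 : fittingOf H ⊓ Subgroup.centralizer (K : Set X) ≠ ⊥ := by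
    intro hF
    have h := Cfsg.Agent.S1445.result hodd H K hHK hcop hprime hF
    rw [hcomm] at h
    apply hnn
    have hFH : fittingOf H = H := le_antisymm (Subgroup.map_subtype_le _) h
    have h2 : Group.IsNilpotent ↥(fittingOf H) := fittingOf_isNilpotent_c H
    rw [hFH] at h2
    exact h2
  -- Step 2: `C ≤ F(H)`, hence `C ≤ Q := O_q(X)`
  have hFH' : fittingOf H ≤ H := Subgroup.map_subtype_le _
  have hCF : H ⊓ Subgroup.centralizer (K : Set X) ≤ fittingOf H := by
    have hW : fittingOf H ⊓ Subgroup.centralizer (K : Set X) ≤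
        H ⊓ Subgroup.centralizer (K : Set X) := inf_le_inf_right _ hFH'
    have hd := Subgroup.card_dvd_of_le hW
    rw [hC] at hd
    rcases (Nat.dvd_prime hq).mp hd with h1 | h1
    · exact absurd (Subgroup.card_eq_one.mp h1) hF1
    · have heq : fittingOf H ⊓ Subgroup.centralizer (K : Set X) =
          H ⊓ Subgroup.centralizer (K : Set X) :=
        Subgroup.eq_of_le_of_card_ge hW (by rw [h1, hC])
      rw [← heq]
      exact inf_le_left
  have hCq : IsPGroup q ↥(H ⊓ Subgroup.centralizer (K : Set X)) :=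
    IsPGroup.of_card (n := 1) (by rw [hC, pow_one])
  have hQn : (Cfsg.pCore q X).Normal := Cfsg.Agent.Lib.Helper01.pCore_normal q
  have hQp : IsPGroup q (Cfsg.pCore q X) := Cfsg.Agent.Lib.Helper01.pCore_isPGroup q
  have hCQ : H ⊓ Subgroup.centralizer (K : Set X) ≤ Cfsg.pCore q X :=
    le_pCore_of_le_normal_nilpotent_c (fittingOf_normal_c H) (fittingOf_isNilpotent_c H) hCF hCq
  -- Step 3: arithmetic
  have hqH : q ∣ Nat.card H := by
    rw [← hC]
    exact Subgroup.card_dvd_of_le inf_le_left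
  have hqK : q.Coprime (Nat.card K) := hcop.coprime_dvd_left hqH
  obtain ⟨n, hn⟩ := IsPGroup.iff_card.mp hQp
  have hcopQK : (Nat.card (Cfsg.pCore q X)).Coprime (Nat.card K) := by
    rw [hn]
    exact hqK.pow_left n
  have hHidx : H.index ∣ Nat.card K := by
    have h1 := Subgroup.relIndex_sup_left K H
    rw [hHK, Subgroup.relIndex_top_right] at h1
    rw [h1]
    exact Subgroup.relIndex_dvd_card H K
  have hQH : Cfsg.pCore q X ≤ H := by
    rw [← Subgroup.relIndex_eq_one]
    have h1 : H.relIndex (Cfsg.pCore q X) ∣ Nat.card K :=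
      (Subgroup.relIndex_dvd_index_of_normal H (Cfsg.pCore q X)).trans hHidx
    have h2 : H.relIndex (Cfsg.pCore q X) ∣ Nat.card (Cfsg.pCore q X) :=
      Subgroup.relIndex_dvd_card H (Cfsg.pCore q X)
    exact Nat.eq_one_of_dvd_coprimes hcopQK h2 h1
  have hHK0 : H ⊓ K = ⊥ := (Subgroup.disjoint_of_coprime_natCard hcop).eq_bot
  -- Step 3': `K` acts fixed-point-freely on `H / Q`
  obtain ⟨Q, hQdef⟩ : ∃ Q : Subgroup X, Q = Cfsg.pCore q X := ⟨_, rfl⟩
  rw [← hQdef] at hQn hQp hCQ hcopQK hQH hn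
  have hQn' : Q.Normal := hQn
  obtain ⟨π, hπ⟩ : ∃ π : X →* X ⧸ Q, π = QuotientGroup.mk' Q := ⟨_, rfl⟩
  have hπs : Function.Surjective π := by
    rw [hπ]
    exact QuotientGroup.mk'_surjective Q
  have hπ1 : ∀ x : X, π x = 1 ↔ x ∈ Q := by
    intro x
    rw [hπ]
    exact QuotientGroup.eq_one_iff x
  have hHbn : (H.map π).Normal := Subgroup.Normal.map inferInstance π hπs
  have hE1 : K.map π ≠ ⊥ := by
    obtain ⟨k, hk1⟩ := (Subgroup.ne_bot_iff_exists_ne_one).mp hK1
    intro hbot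
    have h1 : π (k : X) ∈ K.map π := Subgroup.mem_map_of_mem π k.2
    rw [hbot, Subgroup.mem_bot, hπ1] at h1
    have h2 : (k : X) ∈ Q ⊓ K := ⟨h1, k.2⟩
    rw [(Subgroup.disjoint_of_coprime_natCard hcopQK).eq_bot, Subgroup.mem_bot] at h2
    exact hk1 (Subtype.ext h2)
  have hUn : ∀ e ∈ K.map π, ∀ u ∈ H.map π, e * u * e⁻¹ ∈ H.map π :=
    fun e _ u hu => hHbn.conj_mem u hu e
  have hfpf : ∀ e ∈ K.map π, e ≠ 1 → ∀ u ∈ H.map π, e * u = u * e → u = 1 := by
    rintro _ ⟨k, hkK, rfl⟩ hk1 _ ⟨h, hhH, rfl⟩ hcomm'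
    have hk1' : k ≠ 1 := by
      rintro rfl
      exact hk1 (map_one _)
    have hA : ∀ a ∈ Subgroup.zpowers k, h⁻¹ * a * h * a⁻¹ ∈ Q := by
      intro a ha
      obtain ⟨m, rfl⟩ := Subgroup.mem_zpowers_iff.mp ha
      have hc : Commute (π k) (π h) := hcomm'
      have hc2 : Commute (π (k ^ m)) (π h) := by
        rw [map_zpow]
        exact hc.zpow_left m
      rw [← hπ1, map_mul, map_mul, map_mul, map_inv, map_inv, mul_assoc (π h)⁻¹, hc2.eq]
      group
    have hAN : Subgroup.zpowers k ≤ Subgroup.normalizer (Q : Set X) := by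
      rw [Subgroup.normalizer_eq_top_iff.mpr hQn']
      exact le_top
    have hkle : Subgroup.zpowers k ≤ K := Subgroup.zpowers_le.mpr hkK
    have hcopA : (Nat.card Q).Coprime (Nat.card (Subgroup.zpowers k)) :=
      hcopQK.coprime_dvd_right (Subgroup.card_dvd_of_le hkle)
    obtain ⟨n', hnQ, hconj⟩ := Cfsg.Agent.Lib.Helper01.exists_mul_inv_normalizes hAN hcopA
      (Or.inl inferInstance) h hA
    have hcH : n' * h⁻¹ ∈ H := H.mul_mem (hQH hnQ) (H.inv_mem hhH)
    have hAK : Subgroup.zpowers k ≤ Subgroup.normalizer (H : Set X) := by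
      rw [Subgroup.normalizer_eq_top_iff.mpr inferInstance]
      exact le_top
    have hdisj : H ⊓ Subgroup.zpowers k = ⊥ := by
      rw [eq_bot_iff, ← hHK0]
      exact inf_le_inf_left _ hkle
    have hcc := Cfsg.Agent.Lib.Helper01.mem_centralizer_of_conj_smul_eq hAK hdisj hcH hconj
    have hck : n' * h⁻¹ ∈ Subgroup.centralizer ({k} : Set X) := by
      rw [Subgroup.mem_centralizer_iff] at hcc ⊢
      intro y hy
      rw [Set.mem_singleton_iff] at hy
      subst hy
      exact hcc y (Subgroup.mem_zpowers y)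
    have hcC : n' * h⁻¹ ∈ H ⊓ Subgroup.centralizer (K : Set X) := by
      rw [← hprime k hkK hk1']
      exact ⟨hcH, hck⟩
    have hcQ : n' * h⁻¹ ∈ Q := hCQ hcC
    have hhQ : h ∈ Q := by
      have e : h = (n' * h⁻¹)⁻¹ * n' := by group
      rw [e]
      exact Q.mul_mem (Q.inv_mem hcQ) hnQ
    exact (hπ1 h).mpr hhQ
  -- Step 4: Thompson
  have hnil : Group.IsNilpotent ↥(H.map π) :=
    Cfsg.Agent.Lib.Helper03.FrobThompson.isNilpotent_of_fpf (H.map π) (K.map π) hE1 hUn hfpf
  -- Step 5: `q ∤ |H / Q|`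
  have hqHb : ¬ q ∣ Nat.card ↥(H.map π) := by
    intro hdiv
    obtain ⟨P⟩ : Nonempty (Sylow q ↥(H.map π)) := inferInstance
    have hPne : (P : Subgroup ↥(H.map π)) ≠ ⊥ := P.ne_bot_of_dvd_card hdiv
    have hPn : (P : Subgroup ↥(H.map π)).Normal := inferInstance
    have hPc : (P : Subgroup ↥(H.map π)).Characteristic := Sylow.characteristic_of_normal P hPn
    have hN : ((P : Subgroup ↥(H.map π)).map (H.map π).subtype).Normal :=
      ConjAct.normal_of_characteristic_of_normal
    have hPq : IsPGroup q ((P : Subgroup ↥(H.map π)).map (H.map π).subtype) := P.isPGroup'.map _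
    have h1 := Cfsg.Agent.Lib.Helper01.le_pCore hN hPq
    have h2 : Cfsg.pCore q (X ⧸ Q) = ⊥ := by
      rw [Cfsg.Agent.Lib.Helper54.pCore_quotient_of_isPGroup Q hQp, ← hQdef, ← hπ]
      rw [eq_bot_iff]
      rintro _ ⟨x, hx, rfl⟩
      rw [Subgroup.mem_bot, hπ1]
      exact hx
    rw [h2, le_bot_iff] at h1
    apply hPne
    rw [eq_bot_iff]
    intro x hx
    have h3 : ((H.map π).subtype x) ∈ ((P : Subgroup ↥(H.map π)).map (H.map π).subtype) :=
      Subgroup.mem_map_of_mem _ hx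
    rw [h1, Subgroup.mem_bot] at h3
    rw [Subgroup.mem_bot]
    exact Subtype.ext h3
  -- Step 6: `Q` is a Sylow `q`-subgroup
  have hrel : Q.relIndex H = Nat.card ↥(H.map π) := by
    have h1 := Subgroup.relIndex_ker H π
    rw [hπ, QuotientGroup.ker_mk'] at h1
    rw [hπ]
    exact h1
  have hqrel : ¬ q ∣ Q.relIndex H := by
    rw [hrel]
    exact hqHb
  have hqidx : ¬ q ∣ Q.index := by
    rw [← Subgroup.relIndex_mul_index hQH]
    intro hd
    rcases (Nat.Prime.dvd_mul hq).mp hd with h1 | h1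
    · exact hqrel h1
    · have h2 : q ∣ Nat.card K := h1.trans hHidx
      have h3 := Nat.eq_one_of_dvd_coprimes hqK (dvd_refl q) h2
      exact hq.ne_one h3
  have hcopQ : (Nat.card Q).Coprime Q.index := by
    rw [hn]
    exact ((Nat.Prime.coprime_iff_not_dvd hq).mpr hqidx).pow_left n
  -- Step 7: a complement `D` of `Q` in `H`
  have hNn : (Q.subgroupOf H).Normal := Subgroup.Normal.subgroupOf hQn' H
  have hcN : Nat.card (Q.subgroupOf H) = Nat.card Q :=
    Nat.card_congr (Subgroup.subgroupOfEquivOfLe hQH).toEquiv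
  have hcop' : (Nat.card (Q.subgroupOf H)).Coprime (Q.subgroupOf H).index := by
    rw [hcN, hn]
    exact ((Nat.Prime.coprime_iff_not_dvd hq).mpr hqrel).pow_left n
  obtain ⟨D', hD'⟩ := Subgroup.exists_right_complement'_of_coprime hcop'
  have hsup : Q ⊔ D'.map H.subtype = H := by
    have h := hD'.sup_eq_top
    have h2 := congrArg (Subgroup.map H.subtype) h
    rw [Subgroup.map_sup, Subgroup.subgroupOf_map_subtype, inf_eq_left.mpr hQH] at h2
    rw [h2, ← MonoidHom.range_eq_map, Subgroup.range_subtype]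
  have hinf : Q ⊓ D'.map H.subtype = ⊥ := by
    rw [eq_bot_iff]
    rintro x ⟨hxQ, hxD⟩
    obtain ⟨r, hr, rfl⟩ := Subgroup.mem_map.mp hxD
    have hrN : r ∈ Q.subgroupOf H := Subgroup.mem_subgroupOf.mpr hxQ
    have h3 : r ∈ Q.subgroupOf H ⊓ D' := ⟨hrN, hr⟩
    rw [hD'.disjoint.eq_bot, Subgroup.mem_bot] at h3
    rw [Subgroup.mem_bot, h3]
    rfl
  have hDH : D'.map H.subtype ≤ H := Subgroup.map_subtype_le D'
  refine ⟨Q, D'.map H.subtype, hQn', hQp, hcopQ, hCQ, hsup, ?_⟩
  -- `D` embeds in the nilpotent `H / Q`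
  let f : ↥(D'.map H.subtype) →* ↥(H.map π) :=
    (π.comp (D'.map H.subtype).subtype).codRestrict (H.map π)
      (fun d => Subgroup.mem_map_of_mem π (hDH d.2))
  have hf : Function.Injective f := by
    rw [injective_iff_map_eq_one]
    intro d hd
    have h1 : π (d : X) = 1 := congrArg Subtype.val hd
    rw [hπ1] at h1
    have h2 : (d : X) ∈ Q ⊓ D'.map H.subtype := ⟨h1, d.2⟩
    rw [hinf, Subgroup.mem_bot] at h2
    exact Subtype.ext h2
  have hr : Group.IsNilpotent ↥f.range := inferInstance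
  exact Group.nilpotent_of_mulEquiv (MonoidHom.ofInjective hf).symm

end Cfsg.Agent.Lib.Helper01.BG151
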