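import Mathlib
import Cfsg.Agent.Lib.Helper15.BG139Defs
import Cfsg.Agent.Lib.Helper58.BG139I
import Cfsg.Agent.Lib.Helper54.BG134A3a
import Cfsg.Agent.Lib.Helper13.BG127

/-!
# S1378 keystone 137805 (K-S1378-L456): `Cfg.exists_str` (steps 4-6 of BG 13.9)
-/

set_option autoImplicit false

namespace Cfsg.Agent.Lib.Helper01.BG139

open Cfsg Cfsg.Agent.Lib.Helper55 Cfsg.Agent.Lib.Helper31.BG134 Cfsg.Agent.Lib.Helper15.BG139

variable {G : Type*} [Group G] [Finite G]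

/-- a Sylow `p`-subgroup of `G` is nontrivial when `p` divides the order of a subgroup -/
theorem ne_bot_of_isSylowIn_top {p : ℕ} [Fact p.Prime] {S M : Subgroup G}
    (hS : Cfsg.Agent.Lib.Helper55.IsSylowIn p ⊤ S) (hpM : p ∣ Nat.card M) : S ≠ ⊥ := by
  intro hS1
  obtain ⟨x, hx⟩ := exists_prime_orderOf_dvd_card' (G := ↥M) p hpM
  have hZ : IsPGroup p (Subgroup.zpowers (x : G)) := by
    apply IsPGroup.of_card (n := 1)
    rw [Nat.card_zpowers, Subgroup.orderOf_coe, hx, pow_one]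
  obtain ⟨k, -, hk⟩ := Cfsg.Agent.Lib.Helper55.IsSylowIn.exists_conj_le hS (le_top : Subgroup.zpowers (x : G) ≤ ⊤) hZ
  rw [hS1, le_bot_iff] at hk
  have h1 : Nat.card (cj k (Subgroup.zpowers (x : G))) = 1 := by rw [hk, Subgroup.card_bot]
  have h2 : Nat.card (cj k (Subgroup.zpowers (x : G))) = p := by
    unfold cj
    rw [Subgroup.card_map_of_injective (MulAut.conj k).injective, Nat.card_zpowers,
      Subgroup.orderOf_coe, hx]
  rw [h1] at h2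
  exact (Fact.out : p.Prime).one_lt.ne h2

/-- **KEYSTONE 137805** (steps 4-6). -/
theorem Cfg.exists_str {M N S : Subgroup G} {p : ℕ} (c : Cfg M N S p) {E P : Subgroup G}
    (hE : IsComplIn E (sigmaCore M) M) (hES : E ≤ Subgroup.normalizer (S : Set G)) (hPE : P ≤ E)
    (hPτ : ∀ q : ℕ, q.Prime → q ∣ Nat.card P → q ∈ tau1 M) :
    ∃ E₁ E₃ : Subgroup G, Str M S E E₁ E₃ ∧ P ≤ E₁ := by
  have hG := c.hG
  have hM := c.hM
  have hN := c.hN
  have hp : p.Prime := c.hpM.1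
  have : Fact p.Prime := ⟨hp⟩
  have hSM : S ≤ M := (Subgroup.le_normalizer.trans c.hNS).trans inf_le_left
  have hSN : S ≤ N := (Subgroup.le_normalizer.trans c.hNS).trans inf_le_right
  have hSσ : S ≤ sigmaCore M :=
    Cfsg.Agent.Lib.Helper13.BG127.pgroup_le_sigmaCore hG hM c.hpM hSM c.hS.2.1
  have hS1 : S ≠ ⊥ := ne_bot_of_isSylowIn_top c.hS c.hpM.2.1
  have hEM : E ≤ M := hE.1
  have hEtop : E ≠ ⊤ := fun h => hM.1 (top_le_iff.mp (h ▸ hEM))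
  have hsolv : Group.IsSolvable ↥E := hG.2.2.2 E hEtop
  obtain ⟨E₁, hE₁, hPE₁⟩ :=
    Cfsg.Agent.Lib.Helper54.BG134.exists_isPiHallOf_ge hsolv (tau1 M) hPE hPτ
  obtain ⟨E₃, hE₃, -⟩ := Cfsg.Agent.Lib.Helper54.BG134.exists_isPiHallOf_ge hsolv (tau3 M)
    (bot_le : (⊥ : Subgroup G) ≤ E)
    (fun s hs hsd => by
      rw [Subgroup.card_bot] at hsd
      exact absurd (Nat.dvd_one.1 hsd) hs.ne_one)
  have h15 := Cfsg.Agent.S1415.result hG M hM E hE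
  have hE₁c : IsCyclic E₁ := h15.2.1 E₁ hE₁
  obtain ⟨hE₃c, hE₃', hE₃n⟩ := h15.2.2 E₃ hE₃
  obtain ⟨-, -, -, hEsup, hE₃S, -, -, hfix⟩ :=
    Cfsg.Agent.Lib.Helper58.BG139.common_sigma_structure hG hM hN c.hnc c.hpN c.hS hS1 hSσ hSN
      hE hES hE₁ hE₃
  refine ⟨E₁, E₃, ⟨hE, hES, hE₁, hE₁c, hE₃, hE₃c, hE₃', hE₃n, ?_, ?_, hfix⟩, hPE₁⟩
  · intro x hx
    have hle : E ≤ E₃ ⊔ E₁ := by rw [sup_comm]; exact hEsup
    exact Cfsg.Agent.Lib.Helper54.exists_mul_of_mem_sup_of_le_normalizer (hE₁.1.trans hE₃n)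
      (hle hx)
  · intro x hx
    rw [Subgroup.mem_centralizer_iff]
    intro y hy
    exact (hE₃S x hx y hy).symm

end Cfsg.Agent.Lib.Helper01.BG139
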