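import Mathlib
import Cfsg.Agent.Lib.Helper15.BG142Defs
import Cfsg.Agent.Lib.Helper31.BG12a
import Cfsg.Agent.Lib.Helper58.BG1217U
import Cfsg.Agent.Lib.Helper91.BG125e
import Cfsg.Agent.Lib.Helper71.BG11a
import Cfsg.Agent.Lib.Helper01.BG134CJ
import Cfsg.Agent.S1423

set_option autoImplicit false

/-! K-TX-6 (S1430 pack, architect helper15): first facts about `L ∈ MM(N_G(A))` in the
configuration `TXc`. -/

namespace Cfsg.Agent.Lib.Helper01.BG142

open Cfsg Cfsg.Agent.Lib.Helper55 Cfsg.Agent.Lib.Helper31.BG134 Cfsg.Agent.Lib.Helper15.BG139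
  Cfsg.Agent.Lib.Helper15.BG142

variable {G : Type*} [Group G] [Finite G]

theorem TXc.basicL {M P H EH A T L : Subgroup G} {p t : ℕ} (c : TXc M P H EH A T L p t)
    (hSP : HSP G) :
    p ∈ sigma L ∧ EH ≤ L ∧ L ≠ H ∧ (∀ g : G, cj g M ≠ L) ∧ A ≤ sigmaCore L ∧ t ∈ sigma M ∧
      t ∉ sigma L ∧ p ∉ beta L := by
  have b := c.b
  have w := c.w
  have hG := b.hG
  have hM := b.hM
  have hH := b.hH
  have hL := c.hL
  have hpp : p.Prime := b.hp2.1
  have : Fact p.Prime := ⟨hpp⟩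
  have hpL : p ∈ sigma L :=
    Cfsg.Agent.Lib.Helper58.BG12U.mem_sigma_of_normalizer_elemAb_le hG hL w.hA w.hAc c.hNL
  have hpH : p ∉ sigma H := b.hp2.2.1
  have hpM : p ∉ sigma M := by
    rcases b.hp13 with h | h
    · exact h.2.1
    · exact h.2.1
  have hLH : L ≠ H := by
    rintro rfl
    exact hpH hpL
  have hnc : ∀ g : G, cj g M ≠ L := by
    intro g hg
    rw [← hg] at hpL
    exact hpM ((Cfsg.Agent.Lib.Helper01.BG134.mem_sigma_cj_iff g).mp hpL)
  have hAL : A ≤ L := Subgroup.le_normalizer.trans c.hNL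
  have hAp : IsPGroup p A := isPGroup_of_pow_eq_one w.hA.2
  have hAσ : A ≤ sigmaCore L :=
    Cfsg.Agent.Lib.Helper91.BG125.le_sigmaCore_of_mem_sigma hG hL hpL hAp hAL
  have hTσ : T ≤ sigmaCore M := c.hTC.trans inf_le_left
  have htM : t ∈ sigma M := by
    apply Cfsg.Agent.Lib.Helper71.BG11.sigmaCore_pi hG hM c.ht
    rw [← c.hTc]
    exact Subgroup.card_dvd_of_le hTσ
  have htL : t ∉ sigma L := hSP M L hM hL hnc t htM
  refine ⟨hpL, w.hAn.trans c.hNL, hLH, hnc, hAσ, htM, htL, ?_⟩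
  intro hβ
  have hPL : P ≤ L := w.hPA.trans hAL
  have hS : Nonempty (Sylow p ↥(sigmaCore L)) := inferInstance
  obtain ⟨⟨-, huniq⟩, -, -⟩ := Cfsg.Agent.S1423.result hG L hL p hpL P hPL b.hPc hS.some (Or.inl hβ)
  have hCH : Subgroup.centralizer (P : Set G) ≤ H :=
    (Subgroup.centralizer_le_normalizer _).trans b.hNH
  exact hLH (huniq H hH hCH).symm

end Cfsg.Agent.Lib.Helper01.BG142
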