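import Mathlib
import Cfsg.Agent.Lib.Helper31.BG137Defs
import Cfsg.Agent.S1350
import Cfsg.Agent.S1409
import Cfsg.Agent.S1418
import Cfsg.Agent.Lib.Helper13.BG12B
import Cfsg.Agent.Lib.Helper66.ConjFixed
import Cfsg.Agent.Lib.Helper40.BG36C1

set_option autoImplicit false

/-! K-137N-H1 (BG 13.7, nonabelian case, step (i) first part): for a maximal `H ≥ N_G(P)` with
`q ∉ σ(H)`: `p ∈ σ(H)`. -/

namespace Cfsg.Agent.Lib.Helper01.BG137

open Cfsg Cfsg.Agent.Lib.Helper55 Cfsg.Agent.Lib.Helper31.BG137 Cfsg.Agent.Lib.Helper15.BG139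

variable {G : Type*} [Group G] [Finite G]

theorem LCfg.mem_sigma_H {M E P A L H : Subgroup G} {p q : ℕ} (l : LCfg M E P A L p q)
    (hR : Nat.card ↥(A ⊓ Subgroup.centralizer (P : Set G)) = q)
    (hRM : Subgroup.centralizer ((A ⊓ Subgroup.centralizer (P : Set G) : Subgroup G) : Set G) ≤ M)
    (hpq : p ∣ q - 1) (hH : IsCoatom H) (hNP : Subgroup.normalizer (P : Set G) ≤ H) (hqH : q ∉ sigma H) :
    p ∈ sigma H := by
  by_contra hpH
  have c := l.c
  have hG := c.hG
  have hpp : p.Prime := c.hp.1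
  have hqp : q.Prime := c.hq.1
  have : Fact p.Prime := ⟨hpp⟩
  have : Fact q.Prime := ⟨hqp⟩
  -- `p < q`
  have hq1 : 0 < q - 1 := by have := hqp.two_le; omega
  have hplt : p < q := by have := Nat.le_of_dvd hq1 hpq; omega
  have hne : p ≠ q := hplt.ne
  -- S1409: `p ∈ τ₂(H)`
  obtain ⟨⟨hr2, hr1⟩, -, -⟩ := Cfsg.Agent.S1409.result hG H hH p hpH P c.hP hNP
  have hp2 : p ∈ tau2 H := ⟨hpp, hpH, hr2, hr1⟩
  have hHall : IsPiHallOf (sigma H) (sigmaCore H) H := (Cfsg.Agent.S1350.result hG H hH).1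
  set R : Subgroup G := A ⊓ Subgroup.centralizer (P : Set G) with hRdef
  have hPH : P ≤ H := Subgroup.le_normalizer.trans hNP
  have hRC : R ≤ Subgroup.centralizer (P : Set G) := inf_le_right
  have hRH : R ≤ H := (hRC.trans (Subgroup.centralizer_le_normalizer _)).trans hNP
  -- `P` normalizes `R` (it centralizes it)
  have hPR : P ≤ Subgroup.normalizer (R : Set G) := by
    refine le_trans ?_ (Subgroup.centralizer_le_normalizer _)
    intro x hx
    rw [Subgroup.mem_centralizer_iff]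
    intro y hy
    have := (Subgroup.mem_centralizer_iff.mp (hRC hy)) x hx
    exact this.symm
  have hcard : Nat.card (P ⊔ R : Subgroup G) ∣ q * p := by
    have := Cfsg.Agent.Lib.Helper40.BG36C1.card_sup_dvd P R hPR
    rwa [hR, c.hP] at this
  have hK : ∀ u : ℕ, u.Prime → u ∣ Nat.card (P ⊔ R : Subgroup G) → u ∉ sigma H := by
    intro u hu hud
    have h1 := hud.trans hcard
    rcases (Nat.Prime.dvd_mul hu).mp h1 with h | h
    · rw [(Nat.prime_dvd_prime_iff_eq hu hqp).mp h]; exact hqH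
    · rw [(Nat.prime_dvd_prime_iff_eq hu hpp).mp h]; exact hpH
  obtain ⟨EH, hEH, hKE⟩ := Cfsg.Agent.Lib.Helper13.BG12.exists_complIn_ge hG hH hHall
    (sup_le hPH hRH) hK
  have hPEH : P ≤ EH := le_sup_left.trans hKE
  have hREH : R ≤ EH := le_sup_right.trans hKE
  obtain ⟨AH, hAHE, hAHe, hAHc⟩ :=
    Cfsg.Agent.Lib.Helper13.BG12.exists_elemAb_sq_le_compl hG hH hHall hp2 hEH
  obtain ⟨⟨hEN, hXA⟩, -, -⟩ :=
    Cfsg.Agent.S1418.result hG H hH EH hEH p hp2 AH ⟨hAHE, hAHe, hAHc⟩
  have hPAH : P ≤ AH := hXA P hPEH c.hP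
  have hRN : R ≤ Subgroup.normalizer (AH : Set G) := hREH.trans hEN
  -- `R` is a `q`-group
  have hRq : IsPGroup q R := IsPGroup.of_card (n := 1) (by rw [hR, pow_one])
  have hmod := Cfsg.Agent.Lib.Helper66.card_modEq_card_inf_centralizer R AH hRq hRN
  -- the fixed points contain `P`, and are not all of `AH`
  set F : Subgroup G := AH ⊓ Subgroup.centralizer (R : Set G) with hFdef
  have hPF : P ≤ F := by
    refine le_inf hPAH ?_
    intro x hx
    rw [Subgroup.mem_centralizer_iff]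
    intro y hy
    exact ((Subgroup.mem_centralizer_iff.mp (hRC hy)) x hx).symm
  have hFne : F ≠ AH := by
    intro hF
    have hAHR : AH ≤ Subgroup.centralizer (R : Set G) := by
      rw [← hF]; exact inf_le_right
    have hAHM : AH ≤ M := hAHR.trans hRM
    -- `M` has `p`-rank 1
    have hr1M : PRankLE p 1 M := c.hp.2.2.2.2
    have hle := hr1M (AH.subgroupOf M)
      ⟨⟨fun a b => Subtype.ext (Subtype.ext (by
        have := hAHe.1.is_comm.comm ⟨a.1.1, a.2⟩ ⟨b.1.1, b.2⟩
        show (a.1.1 * b.1.1 : G) = b.1.1 * a.1.1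
        exact congrArg Subtype.val this))⟩⟩
      (fun a ha => Subtype.ext (by
        have := hAHe.2 a.1 ha
        simpa using this))
    rw [Nat.card_congr (Subgroup.subgroupOfEquivOfLe hAHM).toEquiv, hAHc, pow_one] at hle
    have : p < p ^ 2 := by
      have := hpp.two_le
      nlinarith
    omega
  have hFcard : Nat.card F = p := by
    have hdvd : Nat.card F ∣ p ^ 2 := by
      rw [← hAHc]; exact Subgroup.card_dvd_of_le inf_le_left
    obtain ⟨m, hm, hFm⟩ := (Nat.dvd_prime_pow hpp).mp hdvd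
    have hPd : p ∣ Nat.card F := by
      rw [← c.hP]; exact Subgroup.card_dvd_of_le hPF
    interval_cases m
    · rw [hFm, pow_zero] at hPd
      exact absurd (Nat.le_of_dvd one_pos hPd) (by have := hpp.two_le; omega)
    · rw [hFm, pow_one]
    · exfalso
      apply hFne
      apply Subgroup.eq_of_le_of_card_ge inf_le_left
      rw [hFm, hAHc]
  rw [hAHc, hFcard] at hmod
  -- `q ∣ p ^ 2 - p = p (p - 1)`
  have hdvd : q ∣ p ^ 2 - p := (Nat.modEq_iff_dvd' (by nlinarith [hpp.two_le])).mp hmod.symm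
  have hfac : p ^ 2 - p = p * (p - 1) := by
    have := hpp.two_le
    zify [show p ≤ p ^ 2 by nlinarith, show 1 ≤ p by omega]
    ring
  rw [hfac] at hdvd
  rcases (Nat.Prime.dvd_mul hqp).mp hdvd with h | h
  · exact hne ((Nat.prime_dvd_prime_iff_eq hqp hpp).mp h).symm
  · have hp1 : 0 < p - 1 := by have := hpp.two_le; omega
    have := Nat.le_of_dvd hp1 h
    omega

end Cfsg.Agent.Lib.Helper01.BG137
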