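import Mathlib
import Cfsg.Agent.S1350
import Cfsg.Agent.S1355
import Cfsg.Agent.S1414
import Cfsg.Agent.S1423
import Cfsg.Agent.Lib.Helper31.FittingHall

/-!
# S1376 (BG 14.4(g) / 15.8), clause (B) of notes/S1376_regular_cyclic_helper1.md

`M` maximal, `E` a complement of `M_σ` (nilpotent), `x ∈ M_σ` of prime order `p` with `C_G(x) ⊄ M`
and no non-identity element of `E` centralizing `x`.  Then `E` is abelian:
`p ∉ β(M)` (S1423), so `M'` has a normal `p`-complement `T` (S1414); `E' ≤ T` centralizes the normal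
Sylow `p`-subgroup of `M_σ ≤ M'` (S1355), hence `x`.
-/

set_option autoImplicit false

namespace Cfsg.Agent.Lib.Helper01.BG1376B

open Cfsg Subgroup

variable {G : Type*} [Group G] [Finite G]

/-- In a finite nilpotent group the product of two `p`-elements is a `p`-element. -/
theorem isPGroup_zpowers_mul_of_nilpotent {H : Type*} [Group H] [Finite H]
    (hnil : Group.IsNilpotent H) {p : ℕ} [Fact p.Prime] {a b : H}
    (ha : IsPGroup p (zpowers a)) (hb : IsPGroup p (zpowers b)) : IsPGroup p (zpowers (a * b)) := by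
  let P : Sylow p H := default
  have hPn : (P : Subgroup H).Normal :=
    Sylow.normal_of_normalizerCondition (Group.normalizerCondition_of_isNilpotent) P
  have : Unique (Sylow p H) := Sylow.unique_of_normal P hPn
  have hmem : ∀ c : H, IsPGroup p (zpowers c) → c ∈ (P : Subgroup H) := by
    intro c hc
    obtain ⟨Q, hQ⟩ := hc.exists_le_sylow
    have : Q = P := Subsingleton.elim _ _
    rw [← this]
    exact hQ (mem_zpowers c)
  have hab : a * b ∈ (P : Subgroup H) := (P : Subgroup H).mul_mem (hmem a ha) (hmem b hb)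
  exact P.2.to_le (zpowers_le.mpr hab)

theorem compl_comm (hG : IsMinSimpleOddOrder G) {M E : Subgroup G} (hM : IsCoatom M)
    (hE : IsComplIn E (sigmaCore M) M) (hnil : Group.IsNilpotent (sigmaCore M))
    {x : G} (hx : x ∈ sigmaCore M) (hxp : (orderOf x).Prime)
    (hxM : ¬ centralizer ({x} : Set G) ≤ M)
    (hEx : ∀ e ∈ E, e * x = x * e → e = 1) :
    ∀ a ∈ E, ∀ b ∈ E, a * b = b * a := by
  classical
  set p := orderOf x with hp
  have : Fact p.Prime := ⟨hxp⟩
  obtain ⟨⟨hσM, hσpi, hσidx⟩, -, -⟩ := Cfsg.Agent.S1350.result hG M hM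
  obtain ⟨-, -, hσM', -, -⟩ := Cfsg.Agent.S1355.result hG M hM
  have hEM : E ≤ M := hE.1
  have hpdvd : p ∣ Nat.card (sigmaCore M) := Subgroup.orderOf_dvd_natCard _ hx
  have hpσ : p ∈ sigma M := hσpi p hxp hpdvd
  have hpM : p ∣ Nat.card M := dvd_trans hpdvd (card_dvd_of_le hσM)
  -- `p ∤ |E|`
  have hpE : ¬ p ∣ Nat.card E := by
    have h1 := Cfsg.Agent.Lib.Helper31.IsComplIn.card_mul hE
    have h2 : Nat.card (sigmaCore M) * (sigmaCore M).relIndex M = Nat.card M := by
      have := card_mul_index ((sigmaCore M).subgroupOf M)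
      rwa [Nat.card_congr (subgroupOfEquivOfLe hσM).toEquiv] at this
    have hpos : 0 < Nat.card (sigmaCore M) := Nat.card_pos
    have h3 : Nat.card E = (sigmaCore M).relIndex M := by
      have : Nat.card (sigmaCore M) * Nat.card E = Nat.card (sigmaCore M) * (sigmaCore M).relIndex M := by
        rw [h2, ← h1, mul_comm]
      exact Nat.eq_of_mul_eq_mul_left hpos this
    rw [h3]
    exact hσidx p hxp hpσ
  -- `p ∉ β(M)`
  have hpβ : p ∉ beta M := by
    intro hβ
    have hX : Nat.card (zpowers x) = p := Nat.card_zpowers x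
    have h := (Cfsg.Agent.S1423.result hG M hM p hpσ (zpowers x) (zpowers_le.mpr (hσM hx)) hX
      (default : Sylow p ↥(sigmaCore M)) (Or.inl hβ)).1.1
    apply hxM
    have hc : centralizer ((zpowers x : Subgroup G) : Set G) = centralizer {x} := by
      rw [zpowers_eq_closure, centralizer_closure]
    rwa [hc] at h
  obtain ⟨-, -, -, -, h5⟩ := Cfsg.Agent.S1414.result hG M hM
  obtain ⟨⟨P, T, hTn, hTP⟩, -, -⟩ := h5 p hxp hpM hpβ
  -- the key claim
  have key : ∀ c ∈ E, c ∈ ⁅M, M⁆ → c * x = x * c := by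
    intro c hcE hcM'
    have hcM : c ∈ M := hEM hcE
    -- (i) the order of `c` is prime to `p`
    have hcop : (orderOf c).Coprime p := by
      have h1 : orderOf c ∣ Nat.card E := Subgroup.orderOf_dvd_natCard _ hcE
      have h2 : (Nat.card E).Coprime p :=
        ((Nat.Prime.coprime_iff_not_dvd hxp).mpr hpE).symm
      exact Nat.Coprime.coprime_dvd_left h1 h2
    -- (ii) `c ∈ T`
    set c' : ↥⁅M, M⁆ := ⟨c, hcM'⟩ with hc'
    obtain ⟨k, hk⟩ := (P.2 : IsPGroup p (P : Subgroup ↥⁅M, M⁆)).exists_card_eq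
    have hTidx : T.index = p ^ k := by
      rw [← hk]; exact hTP.symm.index_eq_card
    have hc'T : c' ∈ T := by
      have := hTn
      have h1 : c' ^ (p ^ k) ∈ T := hTidx ▸ pow_index_mem T c'
      have h2 : (p ^ k).Coprime (orderOf c') := by
        have : orderOf c' = orderOf c := by
          rw [← Subgroup.orderOf_coe]
        rw [this]
        exact (Nat.Coprime.pow_right k hcop).symm
      obtain ⟨m, hm⟩ := exists_pow_eq_self_of_coprime h2
      rw [← hm]
      exact T.pow_mem h1 m
    -- (iii) the commutator `[x, c]`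
    set x' : ↥⁅M, M⁆ := ⟨x, hσM' hx⟩ with hx'
    set y : ↥⁅M, M⁆ := x' * c' * x'⁻¹ * c'⁻¹ with hy
    have hyT : y ∈ T := by
      have := hTn
      exact T.mul_mem (hTn.conj_mem c' hc'T x') (T.inv_mem hc'T)
    have hyval : (y : G) = x * (c * x⁻¹ * c⁻¹) := by
      rw [hy, hx', hc']
      simp only [Subgroup.coe_mul, Subgroup.coe_inv]
      group
    -- `y` has order prime to `p`
    have hy1 : (orderOf y).Coprime p := by
      have h1 : orderOf y ∣ Nat.card T := Subgroup.orderOf_dvd_natCard _ hyT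
      have h2 : (Nat.card T).Coprime p := by
        have h3 := hTP.card_mul_card
        have h4 := card_mul_index (P : Subgroup ↥⁅M, M⁆)
        have h5 : Nat.card T = (P : Subgroup ↥⁅M, M⁆).index := by
          have hpos : 0 < Nat.card (P : Subgroup ↥⁅M, M⁆) := Nat.card_pos
          have : Nat.card (P : Subgroup ↥⁅M, M⁆) * Nat.card T =
              Nat.card (P : Subgroup ↥⁅M, M⁆) * (P : Subgroup ↥⁅M, M⁆).index := by
            rw [h4, ← h3, mul_comm]
          exact Nat.eq_of_mul_eq_mul_left hpos this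
        rw [h5]
        have h6 := P.card_coprime_index
        rw [hk] at h6
        by_cases hk0 : k = 0
        · -- `P` trivial: impossible since `p ∣ |M'|`, but harmless: use coprimality to `p` directly
          have : ¬ p ∣ (P : Subgroup ↥⁅M, M⁆).index := P.not_dvd_index
          exact ((Nat.Prime.coprime_iff_not_dvd hxp).mpr this).symm
        · have : ¬ p ∣ (P : Subgroup ↥⁅M, M⁆).index := P.not_dvd_index
          exact ((Nat.Prime.coprime_iff_not_dvd hxp).mpr this).symm
      exact Nat.Coprime.coprime_dvd_left h1 h2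
    -- `y` is a `p`-element: product of two `p`-elements of the nilpotent `M_σ`
    have hxpow : x ^ p = 1 := by rw [hp]; exact pow_orderOf_eq_one x
    have hconj : c * x⁻¹ * c⁻¹ ∈ sigmaCore M := by
      have hn : M ≤ normalizer (sigmaCore M : Set G) := by
        have := Cfsg.piCore_normal (sigma M) M
        intro m hm
        rw [mem_normalizer_iff]
        intro h
        constructor
        · intro hh
          obtain ⟨h', hh', rfl⟩ := hh
          refine ⟨(⟨m, hm⟩ : M) * h' * (⟨m, hm⟩ : M)⁻¹, this.conj_mem h' hh' _, rfl⟩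
        · intro hh
          obtain ⟨h', hh', hEq⟩ := hh
          have h2 := this.conj_mem h' hh' (⟨m, hm⟩ : M)⁻¹
          refine ⟨(⟨m, hm⟩ : M)⁻¹ * h' * ((⟨m, hm⟩ : M)⁻¹)⁻¹, h2, ?_⟩
          show M.subtype ((⟨m, hm⟩ : M)⁻¹ * h' * ((⟨m, hm⟩ : M)⁻¹)⁻¹) = h
          have : M.subtype h' = m * h * m⁻¹ := hEq
          simp only [map_mul, map_inv, inv_inv, Subgroup.coe_subtype] at this ⊢
          rw [this]; group
      exact (mem_normalizer_iff.mp (hn hcM) x⁻¹).mp ((sigmaCore M).inv_mem hx)
    set xs : ↥(sigmaCore M) := ⟨x, hx⟩ with hxs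
    set zs : ↥(sigmaCore M) := ⟨c * x⁻¹ * c⁻¹, hconj⟩ with hzs
    have hxsP : IsPGroup p (zpowers xs) := by
      apply IsPGroup.of_card (n := 1)
      rw [Nat.card_zpowers, pow_one, ← Subgroup.orderOf_coe]
    have hzsP : IsPGroup p (zpowers zs) := by
      have hz : zs ^ p = 1 := by
        apply Subtype.ext
        show (c * x⁻¹ * c⁻¹) ^ p = 1
        rw [conj_pow, inv_pow, hxpow]; group
      intro g
      obtain ⟨i, hi⟩ := mem_zpowers_iff.mp g.2
      refine ⟨1, ?_⟩
      apply Subtype.ext
      show (g : ↥(sigmaCore M)) ^ p ^ 1 = 1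
      rw [pow_one, ← hi, ← zpow_natCast, ← zpow_mul, mul_comm, zpow_mul, zpow_natCast, hz, one_zpow]
    have hprod := isPGroup_zpowers_mul_of_nilpotent hnil hxsP hzsP
    obtain ⟨j, hj⟩ := (IsPGroup.iff_orderOf.mp hprod) ⟨xs * zs, mem_zpowers _⟩
    have hord : orderOf (y : G) = p ^ j := by
      have h1 : orderOf (xs * zs) = p ^ j := by
        have : orderOf (⟨xs * zs, mem_zpowers _⟩ : zpowers (xs * zs)) = orderOf (xs * zs) := by
          rw [← Subgroup.orderOf_coe]
        rw [← this, hj]
      have h2 : ((xs * zs : ↥(sigmaCore M)) : G) = (y : G) := by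
        rw [hyval]; rfl
      rw [← h2, Subgroup.orderOf_coe, h1]
    have hy_one : (y : G) = 1 := by
      have h1 : orderOf (y : G) = orderOf y := Subgroup.orderOf_coe y
      have h2 : (p ^ j).Coprime p := by rw [← hord, h1]; exact hy1
      have hj0 : j = 0 := by
        by_contra hne
        have : p ∣ p ^ j := dvd_pow_self p hne
        have h3 : p ∣ Nat.gcd (p ^ j) p := Nat.dvd_gcd this dvd_rfl
        rw [h2] at h3
        exact hxp.one_lt.ne' (Nat.dvd_one.mp h3)
      rw [hj0, pow_zero] at hord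
      exact orderOf_eq_one_iff.mp hord
    -- conclude
    rw [hyval] at hy_one
    calc c * x = (x * (c * x⁻¹ * c⁻¹))⁻¹ * x * c := by group
      _ = x * c := by rw [hy_one]; group
  intro a ha b hb
  have hc : a * b * a⁻¹ * b⁻¹ ∈ E := E.mul_mem (E.mul_mem (E.mul_mem ha hb) (E.inv_mem ha)) (E.inv_mem hb)
  have hcM : a * b * a⁻¹ * b⁻¹ ∈ ⁅M, M⁆ := by
    have := commutator_mem_commutator (hEM ha) (hEM hb)
    rwa [commutatorElement_def] at this
  have h1 := hEx _ hc (key _ hc hcM)
  calc a * b = (a * b * a⁻¹ * b⁻¹) * b * a := by group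
    _ = b * a := by rw [h1, one_mul]

end Cfsg.Agent.Lib.Helper01.BG1376B
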