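import Mathlib
import Cfsg.Agent.S1353
import Cfsg.Agent.S1363
import Cfsg.Agent.Lib.Helper01.BG1376B
import Cfsg.Agent.Lib.Helper16.BG1376Defs
import Cfsg.Agent.Lib.Helper78.BG152A

/-!
# S1376 pack: clauses (A) and (B) on helper16's `Conf`

* `Conf.fix_free`   : no non-identity element of `M ⊓ Ns` centralizes `x`   (clause (A))
* `Conf.sigmaCore_nilpotent` : `M_σ` is nilpotent (`κ(M) = ∅`, `K ≠ 1`)
* `Conf.abelian`    : `M ⊓ Ns` is abelian                                    (clause (B))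
-/

set_option autoImplicit false

namespace Cfsg.Agent.Lib.Helper01.BG1376C

open Cfsg Subgroup Cfsg.Agent.Lib.Helper16.BG1376

variable {G : Type*} [Group G] [Finite G] {M N Ns K U : Subgroup G} {x : G}

/-- Clause (A): `C_{M ∩ N*}(x) = 1`. -/
theorem Conf.fix_free (hG : IsMinSimpleOddOrder G) (h : Conf M N Ns K U x) :
    ∀ e ∈ M ⊓ Ns, e * x = x * e → e = 1 := by
  intro e he hex
  have heM : e ∈ M := he.1
  have heN : e ∈ N := by
    apply h.hxN
    rw [mem_centralizer_iff]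
    intro g hg
    rw [Set.mem_singleton_iff] at hg
    rw [hg]; exact hex.symm
  have heUK : e ∈ U ⊔ K := by
    rw [← h.hMN]; exact ⟨heN, heM⟩
  -- `U ⊔ K = U K` since `K` normalizes `U`
  obtain ⟨u, hu, k, hk, rfl⟩ : ∃ u ∈ U, ∃ k ∈ K, e = u * k := by
    have hcoe := Subgroup.coe_mul_of_right_le_normalizer_left U K h.hKU.normal
    have hmem : e ∈ ((U ⊔ K : Subgroup G) : Set G) := heUK
    rw [hcoe] at hmem
    obtain ⟨u, hu, k, hk, hEq⟩ := Set.mem_mul.mp hmem
    exact ⟨u, hu, k, hk, hEq.symm⟩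
  have hUab : IsMulCommutative U := (Cfsg.Agent.S1363.result hG N h.hN K U h.hKU h.hK1).1
  have hux : u * x = x * u := by
    have := hUab.is_comm.comm (⟨u, hu⟩ : U) ⟨x, h.hxU⟩
    exact congrArg Subtype.val this
  -- `k` centralizes `x`
  have hkx : k * x = x * k := by
    calc k * x = u⁻¹ * (u * k * x) := by group
      _ = u⁻¹ * (x * (u * k)) := by rw [hex]
      _ = u⁻¹ * (x * u) * k := by group
      _ = u⁻¹ * (u * x) * k := by rw [hux]
      _ = x * k := by group
  have hk1 : k = 1 := by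
    by_contra hk1
    have h53 := Cfsg.Agent.S1353.result hG N h.hN K U h.hKU k hk hk1
    have hxmem : x ∈ U ⊓ centralizer ({k} : Set G) := by
      refine Subgroup.mem_inf.mpr ⟨h.hxU, ?_⟩
      rw [mem_centralizer_iff]
      intro g hg
      rw [Set.mem_singleton_iff] at hg
      rw [hg]; exact hkx
    rw [h53, mem_bot] at hxmem
    exact h.hx1 hxmem
  rw [hk1, mul_one] at he ⊢
  -- `u ∈ (M ⊓ Ns) ⊓ M_σ = ⊥`
  have : u ∈ (M ⊓ Ns) ⊓ sigmaCore M := ⟨he, h.hUM hu⟩
  rw [h.hE.2.2.1, mem_bot] at this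
  exact this

/-- `M_σ` is nilpotent. -/
theorem Conf.sigmaCore_nilpotent (hG : IsMinSimpleOddOrder G) (h : Conf M N Ns K U x) :
    Group.IsNilpotent (sigmaCore M) := by
  by_contra hnn
  have hall := Cfsg.Agent.Lib.Helper78.BG152.all_kappa_of_not_nilpotent hG h.hM hnn
  obtain ⟨⟨hσM, hσpi, hσidx⟩, -, -⟩ := Cfsg.Agent.S1350.result hG M h.hM
  have hKE : K ≤ M ⊓ Ns := by
    have h1 : fittingOf (M ⊓ Ns) ≤ M ⊓ Ns := by
      unfold fittingOf
      exact map_subtype_le _
    exact h.hKF.trans h1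
  have hKcard : Nat.card K ≠ 1 := by
    intro hc
    exact h.hK1 (Subgroup.card_eq_one.mp hc)
  obtain ⟨q, hq, hqK⟩ := Nat.exists_prime_and_dvd hKcard
  have hqE : q ∣ Nat.card (M ⊓ Ns : Subgroup G) := dvd_trans hqK (card_dvd_of_le hKE)
  have hqM : q ∣ Nat.card M := dvd_trans hqE (card_dvd_of_le inf_le_left)
  have hqσ : q ∉ sigma M := by
    intro hqσ
    have h1 := Cfsg.Agent.Lib.Helper31.IsComplIn.card_mul h.hE
    have h2 : Nat.card (sigmaCore M) * (sigmaCore M).relIndex M = Nat.card M := by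
      have := card_mul_index ((sigmaCore M).subgroupOf M)
      rwa [Nat.card_congr (subgroupOfEquivOfLe hσM).toEquiv] at this
    have hpos : 0 < Nat.card (sigmaCore M) := Nat.card_pos
    have h3 : Nat.card (M ⊓ Ns : Subgroup G) = (sigmaCore M).relIndex M := by
      have : Nat.card (sigmaCore M) * Nat.card (M ⊓ Ns : Subgroup G) =
          Nat.card (sigmaCore M) * (sigmaCore M).relIndex M := by
        rw [h2, ← h1, mul_comm]
      exact Nat.eq_of_mul_eq_mul_left hpos this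
    rw [h3] at hqE
    exact hσidx q hq hqσ hqE
  have := hall q hq hqM hqσ
  rw [h.hk] at this
  exact this

/-- Clause (B): `M ∩ N*` is abelian. -/
theorem Conf.abelian (hG : IsMinSimpleOddOrder G) (h : Conf M N Ns K U x) :
    ∀ a ∈ M ⊓ Ns, ∀ b ∈ M ⊓ Ns, a * b = b * a :=
  Cfsg.Agent.Lib.Helper01.BG1376B.compl_comm hG h.hM h.hE (Conf.sigmaCore_nilpotent hG h)
    (h.hUM h.hxU) h.hxp h.hxM (Conf.fix_free hG h)

end Cfsg.Agent.Lib.Helper01.BG1376C
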