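import Mathlib
import Cfsg.Agent.Lib.Helper15.BG147Defs
import Cfsg.Agent.Lib.Helper28.BG147H
import Cfsg.Agent.Lib.Helper71.BG11a
import Cfsg.Agent.S1350

/-!
# K-147C-C8 (keystone 147108, pack of helper15 for BG 14.7): a complement `R0` of `K ⊓ Hσ` in `Z = K K*`
containing `K*`, all of whose prime divisors are in `κ(H)`.  Also a version of leaf C7 (Schur-Zassenhaus
complement containing a given normal subgroup of coprime order).
-/

set_option autoImplicit false
set_option linter.unusedVariables false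
set_option linter.unusedSectionVars false

namespace Cfsg.Agent.Lib.Helper01.BG147

open Cfsg Cfsg.Agent.Lib.Helper55 Cfsg.Agent.Lib.Helper31.BG134 Cfsg.Agent.Lib.Helper15.BG139
  Cfsg.Agent.Lib.Helper15.BG142 Cfsg.Agent.Lib.Helper15.BG147

variable {G : Type*} [Group G] [Finite G]

/-- a normal subgroup of order coprime to the index of `R` lies in `R` -/
theorem le_of_normal_of_coprime_index_c8 {Z : Type*} [Group Z] [Finite Z] {S R : Subgroup Z}
    [S.Normal] (h : (Nat.card S).Coprime R.index) : S ≤ R := by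
  have hT1 : Nat.card S * S.relIndex (R ⊔ S) = Nat.card ↥(R ⊔ S) := by
    have := Subgroup.relIndex_mul_relIndex ⊥ S (R ⊔ S) bot_le le_sup_right
    rwa [Subgroup.relIndex_bot_left, Subgroup.relIndex_bot_left] at this
  have hT2 : Nat.card R * R.relIndex (R ⊔ S) = Nat.card ↥(R ⊔ S) := by
    have := Subgroup.relIndex_mul_relIndex ⊥ R (R ⊔ S) bot_le le_sup_left
    rwa [Subgroup.relIndex_bot_left, Subgroup.relIndex_bot_left] at this
  have h1 : S.relIndex (R ⊔ S) = S.relIndex R := Subgroup.relIndex_sup_right R S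
  have h2 : S.relIndex R ∣ Nat.card R := Subgroup.relIndex_dvd_card S R
  have h3 : R.relIndex (R ⊔ S) ∣ Nat.card S := by
    have h4 : R.relIndex (R ⊔ S) * Nat.card R ∣ Nat.card S * Nat.card R := by
      rw [mul_comm, hT2, ← hT1, h1]
      exact Nat.mul_dvd_mul_left _ h2
    exact Nat.dvd_of_mul_dvd_mul_right Nat.card_pos h4
  have h5 : R.relIndex (R ⊔ S) ∣ R.index := Subgroup.relIndex_dvd_index_of_le le_sup_left
  have h6 : R.relIndex (R ⊔ S) = 1 := Nat.eq_one_of_dvd_coprimes h h3 h5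
  rw [Subgroup.relIndex_eq_one] at h6
  exact le_sup_right.trans h6

/-- version of leaf C7: a Schur-Zassenhaus complement contains every normal subgroup of coprime order -/
theorem exists_compl_ge_c8 {Z D S : Subgroup G} (hDZ : D ≤ Z)
    (hDn : Z ≤ Subgroup.normalizer (D : Set G)) (hSZ : S ≤ Z)
    (hSn : Z ≤ Subgroup.normalizer (S : Set G))
    (hcop : (Nat.card D).Coprime (D.relIndex Z)) (hcop2 : (Nat.card S).Coprime (Nat.card D)) :
    ∃ R0 : Subgroup G, R0 ≤ Z ∧ D ⊓ R0 = ⊥ ∧ D ⊔ R0 = Z ∧ S ≤ R0 ∧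
      Nat.card R0 = D.relIndex Z := by
  have hDnorm : (D.subgroupOf Z).Normal := (Subgroup.normal_subgroupOf_iff_le_normalizer hDZ).mpr hDn
  have hSnorm : (S.subgroupOf Z).Normal := (Subgroup.normal_subgroupOf_iff_le_normalizer hSZ).mpr hSn
  have hcD : Nat.card (D.subgroupOf Z) = Nat.card D :=
    Nat.card_congr (Subgroup.subgroupOfEquivOfLe hDZ).toEquiv
  have hcS : Nat.card (S.subgroupOf Z) = Nat.card S :=
    Nat.card_congr (Subgroup.subgroupOfEquivOfLe hSZ).toEquiv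
  have hcop' : (Nat.card (D.subgroupOf Z)).Coprime (D.subgroupOf Z).index := by
    rw [hcD]
    exact hcop
  obtain ⟨R', hR'⟩ := Subgroup.exists_right_complement'_of_coprime hcop'
  have hidx : R'.index = Nat.card D := by rw [hR'.index_eq_card, hcD]
  have hSR' : S.subgroupOf Z ≤ R' := by
    apply le_of_normal_of_coprime_index_c8
    rw [hcS, hidx]
    exact hcop2
  refine ⟨R'.map Z.subtype, Subgroup.map_subtype_le R', ?_, ?_, ?_, ?_⟩
  · rw [eq_bot_iff]
    rintro x ⟨hxD, hxR⟩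
    obtain ⟨r, hr, rfl⟩ := Subgroup.mem_map.mp hxR
    have hrD : r ∈ D.subgroupOf Z := Subgroup.mem_subgroupOf.mpr hxD
    have : r ∈ D.subgroupOf Z ⊓ R' := ⟨hrD, hr⟩
    rw [hR'.disjoint.eq_bot, Subgroup.mem_bot] at this
    rw [Subgroup.mem_bot, this]
    rfl
  · have h := hR'.sup_eq_top
    have h2 := congrArg (Subgroup.map Z.subtype) h
    rw [Subgroup.map_sup, Subgroup.subgroupOf_map_subtype, inf_eq_left.mpr hDZ] at h2
    rw [h2, ← MonoidHom.range_eq_map, Subgroup.range_subtype]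
  · intro s hs
    exact Subgroup.mem_map.mpr ⟨⟨s, hSZ hs⟩, hSR' (Subgroup.mem_subgroupOf.mpr hs), rfl⟩
  · have h1 : Nat.card (R'.map Z.subtype) = Nat.card R' :=
      Subgroup.card_map_of_injective Z.subtype_injective
    rw [h1, ← hR'.symm.index_eq_card]
    rfl

/-- the orders of `K` and of `Mσ` are coprime -/
theorem coprime_card_sigmaCore_c8 (hG : IsMinSimpleOddOrder G) {M K : Subgroup G} (hM : IsCoatom M)
    (hK : IsPiHallOf (kappa M) K M) : (Nat.card K).Coprime (Nat.card (sigmaCore M)) := by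
  apply Nat.coprime_of_dvd
  intro p hp hpK hpY
  have h1 : p ∈ kappa M := hK.2.1 p hp hpK
  exact h1.2.2.1 (Cfsg.Agent.Lib.Helper71.BG11.sigmaCore_pi hG hM hp hpY)

/-- `K` normalizes `C_G(K)` -/
theorem conj_mem_centralizer_c8 {K : Subgroup G} {g : G} (hg : g ∈ K) {n : G}
    (hn : n ∈ Subgroup.centralizer (K : Set G)) : g * n * g⁻¹ ∈ Subgroup.centralizer (K : Set G) := by
  rw [Subgroup.mem_centralizer_iff] at hn ⊢
  intro k hk
  have h1 := hn (g⁻¹ * k * g) (K.mul_mem (K.mul_mem (K.inv_mem hg) hk) hg)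
  calc k * (g * n * g⁻¹) = g * ((g⁻¹ * k * g) * n) * g⁻¹ := by group
    _ = g * (n * (g⁻¹ * k * g)) * g⁻¹ := by rw [h1]
    _ = g * n * g⁻¹ * k := by group

/-- **K-147C-C8** (147108). -/
theorem exists_R0 {M K X H : Subgroup G} (c : CL M K X H) (c1 : CL1 M K X H)
    (hD : sigmaCore H ⊓ M ≤ K) (hZ : M ⊓ H = K ⊔ KStar M K)
    (h5 : ∀ Y : Subgroup G, Y ≤ KStar M K → (Nat.card Y).Prime → Nat.card Y ∈ kappa H)
    (h6 : ∀ X2 : Subgroup G, X2 ≤ K → (Nat.card X2).Prime → Nat.card X2 ∉ sigma H →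
      Nat.card X2 ∈ kappa H) :
    ∃ R0 : Subgroup G, R0 ≤ K ⊔ KStar M K ∧ (K ⊓ sigmaCore H) ⊔ R0 = K ⊔ KStar M K ∧
      KStar M K ≤ R0 ∧ ∀ r : ℕ, r.Prime → r ∣ Nat.card R0 → r ∈ kappa H := by
  have hG := c.hG
  have hM := c.hM
  have hK := c.hK
  have hH := c.hH
  have hKM : K ≤ M := hK.1
  have hσM : sigmaCore M ≤ M := Cfsg.Agent.Lib.Helper71.BG11.sigmaCore_le M
  have hKsM : KStar M K ≤ M := inf_le_left.trans hσM
  have hZM : K ⊔ KStar M K ≤ M := sup_le hKM hKsM
  have hZH : K ⊔ KStar M K ≤ H := c1.hZH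
  -- `D' = Hσ ⊓ Z`
  have hD' : K ⊓ sigmaCore H = sigmaCore H ⊓ (K ⊔ KStar M K) := by
    apply le_antisymm
    · exact le_inf inf_le_right (inf_le_left.trans le_sup_left)
    · intro x hx
      have hx1 : x ∈ sigmaCore H := hx.1
      have hx2 : x ∈ K ⊔ KStar M K := hx.2
      exact ⟨hD ⟨hx1, hZM hx2⟩, hx1⟩
  have hDn : K ⊔ KStar M K ≤ Subgroup.normalizer ((K ⊓ sigmaCore H : Subgroup G) : Set G) := by
    intro g hg
    rw [hD', Subgroup.mem_normalizer_iff]
    intro n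
    have hgN := Subgroup.mem_normalizer_iff.mp
      (Cfsg.Agent.Lib.Helper71.BG11.le_normalizer_sigmaCore H (hZH hg)) n
    rw [Subgroup.mem_inf, Subgroup.mem_inf]
    constructor
    · rintro ⟨h1, h2⟩
      exact ⟨hgN.mp h1, Subgroup.mul_mem _ (Subgroup.mul_mem _ hg h2) (Subgroup.inv_mem _ hg)⟩
    · rintro ⟨h1, h2⟩
      refine ⟨hgN.mpr h1, ?_⟩
      have e : n = g⁻¹ * (g * n * g⁻¹) * g := by group
      rw [e]
      exact Subgroup.mul_mem _ (Subgroup.mul_mem _ (Subgroup.inv_mem _ hg) h2) hg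
  have hSn : K ⊔ KStar M K ≤ Subgroup.normalizer ((KStar M K : Subgroup G) : Set G) := by
    apply sup_le
    · intro g hg
      rw [Subgroup.mem_normalizer_iff]
      intro n
      have hgN := Subgroup.mem_normalizer_iff.mp
        (Cfsg.Agent.Lib.Helper71.BG11.le_normalizer_sigmaCore M (hKM hg)) n
      rw [Subgroup.mem_inf, Subgroup.mem_inf]
      constructor
      · rintro ⟨h1, h2⟩
        exact ⟨hgN.mp h1, conj_mem_centralizer_c8 hg h2⟩
      · rintro ⟨h1, h2⟩
        refine ⟨hgN.mpr h1, ?_⟩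
        have h3 := conj_mem_centralizer_c8 (K.inv_mem hg) h2
        have e : n = g⁻¹ * (g * n * g⁻¹) * g⁻¹⁻¹ := by group
        rw [e]
        exact h3
    · exact Subgroup.le_normalizer
  -- coprimality
  have hcopKσ : (Nat.card K).Coprime (Nat.card (sigmaCore M)) := coprime_card_sigmaCore_c8 hG hM hK
  have hcopKKs : (Nat.card K).Coprime (Nat.card (KStar M K)) :=
    hcopKσ.coprime_dvd_right (Subgroup.card_dvd_of_le inf_le_left)
  have hcop2 : (Nat.card (KStar M K)).Coprime (Nat.card (K ⊓ sigmaCore H : Subgroup G)) :=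
    (hcopKKs.coprime_dvd_left (Subgroup.card_dvd_of_le inf_le_left)).symm
  have hrel : (K ⊓ sigmaCore H).relIndex (K ⊔ KStar M K) ∣ (sigmaCore H).relIndex H := by
    rw [hD', Subgroup.inf_relIndex_right]
    have hnorm : ((sigmaCore H).subgroupOf H).Normal :=
      (Subgroup.normal_subgroupOf_iff_le_normalizer (Cfsg.Agent.Lib.Helper71.BG11.sigmaCore_le H)).mpr
        (Cfsg.Agent.Lib.Helper71.BG11.le_normalizer_sigmaCore H)
    have h1 := Subgroup.relIndex_dvd_index_of_normal ((sigmaCore H).subgroupOf H)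
      ((K ⊔ KStar M K).subgroupOf H)
    rwa [Subgroup.relIndex_subgroupOf hZH] at h1
  have hσ' : ∀ r : ℕ, r.Prime → r ∣ (K ⊓ sigmaCore H).relIndex (K ⊔ KStar M K) → r ∉ sigma H := by
    intro r hr hrd hrσ
    exact (Cfsg.Agent.S1350.result hG H hH).1.2.2 r hr hrσ (hrd.trans hrel)
  have hcop : (Nat.card (K ⊓ sigmaCore H : Subgroup G)).Coprime
      ((K ⊓ sigmaCore H).relIndex (K ⊔ KStar M K)) := by
    apply Nat.coprime_of_dvd
    intro p hp hp1 hp2
    exact hσ' p hp hp2 (Cfsg.Agent.Lib.Helper71.BG11.sigmaCore_pi hG hH hp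
      (hp1.trans (Subgroup.card_dvd_of_le inf_le_right)))
  obtain ⟨R0, hR0Z, hinf, hsup, hSR0, hcard⟩ :=
    exists_compl_ge_c8 (inf_le_left.trans le_sup_left) hDn le_sup_right hSn hcop hcop2
  refine ⟨R0, hR0Z, hsup, hSR0, ?_⟩
  intro r hr hrd
  rw [hcard] at hrd
  have hrσ := hσ' r hr hrd
  have hinfKKs : K ⊓ KStar M K = ⊥ := (Subgroup.disjoint_of_coprime_natCard hcopKKs).eq_bot
  have hcardZ : Nat.card ↥(K ⊔ KStar M K) = Nat.card K * Nat.card (KStar M K) :=
    Cfsg.Agent.Lib.Helper28.BG147.card_sup_of_commute inf_le_right hinfKKs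
  have hrZ : r ∣ Nat.card K * Nat.card (KStar M K) := by
    rw [← hcardZ]
    exact hrd.trans (Subgroup.relIndex_dvd_card _ _)
  have hfact : Fact r.Prime := ⟨hr⟩
  rcases (Nat.Prime.dvd_mul hr).mp hrZ with h | h
  · obtain ⟨x, hx⟩ := exists_prime_orderOf_dvd_card' r h
    have hcz : Nat.card (Subgroup.zpowers (x : G)) = r := by
      rw [Nat.card_zpowers, Subgroup.orderOf_coe, hx]
    have h7 := h6 (Subgroup.zpowers (x : G)) (Subgroup.zpowers_le.mpr x.2) (hcz.symm ▸ hr)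
      (hcz.symm ▸ hrσ)
    rwa [hcz] at h7
  · obtain ⟨x, hx⟩ := exists_prime_orderOf_dvd_card' r h
    have hcz : Nat.card (Subgroup.zpowers (x : G)) = r := by
      rw [Nat.card_zpowers, Subgroup.orderOf_coe, hx]
    have h7 := h5 (Subgroup.zpowers (x : G)) (Subgroup.zpowers_le.mpr x.2) (hcz.symm ▸ hr)
    rwa [hcz] at h7

end Cfsg.Agent.Lib.Helper01.BG147
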