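import Mathlib
import Cfsg.Agent.Lib.Helper31.BG147Defs
import Cfsg.Agent.Lib.Helper31.BG147C
import Cfsg.Agent.Lib.Helper27.BG147P
import Cfsg.Agent.Lib.Helper55.Basic
import Cfsg.Agent.Lib.Helper68.BG144G2
import Cfsg.Agent.Lib.Helper75.BG14DP
import Cfsg.Agent.Lib.Helper71.BG11a

/-!
# K-1369-D2 (keystone 136908, pack of helper31 for S1369): the tilde set of `M` misses the class support
of `Ẑ = K K* - (K ∪ K*)`.
-/

set_option autoImplicit false
set_option linter.unusedVariables false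

namespace Cfsg.Agent.Lib.Helper01.BG147

open Cfsg Subgroup Cfsg.Agent.Lib.Helper55 Cfsg.Agent.Lib.Helper11.BG14D Cfsg.Agent.Lib.Helper11.BG144 Cfsg.Agent.Lib.Helper31.BG147

variable {G : Type*} [Group G] [Finite G]

/-- `R(x)` centralizes `x`. -/
theorem supportR_le_centralizer_d2 (M : Subgroup G) (x : G) :
    supportR M x ≤ centralizer ({x} : Set G) := by
  unfold supportR
  split_ifs with h
  · exact inf_le_right
  · exact bot_le

/-- the orders of `K` and of `Mσ` are coprime -/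
theorem coprime_card_sigmaCore_d2 (hG : IsMinSimpleOddOrder G) {M K : Subgroup G} (hM : IsCoatom M)
    (hK : IsPiHallOf (kappa M) K M) : (Nat.card K).Coprime (Nat.card (sigmaCore M)) := by
  apply Nat.coprime_of_dvd
  intro p hp hpK hpY
  have h1 : p ∈ kappa M := hK.2.1 p hp hpK
  exact h1.2.2.1 (Cfsg.Agent.Lib.Helper71.BG11.sigmaCore_pi hG hM hp hpY)

/-- an element commuting with `y` centralizes `zpowers y` -/
theorem mem_centralizer_zpowers_d2 {w y : G} (h : w * y = y * w) :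
    w ∈ centralizer ((zpowers y : Subgroup G) : Set G) := by
  rw [Subgroup.mem_centralizer_iff]
  intro t ht
  obtain ⟨n, rfl⟩ := Subgroup.mem_zpowers_iff.mp ht
  have hc : Commute y w := h.symm
  exact (hc.zpow_left n).eq

/-- **K-1369-D2** (136908). -/
theorem tilde_disjoint_csupp (hG : IsMinSimpleOddOrder G) (h31 : H1431 G) {M K : Subgroup G} (hM : IsCoatom M)
    (hKc : IsCyclic K) (hK : IsPiHallOf (kappa M) K M) (hK1 : K ≠ ⊥)
    (h54 : ∀ k ∈ K, k ≠ 1 → M ⊓ centralizer ({k} : Set G) = K ⊔ Ks M K) :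
    Disjoint (tildeOf M ((sigmaCore M : Set G) \ {1})) (csupp (Zhat M K)) := by
  rw [Set.disjoint_left]
  rintro v ⟨a, ⟨haσ, ha1⟩, r, hr, y, hv⟩ ⟨g, z, hz, hv'⟩
  have ha1' : a ≠ 1 := fun h => ha1 (by simp [h])
  have haσ' : a ∈ sigmaCore M := haσ
  have hσM : sigmaCore M ≤ M := Cfsg.Agent.Lib.Helper71.BG11.sigmaCore_le M
  have haM : a ∈ M := hσM haσ'
  -- `r` commutes with `a`
  have hra : a * r = r * a := by
    have h := supportR_le_centralizer_d2 M a hr
    rw [Subgroup.mem_centralizer_iff] at h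
    exact h a rfl
  -- conjugating
  obtain ⟨c, hc⟩ : ∃ c : G, c = g⁻¹ * y := ⟨_, rfl⟩
  have hzc : z = c * (a * r) * c⁻¹ := by
    have h1 : y * (a * r) * y⁻¹ = g * z * g⁻¹ := hv.symm.trans hv'
    have h2 : z = g⁻¹ * (g * z * g⁻¹) * g := by group
    rw [h2, ← h1, hc]
    group
  obtain ⟨a', ha'⟩ : ∃ a' : G, a' = c * a * c⁻¹ := ⟨_, rfl⟩
  have ha'z : a' * z = z * a' := by
    rw [hzc, ha']
    calc c * a * c⁻¹ * (c * (a * r) * c⁻¹) = c * (a * (a * r)) * c⁻¹ := by group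
      _ = c * ((a * r) * a) * c⁻¹ := by rw [mul_assoc a r a, ← hra]
      _ = c * (a * r) * c⁻¹ * (c * a * c⁻¹) := by group
  have ha'1 : a' ≠ 1 := by
    intro h
    apply ha1'
    rw [ha'] at h
    have : a = c⁻¹ * (c * a * c⁻¹) * c := by group
    rw [this, h]
    group
  -- the parts of `z`
  have hcK : Ks M K ≤ centralizer (K : Set G) := inf_le_right
  have hcop : (Nat.card K).Coprime (Nat.card (Ks M K)) :=
    (coprime_card_sigmaCore_d2 hG hM hK).coprime_dvd_right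
      (Subgroup.card_dvd_of_le (inf_le_left : Ks M K ≤ sigmaCore M))
  obtain ⟨x₀, hx₀, y₀, hy₀, hx₀1, hy₀1, hzxy, hxy, ⟨i, hi⟩, ⟨j, hj⟩⟩ :=
    Cfsg.Agent.Lib.Helper27.BG147.zhat_parts hcK hcop hz
  have hca' : Commute a' z := ha'z
  have ha'x : a' * x₀ = x₀ * a' := by
    rw [← hi]
    exact (hca'.pow_right i).eq
  have ha'y : a' * y₀ = y₀ * a' := by
    rw [← hj]
    exact (hca'.pow_right j).eq
  -- `a' ∈ M`
  have hY0 : (zpowers y₀ : Subgroup G) ≤ Ks M K := by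
    rw [Subgroup.zpowers_le]
    exact hy₀
  have hY01 : (zpowers y₀ : Subgroup G) ≠ ⊥ := by
    rw [Ne, Subgroup.zpowers_eq_bot]
    exact hy₀1
  have ha'M : a' ∈ M :=
    centralizer_le h31 hM hK hK1 hY0 hY01 (mem_centralizer_zpowers_d2 ha'y)
  have ha'KK : a' ∈ K ⊔ Ks M K := by
    rw [← h54 x₀ hx₀ hx₀1]
    refine Subgroup.mem_inf.mpr ⟨ha'M, ?_⟩
    rw [Subgroup.mem_centralizer_iff]
    intro t ht
    rw [Set.mem_singleton_iff] at ht
    subst ht
    exact ha'x.symm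
  -- `a' ∈ K*`
  obtain ⟨x₁, hx₁, y₁, hy₁, ha'xy⟩ :=
    Cfsg.Agent.Lib.Helper27.BG147.exists_mul_of_mem_sup_of_centralizer hcK ha'KK
  have hxy₁ : x₁ * y₁ = y₁ * x₁ := (Subgroup.mem_centralizer_iff.mp (hcK hy₁)) x₁ hx₁
  have hx₁K : x₁ ^ Nat.card K = 1 := by
    have h := pow_card_eq_one' (G := K) (x := ⟨x₁, hx₁⟩)
    exact congrArg Subtype.val h
  have hy₁Y : y₁ ^ Nat.card (Ks M K) = 1 := by
    have h := pow_card_eq_one' (G := (Ks M K : Subgroup G)) (x := ⟨y₁, hy₁⟩)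
    exact congrArg Subtype.val h
  have hpow := Cfsg.Agent.Lib.Helper75.BG14D.pow_crt_eq hcop hx₁K hy₁Y hxy₁
  have ha'σ : a' ^ Nat.card (sigmaCore M) = 1 := by
    have h := pow_card_eq_one' (G := (sigmaCore M : Subgroup G)) (x := ⟨a, haσ'⟩)
    have h2 : a ^ Nat.card (sigmaCore M) = 1 := congrArg Subtype.val h
    rw [ha', conj_pow, h2]
    group
  have hx₁1 : x₁ = 1 := by
    have h1 : x₁ ^ Nat.card (sigmaCore M) = 1 := by
      rw [← hpow, ← ha'xy, ← pow_mul, mul_comm, pow_mul, ha'σ, one_pow]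
    have h2 : orderOf x₁ ∣ Nat.card K := orderOf_dvd_of_pow_eq_one hx₁K
    have h3 : orderOf x₁ ∣ Nat.card (sigmaCore M) := orderOf_dvd_of_pow_eq_one h1
    have h4 : orderOf x₁ ∣ 1 := by
      have := Nat.dvd_gcd h2 h3
      rwa [(coprime_card_sigmaCore_d2 hG hM hK)] at this
    exact orderOf_eq_one_iff.mp (Nat.dvd_one.mp h4)
  have ha'Ks : a' ∈ Ks M K := by
    rw [ha'xy, hx₁1, one_mul]
    exact hy₁
  -- `c ∈ M`
  have hA : (zpowers a' : Subgroup G) ≤ Ks M K := by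
    rw [Subgroup.zpowers_le]
    exact ha'Ks
  have hA1 : (zpowers a' : Subgroup G) ≠ ⊥ := by
    rw [Ne, Subgroup.zpowers_eq_bot]
    exact ha'1
  have hcM : c ∈ M := by
    apply mem_of_le_cj h31 hM hK hK1 hA hA1
    rw [Subgroup.zpowers_le, ha']
    exact conj_mem_cj haM
  -- `C_G(a) ≤ M`
  have hCa : centralizer ({a} : Set G) ≤ M := by
    intro w hw
    rw [Subgroup.mem_centralizer_iff] at hw
    have hwa : a * w = w * a := hw a rfl
    have h1 : c * w * c⁻¹ ∈ M := by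
      apply centralizer_le h31 hM hK hK1 hA hA1
      apply mem_centralizer_zpowers_d2
      rw [ha']
      calc c * w * c⁻¹ * (c * a * c⁻¹) = c * (w * a) * c⁻¹ := by group
        _ = c * (a * w) * c⁻¹ := by rw [hwa]
        _ = c * a * c⁻¹ * (c * w * c⁻¹) := by group
    have h2 : w = c⁻¹ * (c * w * c⁻¹) * c := by group
    rw [h2]
    exact M.mul_mem (M.mul_mem (M.inv_mem hcM) h1) hcM
  have hR : supportR M a = ⊥ := Cfsg.Agent.Lib.Helper68.BG144.supportR_eq_bot' M a hCa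
  rw [hR, Subgroup.mem_bot] at hr
  apply hz.2
  right
  rw [SetLike.mem_coe, hzc, hr, mul_one, ← ha']
  exact ha'Ks

end Cfsg.Agent.Lib.Helper01.BG147
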