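import Mathlib
import Cfsg.Prelude.Def_Blocks

/-!
# S4460 (three character degrees): shared definition for the pack K-CD3

`ThreeDeg G m n`: every irreducible complex character of `G` has degree `1`, `m` or `n`
(function API: `Cfsg.IsIrrCharacter`, `Cfsg.charDegree`).
-/

set_option autoImplicit false

namespace Cfsg.Agent.Lib.Helper01.CD3

open Cfsg

universe u

/-- Every irreducible character of `G` has degree `1`, `m` or `n`. -/
def ThreeDeg (G : Type u) [Group G] (m n : ℕ) : Prop :=
  ∀ χ : G → ℂ, IsIrrCharacter G χ → charDegree χ = 1 ∨ charDegree χ = m ∨ charDegree χ = n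

theorem ThreeDeg.symm {G : Type u} [Group G] {m n : ℕ} (h : ThreeDeg G m n) : ThreeDeg G n m :=
  fun χ hχ => by
    rcases h χ hχ with h1 | h1 | h1
    · exact Or.inl h1
    · exact Or.inr (Or.inr h1)
    · exact Or.inr (Or.inl h1)

end Cfsg.Agent.Lib.Helper01.CD3
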