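import Mathlib
import Cfsg.Prelude.Def_Blocks
import Cfsg.Agent.Lib.Helper01.CD3Defs
import Cfsg.Agent.Lib.Helper97.TwoDegMain
import Cfsg.Agent.Lib.Helper83.Quotient
import Cfsg.Agent.Lib.Helper26.CD3KEY
import Cfsg.Agent.Lib.Helper90.CD3KBot0
import Cfsg.Agent.Lib.Helper84.CD3C2b
import Cfsg.Agent.Lib.Helper30.CD3GRP
import Cfsg.Agent.Lib.Helper10.CD3DEG
import Cfsg.Agent.Lib.Helper32.CD3Tors
import Cfsg.Agent.Lib.Helper45.CD3IND
import Cfsg.Agent.Lib.Helper13.CD3VAN
import Cfsg.Agent.Lib.Helper42.CD3DIV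
import Cfsg.Agent.Lib.Helper77.CD3MAXK
import Cfsg.Agent.Lib.Helper38.CD3.Defs

/-!
# S4460, coprime half: three character degrees `1, m, n` with `gcd(m, n) = 1` force derived length
at most three, given the statement for all proper quotients.

Glue over the K-CD3 leaves 446020 - 446031 (spec `notes/S4460_keystones_C.lean.txt`, paper proof
`notes/S4460_paper.md`).
-/

set_option autoImplicit false

namespace Cfsg.Agent.Lib.Helper01.CD3

open Cfsg
open scoped commutatorElement

universe u

/-- The Frobenius branch: `cd(N) ⊆ {1, f'}`, hence `N'' = 1` and `G''' = 1`. -/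
theorem frobenius_case {G : Type u} [Group G] [Finite G] {f f' : ℕ} (hf : 1 < f) (hf' : 1 < f')
    (hco : Nat.Coprime f f') (hcd : ThreeDeg G f f')
    (K N : Subgroup G) [hK : K.Normal] [hN : N.Normal] (hKN : K ≤ N)
    (hNK : ∀ x ∈ N, ∀ y ∈ N, x * y * x⁻¹ * y⁻¹ ∈ K) (hGN : ∀ g h : G, g * h * g⁻¹ * h⁻¹ ∈ N)
    (hfpf : ∀ g : G, g ∉ N → ∀ x ∈ N, g * x * g⁻¹ * x⁻¹ ∈ K → x ∈ K)
    {r : ℕ} (hr : r.Prime) (hidx : ∃ a : ℕ, 0 < a ∧ K.relIndex N = r ^ a)
    (hfN : N.index = f) (hrf : Nat.Coprime f r) :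
    derivedSeries G 3 = ⊥ := by
  classical
  have key : ∀ ψ : N → ℂ, IsIrrCharacter N ψ → charDegree ψ = 1 ∨ charDegree ψ = f' := by
    intro ψ hψ
    by_cases hmove : ∃ μ : N → ℂ, IsIrrCharacter N μ ∧ μ 1 = 1 ∧
        (∀ k : N, (k : G) ∈ K → μ k = 1) ∧ ψ * μ ≠ ψ
    · obtain ⟨ξ, hξ, hdeg, hin⟩ := Cfsg.Agent.Lib.Helper32.CD3.exists_twist_inertia K N hKN hNK hGN hfpf hψ hmove
      obtain ⟨χ, hχ, hχd⟩ := Cfsg.Agent.Lib.Helper45.CD3.exists_irr_index_mul N hξ hin
      rw [hfN, hdeg] at hχd
      rcases hcd χ hχ with h1 | h1 | h1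
      · rw [h1] at hχd
        have : f = 1 := Nat.eq_one_of_mul_eq_one_right hχd.symm
        omega
      · rw [h1] at hχd
        left
        have hfpos : 0 < f := by omega
        have : f * 1 = f * charDegree ψ := by rw [mul_one]; exact hχd
        exact (Nat.eq_of_mul_eq_mul_left hfpos this).symm
      · rw [h1] at hχd
        have hdvd : f ∣ f' := ⟨_, hχd⟩
        have : f = 1 := Nat.Coprime.eq_one_of_dvd hco hdvd
        omega
    · have hinv : ∀ μ : N → ℂ, IsIrrCharacter N μ → μ 1 = 1 →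
          (∀ k : N, (k : G) ∈ K → μ k = 1) → ψ * μ = ψ := by
        intro μ h1 h2 h3
        by_contra h4
        exact hmove ⟨μ, h1, h2, h3, h4⟩
      have hrd := Cfsg.Agent.Lib.Helper13.CD3.dvd_degree_of_twist_invariant K N hKN hNK hr hidx hψ hinv
      obtain ⟨χ, hχ, e, he, hediv⟩ := Cfsg.Agent.Lib.Helper42.CD3.exists_over N hψ
      rw [hfN] at hediv
      have hrχ : r ∣ charDegree χ := by rw [he]; exact Dvd.dvd.mul_left hrd e
      rcases hcd χ hχ with h1 | h1 | h1
      · rw [h1] at hrχ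
        exact absurd (Nat.dvd_one.1 hrχ) hr.one_lt.ne'
      · rw [h1] at hrχ
        have : r ∣ Nat.gcd f r := Nat.dvd_gcd hrχ dvd_rfl
        rw [hrf] at this
        exact absurd (Nat.dvd_one.1 this) hr.one_lt.ne'
      · right
        have he' : e ∣ f' := ⟨_, by rw [← h1, he]⟩
        have : e ∣ Nat.gcd f f' := Nat.dvd_gcd hediv he'
        rw [hco] at this
        have he1 : e = 1 := Nat.dvd_one.1 this
        rw [he1, one_mul] at he
        rw [← he, h1]
  have hTD : Cfsg.Agent.Lib.Helper97.TwoDeg N f' := fun χ => key χ.1 χ.2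
  have hab := hTD.comm_commutator (by omega : 2 ≤ f')
  -- derived series
  have h1 : derivedSeries G 1 ≤ N := by
    rw [derivedSeries_one, commutator_def, Subgroup.commutator_le]
    intro g _ h _
    rw [commutatorElement_def]
    exact hGN g h
  have h2 : derivedSeries G 2 ≤ ⁅N, N⁆ := by
    rw [derivedSeries_succ]
    exact Subgroup.commutator_mono h1 h1
  have h3 : derivedSeries G 3 ≤ ⁅⁅N, N⁆, ⁅N, N⁆⁆ := by
    rw [derivedSeries_succ]
    exact Subgroup.commutator_mono h2 h2
  have hNN : ⁅⁅N, N⁆, ⁅N, N⁆⁆ = ⊥ := by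
    rw [Subgroup.commutator_eq_bot_iff_le_centralizer]
    intro a ha
    rw [Subgroup.mem_centralizer_iff]
    intro b hb
    rw [← Subgroup.map_subtype_commutator] at ha hb
    obtain ⟨a', ha', rfl⟩ := ha
    obtain ⟨b', hb', rfl⟩ := hb
    have := hab b' hb' a' ha'
    exact congrArg Subtype.val this
  rw [eq_bot_iff, ← hNN]
  exact h3

theorem charDegree_inflate {G : Type u} [Group G] (K : Subgroup G) [K.Normal] (ψ : G ⧸ K → ℂ) :
    charDegree (fun g : G => ψ (QuotientGroup.mk g)) = charDegree ψ := by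
  unfold charDegree
  simp

/-- The coprime case of S4460. -/
theorem coprime_case {G : Type u} [Group G] [Finite G] {m n : ℕ} (hm : 1 < m) (hn : 1 < n)
    (hmn : Nat.Coprime m n) (hcd : ThreeDeg G m n)
    (hm' : ∃ χ : G → ℂ, IsIrrCharacter G χ ∧ charDegree χ = m)
    (hn' : ∃ χ : G → ℂ, IsIrrCharacter G χ ∧ charDegree χ = n)
    (IH : ∀ (L : Subgroup G) [L.Normal], L ≠ ⊥ → derivedSeries (G ⧸ L) 3 = ⊥) :
    derivedSeries G 3 = ⊥ := by
  classical
  by_contra h3
  -- G is nonabelian
  have hnab : ∃ a b : G, a * b ≠ b * a := by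
    by_contra hall
    push Not at hall
    apply h3
    have h1 : derivedSeries G 1 = ⊥ := by
      rw [derivedSeries_one, commutator_def, Subgroup.commutator_eq_bot_iff_le_centralizer]
      intro a _
      rw [Subgroup.mem_centralizer_iff]
      intro b _
      exact hall b a
    rw [derivedSeries_succ, derivedSeries_succ, h1]
    simp
  obtain ⟨K, hKn, hKnot, hKmax⟩ := Cfsg.Agent.Lib.Helper77.CD3.exists_max_normal_nonabelian hnab
  by_cases hK : K = ⊥
  · subst hK
    have h2 : derivedSeries G 2 = ⊥ := by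
      have := Fintype.ofFinite G
      exact Cfsg.Agent.Lib.Helper90.CD3.case_K_bot_of_key hm hn
        (fun χ ψ hχ hψ h1 h2 h3 h4 =>
          Cfsg.Agent.Lib.Helper26.CD3.key_core hm hn hmn hcd hχ hψ h1 h2 h3 h4) hm' hn'
        (fun L hL hne => hKmax L hL (bot_lt_iff_ne_bot.2 hne))
    apply h3
    rw [derivedSeries_succ, h2]
    simp
  · haveI := hKn
    have hX3 : derivedSeries (G ⧸ K) 3 = ⊥ := IH K hK
    have hsolv : Group.IsSolvable (G ⧸ K) := ⟨⟨3, hX3⟩⟩
    have hmk_surj : Function.Surjective (QuotientGroup.mk' K) := QuotientGroup.mk'_surjective K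
    -- X is nonabelian
    have hXnab : ∃ a b : G ⧸ K, a * b ≠ b * a := by
      by_contra hall
      push Not at hall
      apply hKnot
      rw [commutator_def, Subgroup.commutator_le]
      intro g _ h _
      rw [commutatorElement_def, ← QuotientGroup.eq_one_iff]
      have := hall (g : G ⧸ K) (h : G ⧸ K)
      rw [QuotientGroup.mk_mul, QuotientGroup.mk_mul, QuotientGroup.mk_mul, QuotientGroup.mk_inv,
        QuotientGroup.mk_inv, this]
      group
    -- commutator of X is the image of the commutator of G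
    have hcomm_map : commutator (G ⧸ K) = (commutator G).map (QuotientGroup.mk' K) := by
      rw [commutator_def, commutator_def, Subgroup.map_commutator,
        ← MonoidHom.range_eq_map, MonoidHom.range_eq_top.2 hmk_surj]
    have hXmin : ∀ L : Subgroup (G ⧸ K), L.Normal → L ≠ ⊥ → commutator (G ⧸ K) ≤ L := by
      intro L hL hLne
      have hLn : (L.comap (QuotientGroup.mk' K)).Normal := hL.comap _
      have hKle : K ≤ L.comap (QuotientGroup.mk' K) := by
        intro k hk
        rw [Subgroup.mem_comap]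
        have : (QuotientGroup.mk' K) k = 1 := (QuotientGroup.eq_one_iff k).2 hk
        rw [this]; exact L.one_mem
      have hKlt : K < L.comap (QuotientGroup.mk' K) := by
        refine lt_of_le_of_ne hKle ?_
        intro heq
        apply hLne
        rw [eq_bot_iff]
        intro x hx
        obtain ⟨g, rfl⟩ := hmk_surj x
        have hg : g ∈ L.comap (QuotientGroup.mk' K) := hx
        rw [← heq] at hg
        rw [Subgroup.mem_bot]
        exact (QuotientGroup.eq_one_iff g).2 hg
      have := hKmax _ hLn hKlt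
      rw [hcomm_map]
      calc (commutator G).map (QuotientGroup.mk' K)
          ≤ (L.comap (QuotientGroup.mk' K)).map (QuotientGroup.mk' K) := Subgroup.map_mono this
        _ ≤ L := Subgroup.map_comap_le _ _
    have hXnp : ∀ p : ℕ, p.Prime → ¬ IsPGroup p (G ⧸ K) := by
      intro p hp hpg
      haveI := Fact.mk hp
      obtain ⟨a, b, hab⟩ := hXnab
      exact hab (Cfsg.Agent.Lib.Helper84.CD3.pgroup_quotient_comm hm hn hmn hcd hm' hn' K p hpg a b)
    obtain ⟨r, Q, hr, hVp, hVab, hQab, hVQ, hsup, hcop, hfpfQ, hfpfX, hindex, hQ1, a, ha, hVcard⟩ :=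
      Cfsg.Agent.Lib.Helper30.CD3.frobenius_structure hsolv hXnab hXmin hXnp
    have hVne : commutator (G ⧸ K) ≠ ⊥ := by
      intro h0
      have : Nat.card (commutator (G ⧸ K)) = 1 := by rw [h0]; simp
      rw [hVcard] at this
      have h2 : 2 ≤ r ^ a := by
        calc 2 ≤ r := hr.two_le
          _ = r ^ 1 := (pow_one r).symm
          _ ≤ r ^ a := Nat.pow_le_pow_right hr.pos ha
      omega
    obtain ⟨χb, hχb, hχbd⟩ :=
      Cfsg.Agent.Lib.Helper10.CD3.exists_irr_of_frobenius (commutator (G ⧸ K)) Q hVab hVne hVQ hsup hfpfQ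
    have hχ : IsIrrCharacter G (fun g : G => χb (QuotientGroup.mk g)) :=
      Cfsg.Agent.Lib.Helper83.isIrrCharacter_inflate K hχb
    have hχd : charDegree (fun g : G => χb (QuotientGroup.mk g)) = Nat.card Q := by
      rw [charDegree_inflate, hχbd]
    -- the subgroup N
    set N : Subgroup G := (commutator (G ⧸ K)).comap (QuotientGroup.mk' K) with hNdef
    haveI hNn : N.Normal := Subgroup.Normal.comap inferInstance _
    have hKN : K ≤ N := by
      intro k hk
      rw [hNdef, Subgroup.mem_comap]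
      have : (QuotientGroup.mk' K) k = 1 := (QuotientGroup.eq_one_iff k).2 hk
      rw [this]; exact Subgroup.one_mem _
    have hNK : ∀ x ∈ N, ∀ y ∈ N, x * y * x⁻¹ * y⁻¹ ∈ K := by
      intro x hx y hy
      rw [← QuotientGroup.eq_one_iff]
      have := hVab _ hx _ hy
      simp only [QuotientGroup.mk'_apply] at this
      rw [QuotientGroup.mk_mul, QuotientGroup.mk_mul, QuotientGroup.mk_mul, QuotientGroup.mk_inv,
        QuotientGroup.mk_inv, this]
      group
    have hGN : ∀ g h : G, g * h * g⁻¹ * h⁻¹ ∈ N := by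
      intro g h
      rw [hNdef, Subgroup.mem_comap, commutator_def]
      have : (QuotientGroup.mk' K) (g * h * g⁻¹ * h⁻¹) =
          ⁅(QuotientGroup.mk' K) g, (QuotientGroup.mk' K) h⁆ := by
        rw [commutatorElement_def]; simp
      rw [this]
      exact Subgroup.commutator_mem_commutator (Subgroup.mem_top _) (Subgroup.mem_top _)
    have hfpf : ∀ g : G, g ∉ N → ∀ x ∈ N, g * x * g⁻¹ * x⁻¹ ∈ K → x ∈ K := by
      intro g hg x hx hgx
      rw [← QuotientGroup.eq_one_iff] at hgx ⊢
      apply hfpfX ((QuotientGroup.mk' K) g) hg ((QuotientGroup.mk' K) x) hx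
      simp only [QuotientGroup.mk'_apply]
      rw [QuotientGroup.mk_mul, QuotientGroup.mk_mul, QuotientGroup.mk_mul, QuotientGroup.mk_inv,
        QuotientGroup.mk_inv] at hgx
      calc (g : G ⧸ K) * (x : G ⧸ K)
          = ((g : G ⧸ K) * (x : G ⧸ K) * (g : G ⧸ K)⁻¹ * (x : G ⧸ K)⁻¹) * ((x : G ⧸ K) * (g : G ⧸ K)) := by
            group
        _ = (x : G ⧸ K) * (g : G ⧸ K) := by rw [hgx, one_mul]
    have hNidx : N.index = Nat.card Q := by
      rw [hNdef, Subgroup.index_comap_of_surjective _ hmk_surj, hindex]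
    have hidx : ∃ a : ℕ, 0 < a ∧ K.relIndex N = r ^ a := by
      refine ⟨a, ha, ?_⟩
      have hKker : K = (⊥ : Subgroup (G ⧸ K)).comap (QuotientGroup.mk' K) := by
        ext k
        rw [Subgroup.mem_comap, Subgroup.mem_bot]
        exact (QuotientGroup.eq_one_iff k).symm
      have hmapN : N.map (QuotientGroup.mk' K) = commutator (G ⧸ K) := by
        rw [hNdef, Subgroup.map_comap_eq_self_of_surjective hmk_surj]
      conv_lhs => rw [hKker]
      rw [Subgroup.relIndex_comap, hmapN, Subgroup.relIndex_bot_left, hVcard]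
    -- the degree |Q| is m or n
    rcases hcd _ hχ with h1 | h1 | h1
    · rw [hχd] at h1; omega
    · rw [hχd] at h1
      apply h3
      exact frobenius_case hm hn hmn hcd K N hKN hNK hGN hfpf hr hidx (hNidx.trans h1)
        (by rw [← h1]; exact hcop)
    · rw [hχd] at h1
      apply h3
      exact frobenius_case hn hm hmn.symm hcd.symm K N hKN hNK hGN hfpf hr hidx (hNidx.trans h1)
        (by rw [← h1]; exact hcop)

end Cfsg.Agent.Lib.Helper01.CD3
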