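import Mathlib
import Cfsg.Agent.Lib.Helper01.CD3Coprime
import Cfsg.Agent.Lib.Helper38.CD3.Defs

/-!
# S4460, coprime half, in the interface of the top-level induction (`Helper38.CD3.ThreeDeg`).
-/

set_option autoImplicit false

namespace Cfsg.Agent.Lib.Helper01.CD3

open Cfsg

universe u

/-- `coprime_case` restated over `Cfsg.Agent.Lib.Helper38.CD3.ThreeDeg` (the subtype API). -/
theorem coprime_case_sub {G : Type u} [Group G] [Finite G] {m n : ℕ}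
    (h : Cfsg.Agent.Lib.Helper38.CD3.ThreeDeg G m n)
    (hm : ∃ χ : IrrCharacter G, charDegree (χ : G → ℂ) = m)
    (hn : ∃ χ : IrrCharacter G, charDegree (χ : G → ℂ) = n)
    (hm2 : 2 ≤ m) (hn2 : 2 ≤ n) (hcop : Nat.Coprime m n)
    (IH : ∀ (L : Subgroup G) [L.Normal], L ≠ ⊥ → derivedSeries (G ⧸ L) 3 = ⊥) :
    derivedSeries G 3 = ⊥ := by
  obtain ⟨χ, hχ⟩ := hm
  obtain ⟨ψ, hψ⟩ := hn
  exact coprime_case (by omega) (by omega) hcop (fun φ hφ => h ⟨φ, hφ⟩)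
    ⟨χ.1, χ.2, hχ⟩ ⟨ψ.1, ψ.2, hψ⟩ IH

end Cfsg.Agent.Lib.Helper01.CD3
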