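import Cfsg.Agent.Lib.Helper01.CD3Defs

/-!
# S4460 pack K-CD3 (coprime half)

The leaf specifications (stubs) live in `notes/S4460_keystones_C.lean.txt` of the repository, not here:
this module deliberately contains no declarations, so that nothing unproved can be imported from it.
-/
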