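import Mathlib

/-!
# S1421 leaf (Y): an invariant cyclic subgroup of full exponent over an invariant line

Let `A` be an abelian group of exponent dividing `p ^ a` (`a ≥ 1`), acted on by a finite
group `H` of order prime to `p`, and `X0 ≤ A` an `H`-invariant subgroup of order `p`
containing a non-trivial `p ^ (a-1)`-th power `s ^ p ^ (a-1)`.  Then there is `y : A` with
`y ^ p ^ (a-1) ∈ X0`, `≠ 1`, and `⟨y⟩` `H`-invariant.

Proof: twisted averaging `y = ∏ h, h • (s ^ lam h⁻¹)` with `lam h = c h ^ p ^ (a-1)` the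
Teichmüller lift of the character `c : H → (ℤ/p)ˣ` through which `H` acts on `X0`.
-/

namespace Cfsg.Agent.Lib.Helper01.CyclicLift

universe u v

section abstract

variable {A : Type u} [CommGroup A] {H : Type v} [Group H] [Fintype H]

/-- The twisted average. -/
noncomputable def psi (ρ : H →* MulAut A) (lam : H → ℕ) (s : A) : A :=
  ∏ h : H, ρ h (s ^ lam h⁻¹)

theorem pow_eq_of_modEq {s : A} {n : ℕ} (hs : s ^ n = 1) {k l : ℕ} (h : k ≡ l [MOD n]) :
    s ^ k = s ^ l := by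
  rw [pow_eq_pow_iff_modEq]
  exact h.of_dvd (orderOf_dvd_of_pow_eq_one hs)

theorem rho_psi (ρ : H →* MulAut A) (lam : H → ℕ) (n : ℕ) (hexp : ∀ s : A, s ^ n = 1)
    (hlam : ∀ g h : H, lam (g * h) ≡ lam g * lam h [MOD n]) (s : A) (g : H) :
    ρ g (psi ρ lam s) = (psi ρ lam s) ^ lam g := by
  unfold psi
  rw [map_prod, ← Finset.prod_pow]
  rw [← Equiv.prod_comp (Equiv.mulLeft g) (fun h => (ρ h (s ^ lam h⁻¹)) ^ lam g)]
  apply Finset.prod_congr rfl
  intro h _
  simp only [Equiv.coe_mulLeft, map_mul, MulAut.mul_apply, mul_inv_rev]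
  rw [← map_pow, ← map_pow, ← pow_mul]
  congr 2
  apply pow_eq_of_modEq (hexp s)
  have := hlam (h⁻¹ * g⁻¹) g
  rw [inv_mul_cancel_right] at this
  exact this

theorem psi_pow (ρ : H →* MulAut A) (lam : H → ℕ) (s : A) (m : ℕ) :
    (psi ρ lam s) ^ m = psi ρ lam (s ^ m) := by
  unfold psi
  rw [← Finset.prod_pow]
  apply Finset.prod_congr rfl
  intro h _
  rw [← map_pow, ← pow_mul, ← pow_mul, mul_comm]

/-- Teichmüller congruence: `x ≡ y [MOD p]` implies `x ^ p ^ k ≡ y ^ p ^ k [MOD p ^ (k+1)]`. -/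
theorem modEq_pow_of_modEq {p : ℕ} {x y : ℕ} (h : x ≡ y [MOD p]) (k : ℕ) :
    x ^ p ^ k ≡ y ^ p ^ k [MOD p ^ (k + 1)] := by
  rw [← Int.natCast_modEq_iff] at h ⊢
  rw [Int.modEq_iff_dvd] at h ⊢
  have := dvd_sub_pow_of_dvd_sub (R := ℤ) (p := p) (a := (y : ℤ)) (b := (x : ℤ)) h k
  push_cast
  exact this

theorem pow_prime_pow_modEq (p : ℕ) [Fact p.Prime] (x k : ℕ) : x ^ p ^ k ≡ x [MOD p] := by
  rw [← ZMod.natCast_eq_natCast_iff]
  push_cast
  exact ZMod.pow_card_pow _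

/-- The abstract form of leaf (Y). -/
theorem exists_eigen (p a : ℕ) [Fact p.Prime] (ha : 1 ≤ a) (hexp : ∀ s : A, s ^ p ^ a = 1)
    (ρ : H →* MulAut A) (hH : ¬ p ∣ Fintype.card H) (X0 : Subgroup A)
    (hX0 : Nat.card X0 = p) (hinv : ∀ h : H, ∀ x ∈ X0, ρ h x ∈ X0) (s : A)
    (hs : s ^ p ^ (a - 1) ∈ X0) (hs1 : s ^ p ^ (a - 1) ≠ 1) :
    ∃ y : A, y ^ p ^ (a - 1) ∈ X0 ∧ y ^ p ^ (a - 1) ≠ 1 ∧
      ∀ h : H, ∃ k : ℕ, ρ h y = y ^ k := by
  have hp : p.Prime := Fact.out
  set t : A := s ^ p ^ (a - 1) with ht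
  have ha' : a - 1 + 1 = a := by omega
  have htp : t ^ p = 1 := by
    rw [ht, ← pow_mul, ← pow_succ, ha']
    exact hexp s
  have hot : orderOf t = p := orderOf_eq_prime htp hs1
  -- `X0` is generated by `t`
  have hX0t : ∀ x ∈ X0, ∃ k : ℕ, t ^ k = x := by
    intro x hx
    have : Fact (Nat.card X0).Prime := ⟨by rw [hX0]; exact hp⟩
    have htop := zpowers_eq_top_of_prime_card (G := X0) (g := ⟨t, hs⟩) (p := p) hX0
      (by intro h; exact hs1 (by simpa using congrArg Subtype.val h))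
    have hxm : (⟨x, hx⟩ : X0) ∈ Subgroup.zpowers (⟨t, hs⟩ : X0) := by
      rw [htop]; exact Subgroup.mem_top _
    have : Finite X0 := Nat.finite_of_card_ne_zero (by rw [hX0]; exact hp.ne_zero)
    rw [← mem_powers_iff_mem_zpowers] at hxm
    obtain ⟨k, hk⟩ := hxm
    refine ⟨k, ?_⟩
    simpa using congrArg Subtype.val hk
  -- the character
  have hc : ∀ h : H, ∃ k : ℕ, ρ h t = t ^ k := by
    intro h
    obtain ⟨k, hk⟩ := hX0t _ (hinv h t hs)
    exact ⟨k, hk.symm⟩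
  choose c hc using hc
  have hcmul : ∀ g h : H, c (g * h) ≡ c g * c h [MOD p] := by
    intro g h
    rw [← hot, ← pow_eq_pow_iff_modEq, ← hc, map_mul, MulAut.mul_apply, hc, map_pow, hc,
      ← pow_mul]
  have hcone : c 1 ≡ 1 [MOD p] := by
    rw [← hot, ← pow_eq_pow_iff_modEq, ← hc, map_one, MulAut.one_apply, pow_one]
  -- the Teichmüller lift
  set lam : H → ℕ := fun h => c h ^ p ^ (a - 1) with hlamdef
  have hlam : ∀ g h : H, lam (g * h) ≡ lam g * lam h [MOD p ^ a] := by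
    intro g h
    have := modEq_pow_of_modEq (hcmul g h) (a - 1)
    rw [ha', mul_pow] at this
    exact this
  have hlamc : ∀ h : H, lam h ≡ c h [MOD p] := fun h => pow_prime_pow_modEq p (c h) (a - 1)
  -- `psi` fixes `t` up to the power `card H`
  have hterm : ∀ h : H, ρ h (t ^ lam h⁻¹) = t := by
    intro h
    rw [map_pow, hc, ← pow_mul]
    have h1 : c h * lam h⁻¹ ≡ 1 [MOD p] := by
      have h2 : c h * lam h⁻¹ ≡ c h * c h⁻¹ [MOD p] := Nat.ModEq.mul_left _ (hlamc h⁻¹)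
      have h3 := hcmul h h⁻¹
      rw [mul_inv_cancel] at h3
      exact (h2.trans h3.symm).trans hcone
    have := pow_eq_of_modEq htp h1
    rw [pow_one] at this
    exact this
  have hpsit : psi ρ lam t = t ^ Fintype.card H := by
    unfold psi
    rw [Finset.prod_congr rfl (fun h _ => hterm h), Finset.prod_const, Finset.card_univ]
  refine ⟨psi ρ lam s, ?_, ?_, ?_⟩
  · rw [psi_pow, ← ht, hpsit]
    exact X0.pow_mem hs _
  · rw [psi_pow, ← ht, hpsit]
    intro h1
    apply hH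
    rw [← hot]
    exact orderOf_dvd_of_pow_eq_one h1
  · intro h
    exact ⟨lam h, rho_psi ρ lam (p ^ a) hexp hlam s h⟩

end abstract

section concrete

variable {E : Type u} [Group E]

/-- A subgroup of prime order is generated (as a monoid) by any non-identity element. -/
theorem exists_pow_eq_of_prime_card (X0 : Subgroup E) (p : ℕ) [Fact p.Prime]
    (hX0 : Nat.card X0 = p) (t : E) (ht : t ∈ X0) (ht1 : t ≠ 1) (x : E) (hx : x ∈ X0) :
    ∃ k : ℕ, t ^ k = x := by
  have hp : p.Prime := Fact.out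
  have htop := zpowers_eq_top_of_prime_card (G := X0) (g := ⟨t, ht⟩) (p := p) hX0
    (by intro h; exact ht1 (by simpa using congrArg Subtype.val h))
  have hxm : (⟨x, hx⟩ : X0) ∈ Subgroup.zpowers (⟨t, ht⟩ : X0) := by
    rw [htop]; exact Subgroup.mem_top _
  have : Finite X0 := Nat.finite_of_card_ne_zero (by rw [hX0]; exact hp.ne_zero)
  rw [← mem_powers_iff_mem_zpowers] at hxm
  obtain ⟨k, hk⟩ := hxm
  refine ⟨k, ?_⟩
  simpa using congrArg Subtype.val hk

open scoped IsMulCommutative in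
/-- **Leaf (Y)** of the S1421 pack.  `S` an abelian subgroup of exponent dividing `p ^ a`
(`a ≥ 1`), `H ≤ N(S)` a `p'`-subgroup, `X0 ≤ S` of order `p` normalized by `H` and
containing a non-trivial `p ^ (a-1)`-th power of an element of `S`.  Then there is a cyclic
subgroup `Y ≤ S` of order `p ^ a`, normalized by `H`, with `X0 ≤ Y`. -/
theorem exists_cyclic_invariant [Finite E] (p a : ℕ) [Fact p.Prime]
    (S H X0 : Subgroup E) [IsMulCommutative S] (hexp : ∀ s ∈ S, s ^ p ^ a = 1) (ha : 1 ≤ a)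
    (hHS : H ≤ Subgroup.normalizer (S : Set E)) (hH : ¬ p ∣ Nat.card H) (hX0S : X0 ≤ S)
    (hX0 : Nat.card X0 = p) (hHX0 : H ≤ Subgroup.normalizer (X0 : Set E))
    (hpow : ∃ s ∈ S, s ^ p ^ (a - 1) ∈ X0 ∧ s ^ p ^ (a - 1) ≠ 1) :
    ∃ Y : Subgroup E, Y ≤ S ∧ IsCyclic Y ∧ H ≤ Subgroup.normalizer (Y : Set E) ∧
      Nat.card Y = p ^ a ∧ X0 ≤ Y := by
  classical
  obtain ⟨s, hsS, hsX, hs1⟩ := hpow
  let _ : Fintype H := Fintype.ofFinite H
  let ρ : H →* MulAut S := S.normalizerMonoidHom.comp (Subgroup.inclusion hHS)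
  have hρ : ∀ (h : H) (x : S), ((ρ h x : S) : E) = (h : E) * x * (h : E)⁻¹ := by
    intro h x
    rfl
  have hexp' : ∀ x : S, x ^ p ^ a = 1 := by
    intro x
    apply Subtype.ext
    simpa using hexp x x.2
  have hH' : ¬ p ∣ Fintype.card H := by
    rw [← Nat.card_eq_fintype_card]; exact hH
  have hX0' : Nat.card (X0.subgroupOf S) = p := by
    rw [Nat.card_congr (Subgroup.subgroupOfEquivOfLe hX0S).toEquiv, hX0]
  have hinv : ∀ h : H, ∀ x ∈ X0.subgroupOf S, ρ h x ∈ X0.subgroupOf S := by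
    intro h x hx
    rw [Subgroup.mem_subgroupOf] at hx ⊢
    rw [hρ]
    exact (Subgroup.mem_normalizer_iff.mp (hHX0 h.2) _).mp hx
  have hs' : (⟨s, hsS⟩ : S) ^ p ^ (a - 1) ∈ X0.subgroupOf S := by
    rw [Subgroup.mem_subgroupOf]
    simpa using hsX
  have hs1' : (⟨s, hsS⟩ : S) ^ p ^ (a - 1) ≠ 1 := by
    intro h
    apply hs1
    simpa using congrArg Subtype.val h
  obtain ⟨y, hyX, hy1, hyH⟩ :=
    exists_eigen p a ha hexp' ρ hH' (X0.subgroupOf S) hX0' hinv ⟨s, hsS⟩ hs' hs1'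
  have hyX' : (y : E) ^ p ^ (a - 1) ∈ X0 := by
    rw [Subgroup.mem_subgroupOf] at hyX
    simpa using hyX
  have hy1' : (y : E) ^ p ^ (a - 1) ≠ 1 := by
    intro h
    apply hy1
    apply Subtype.ext
    simpa using h
  have ha' : a - 1 + 1 = a := by omega
  have hya : (y : E) ^ p ^ a = 1 := by
    simpa using congrArg Subtype.val (hexp' y)
  have hconj : ∀ h ∈ H, ∀ z ∈ Subgroup.zpowers (y : E), h * z * h⁻¹ ∈ Subgroup.zpowers (y : E) := by
    intro h hh z hz
    obtain ⟨n, rfl⟩ := Subgroup.mem_zpowers_iff.mp hz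
    obtain ⟨k, hk⟩ := hyH ⟨h, hh⟩
    have hk' : h * (y : E) * h⁻¹ = (y : E) ^ k := by
      have := congrArg Subtype.val hk
      rw [hρ] at this
      simpa using this
    have : h * (y : E) ^ n * h⁻¹ = (h * (y : E) * h⁻¹) ^ n := by
      rw [← MulAut.conj_apply, ← MulAut.conj_apply, map_zpow]
    rw [this, hk']
    exact Subgroup.zpow_mem _ (Subgroup.pow_mem _ (Subgroup.mem_zpowers _) _) _
  refine ⟨Subgroup.zpowers (y : E), ?_, inferInstance, ?_, ?_, ?_⟩
  · rw [Subgroup.zpowers_le]; exact y.2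
  · intro h hh
    rw [Subgroup.mem_normalizer_iff]
    intro z
    constructor
    · exact hconj h hh z
    · intro hz
      have := hconj h⁻¹ (H.inv_mem hh) _ hz
      simpa [mul_assoc] using this
  · rw [Nat.card_zpowers]
    have := orderOf_eq_prime_pow (x := (y : E)) (p := p) (n := a - 1) hy1' (by rw [ha']; exact hya)
    rw [ha'] at this
    exact this
  · intro x hx
    obtain ⟨k, hk⟩ := exists_pow_eq_of_prime_card X0 p hX0 _ hyX' hy1' x hx
    rw [← hk]
    exact Subgroup.pow_mem _ (Subgroup.pow_mem _ (Subgroup.mem_zpowers _) _) _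

end concrete

end Cfsg.Agent.Lib.Helper01.CyclicLift
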