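import Mathlib
import Cfsg.Agent.Lib.Helper01.Basic
import Cfsg.Agent.Lib.Helper01.PCore
import Cfsg.Agent.Lib.Helper01.PPrimeCore
import Cfsg.Agent.Lib.Helper20.QuaternionFacts
import Cfsg.Agent.Lib.Helper97.UniqueOrderP

/-!
# Helper01: general lemmas for the structure of solvable Frobenius complements (S3358)
-/

set_option autoImplicit false

namespace Cfsg.Agent.Lib.Helper01

/-- A subgroup of index at most four gives a homomorphism to `Sym(4)` whose kernel is its
normal core. -/
theorem exists_perm_four_of_index_le {G : Type*} [Group G] (M : Subgroup G) (hM : M.index ≤ 4)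
    (hM0 : M.index ≠ 0) : ∃ f : G →* Equiv.Perm (Fin 4), f.ker = M.normalCore := by
  classical
  have : M.FiniteIndex := ⟨hM0⟩
  have : Finite (G ⧸ M) := Subgroup.finite_quotient_of_finiteIndex
  let _ : Fintype (G ⧸ M) := Fintype.ofFinite _
  have hcard : Fintype.card (G ⧸ M) ≤ Fintype.card (Fin 4) := by
    rw [Fintype.card_fin, ← Nat.card_eq_fintype_card]
    exact hM
  obtain ⟨ι⟩ := Function.Embedding.nonempty_of_card_le hcard
  refine ⟨(Equiv.Perm.viaEmbeddingHom ι).comp (MulAction.toPermHom G (G ⧸ M)), ?_⟩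
  rw [Subgroup.normalCore_eq_ker]
  ext x
  simp only [MonoidHom.mem_ker, MonoidHom.comp_apply]
  constructor
  · intro h
    apply Equiv.Perm.viaEmbeddingHom_injective ι
    rw [h, map_one]
  · intro h
    rw [h, map_one]

/-- Sylow subgroups of a subgroup `G₀` are cyclic once all `p`-subgroups of `G` inside `G₀` are. -/
theorem sylow_cyclic_of_subgroups_cyclic {G : Type*} [Group G] (G₀ : Subgroup G)
    (h : ∀ p : ℕ, p.Prime → ∀ Q : Subgroup G, Q ≤ G₀ → IsPGroup p Q → IsCyclic Q)
    (p : ℕ) [hp : Fact p.Prime] (P : Sylow p G₀) : IsCyclic P := by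
  have h1 : IsCyclic ((P : Subgroup G₀).map G₀.subtype) :=
    h p hp.out _ (Subgroup.map_subtype_le _) (P.2.map _)
  let e := Subgroup.equivMapOfInjective (P : Subgroup G₀) G₀.subtype G₀.subtype_injective
  exact isCyclic_of_surjective e.symm e.symm.surjective

/-- A subgroup of order coprime to the kernel maps injectively; cyclicity lifts. -/
theorem isCyclic_of_map_of_coprime {G Q : Type*} [Group G] [Group Q] [Finite G] (f : G →* Q)
    (V : Subgroup G) (hcop : (Nat.card V).Coprime (Nat.card f.ker)) (hc : IsCyclic (V.map f)) :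
    IsCyclic V := by
  have hinj : Function.Injective (f.subgroupMap V) := by
    rw [← MonoidHom.ker_eq_bot_iff, eq_bot_iff]
    intro x hx
    rw [MonoidHom.mem_ker] at hx
    have h1 : f (x : G) = 1 := by
      have := congrArg Subtype.val hx
      simpa using this
    have h2 : (x : G) ∈ V ⊓ f.ker := ⟨x.2, h1⟩
    rw [(Subgroup.disjoint_of_coprime_natCard hcop).eq_bot, Subgroup.mem_bot] at h2
    rw [Subgroup.mem_bot]
    exact Subtype.ext h2
  exact isCyclic_of_injective (f.subgroupMap V) hinj

/-- involutions of a quotient by a normal subgroup of odd order lift to involutions -/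
theorem exists_involution_lift {G : Type*} [Group G] [Finite G] (O : Subgroup G) [O.Normal]
    (hO : Odd (Nat.card O)) (u : G ⧸ O) (hu : orderOf u = 2) :
    ∃ g : G, orderOf g = 2 ∧ (QuotientGroup.mk' O) g = u := by
  obtain ⟨g, rfl⟩ := QuotientGroup.mk'_surjective O u
  set k := Nat.card O with hk
  obtain ⟨j, hj⟩ := hO
  have hu2 : ((QuotientGroup.mk' O) g) ^ 2 = 1 := by rw [← hu, pow_orderOf_eq_one]
  have hu1 : (QuotientGroup.mk' O) g ≠ 1 := by
    intro h
    rw [h, orderOf_one] at hu
    omega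
  have hg2 : g ^ 2 ∈ O := by
    rw [← QuotientGroup.eq_one_iff, ← hu2]; rfl
  have hpow : (QuotientGroup.mk' O) (g ^ k) = (QuotientGroup.mk' O) g := by
    rw [map_pow, hj, pow_succ, pow_mul, hu2, one_pow, one_mul]
  refine ⟨g ^ k, ?_, hpow⟩
  apply orderOf_eq_prime
  · rw [← pow_mul, mul_comm, pow_mul]
    have h2 : ((⟨g ^ 2, hg2⟩ : O) ^ k : O) = 1 := pow_card_eq_one'
    have h3 := congrArg Subtype.val h2
    rw [Subgroup.coe_pow, Subgroup.coe_one] at h3
    exact h3
  · intro h
    rw [h, map_one] at hpow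
    exact hu1 hpow.symm

/-- uniqueness of involutions passes to quotients by normal subgroups of odd order -/
theorem unique_involution_quotient {G : Type*} [Group G] [Finite G] (O : Subgroup G) [O.Normal]
    (hO : Odd (Nat.card O))
    (hinv : ∀ s t : G, orderOf s = 2 → orderOf t = 2 → s = t) :
    ∀ s t : G ⧸ O, orderOf s = 2 → orderOf t = 2 → s = t := by
  intro s t hs ht
  obtain ⟨g, hg, rfl⟩ := exists_involution_lift O hO s hs
  obtain ⟨g', hg', rfl⟩ := exists_involution_lift O hO t ht
  rw [hinv g g' hg hg']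

/-- the rotation subgroup of a quaternion group is cyclic -/
theorem quatRot_isCyclic (m : ℕ) [NeZero m] : IsCyclic (Cfsg.Agent.Lib.Helper20.quatRot m) := by
  refine ⟨⟨⟨QuaternionGroup.a 1, Cfsg.Agent.Lib.Helper20.quat_a_mem_rot 1⟩, ?_⟩⟩
  rintro ⟨g, k, rfl⟩
  refine Subgroup.mem_zpowers_iff.mpr ⟨(k.val : ℤ), ?_⟩
  apply Subtype.ext
  simp only [zpow_natCast]
  show (QuaternionGroup.a 1 : QuaternionGroup m) ^ k.val = QuaternionGroup.a k
  rw [QuaternionGroup.a_one_pow, ZMod.natCast_zmod_val]

/-- A finite 2-group with at most one involution has a cyclic normal subgroup `D` which is the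
kernel of a homomorphism to `Sym(4)`. -/
theorem two_group_case {K : Type*} [Group K] [Finite K] (hK : IsPGroup 2 K)
    (hinv : ∀ s t : K, orderOf s = 2 → orderOf t = 2 → s = t) :
    ∃ D : Subgroup K, D.Normal ∧ (∃ f : K →* Equiv.Perm (Fin 4), f.ker = D) ∧ IsCyclic D ∧
      D.index ≤ 2 := by
  by_cases hc : IsCyclic K
  · refine ⟨⊤, inferInstance, ⟨1, MonoidHom.ker_one⟩, ?_, by simp⟩
    exact isCyclic_of_surjective (Subgroup.topEquiv (G := K)).symm
      (Subgroup.topEquiv (G := K)).symm.surjective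
  · have hU : Cfsg.Agent.Lib.Helper97.UniqueOrderP 2 K := by
      intro x y hx hy
      rw [hinv y x hy hx]; exact Subgroup.mem_zpowers x
    obtain ⟨n, ⟨e⟩⟩ := Cfsg.Agent.Lib.Helper97.quaternion_of_uniqueOrderP_two hK hU hc
    have : NeZero (2 ^ n) := ⟨by positivity⟩
    set D : Subgroup K := (Cfsg.Agent.Lib.Helper20.quatRot (2 ^ n)).comap e.toMonoidHom with hD
    have hidx : D.index = 2 := by
      rw [hD, Subgroup.index_comap_of_surjective _ e.surjective]
      exact Cfsg.Agent.Lib.Helper20.quatRot_index _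
    have hDn : D.Normal := Subgroup.normal_of_index_eq_two hidx
    refine ⟨D, hDn, ?_, ?_, hidx.le⟩
    · obtain ⟨f, hf⟩ := exists_perm_four_of_index_le D (by rw [hidx]; norm_num)
        (by rw [hidx]; norm_num)
      exact ⟨f, by rw [hf, Subgroup.normalCore_eq_self]⟩
    · have := quatRot_isCyclic (2 ^ n)
      let φ : D →* Cfsg.Agent.Lib.Helper20.quatRot (2 ^ n) :=
        (e.toMonoidHom.comp D.subtype).codRestrict _ (fun v => v.2)
      have hφ : Function.Injective φ := by
        intro a b hab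
        have h1 := congrArg Subtype.val hab
        simp only [φ] at h1
        exact Subtype.ext (e.injective h1)
      exact isCyclic_of_injective φ hφ


/-- a finite 2-group with at most one involution is metacyclic -/
theorem metacyclic_of_unique_involution {T : Type*} [Group T] [Finite T] (hT : IsPGroup 2 T)
    (hinv : ∀ s t : T, orderOf s = 2 → orderOf t = 2 → s = t) :
    ∃ (N : Subgroup T) (_ : N.Normal), IsCyclic N ∧ IsCyclic (T ⧸ N) := by
  obtain ⟨D, hDn, -, hDc, hidx⟩ := two_group_case hT hinv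
  refine ⟨D, hDn, hDc, ?_⟩
  have h0 : D.index ≠ 0 := Subgroup.index_ne_zero_of_finite
  have hcard : Nat.card (T ⧸ D) = D.index := rfl
  have h12 : D.index = 1 ∨ D.index = 2 := by omega
  rcases h12 with h1 | h2
  · have : Subsingleton (T ⧸ D) := by
      rw [← Finite.card_le_one_iff_subsingleton, hcard, h1]
    exact isCyclic_of_subsingleton
  · haveI : Fact (Nat.Prime 2) := ⟨Nat.prime_two⟩
    exact isCyclic_of_prime_card (p := 2) (by rw [hcard, h2])

/-- a homocyclic group of rank two with at most one involution is trivial -/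
theorem homocyclic_unique_involution {T : Type*} [Group T] (n : ℕ)
    (e : T ≃* Multiplicative (ZMod (2 ^ n)) × Multiplicative (ZMod (2 ^ n)))
    (hinv : ∀ s t : T, orderOf s = 2 → orderOf t = 2 → s = t) : n = 0 := by
  by_contra hn
  have hn1 : 1 ≤ n := Nat.one_le_iff_ne_zero.mpr hn
  set g : Multiplicative (ZMod (2 ^ n)) :=
    Multiplicative.ofAdd (((2 ^ (n - 1) : ℕ) : ZMod (2 ^ n))) with hg
  have hg1 : g ≠ 1 := by
    intro h
    rw [hg, ofAdd_eq_one, ZMod.natCast_eq_zero_iff] at h
    have h1 := Nat.le_of_dvd (by positivity) h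
    have h2 : 2 ^ (n - 1) < 2 ^ n := Nat.pow_lt_pow_right (by norm_num) (by omega)
    omega
  have hg2 : g ^ 2 = 1 := by
    rw [hg, ← ofAdd_nsmul, ofAdd_eq_one, nsmul_eq_mul]
    have : ((2 : ℕ) : ZMod (2 ^ n)) * ((2 ^ (n - 1) : ℕ) : ZMod (2 ^ n)) =
        ((2 ^ n : ℕ) : ZMod (2 ^ n)) := by
      rw [← Nat.cast_mul, ← pow_succ', Nat.sub_add_cancel hn1]
    rw [this, ZMod.natCast_self]
  have hu : orderOf (e.symm (g, 1)) = 2 := by
    rw [MulEquiv.orderOf_eq]
    apply orderOf_eq_prime
    · ext <;> simp [hg2]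
    · intro h
      exact hg1 (congrArg Prod.fst h)
  have hv : orderOf (e.symm (1, g)) = 2 := by
    rw [MulEquiv.orderOf_eq]
    apply orderOf_eq_prime
    · ext <;> simp [hg2]
    · intro h
      exact hg1 (congrArg Prod.snd h)
  have := e.symm.injective (hinv _ _ hu hv)
  exact hg1 (congrArg Prod.fst this)

end Cfsg.Agent.Lib.Helper01
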