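import Mathlib

/-!
# Helper01: the split metacyclic presentation `⟨x, y | x^n, y^m, x⁻¹ y x = y^r⟩`

`metaRels n m r` is the set of relators (written exactly as in statement S3358);
`nonempty_mulEquiv_metaPres` identifies a finite group of order `n * m`, generated by
`x, y` satisfying the relations, with the presented group.
-/

set_option autoImplicit false

namespace Cfsg.Agent.Lib.Helper01

/-- relators of the split metacyclic presentation `⟨x, y | x^n, y^m, x⁻¹ y x = y^r⟩` -/
def metaRels (n m r : ℕ) : Set (FreeGroup (Fin 2)) :=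
  {FreeGroup.of (0 : Fin 2) ^ n, FreeGroup.of (1 : Fin 2) ^ m,
    (FreeGroup.of (0 : Fin 2))⁻¹ * FreeGroup.of 1 * FreeGroup.of 0 *
      (FreeGroup.of (1 : Fin 2) ^ r)⁻¹}

section pres

variable (n m r : ℕ)

theorem metaPres_relA :
    (PresentedGroup.of 0 : PresentedGroup (metaRels n m r)) ^ n = 1 := by
  have h : (FreeGroup.of (0 : Fin 2) ^ n) ∈ metaRels n m r := by simp [metaRels]
  have := PresentedGroup.one_of_mem h
  simpa [PresentedGroup.of] using this

theorem metaPres_relB :
    (PresentedGroup.of 1 : PresentedGroup (metaRels n m r)) ^ m = 1 := by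
  have h : (FreeGroup.of (1 : Fin 2) ^ m) ∈ metaRels n m r := by simp [metaRels]
  have := PresentedGroup.one_of_mem h
  simpa [PresentedGroup.of] using this

theorem metaPres_relC :
    (PresentedGroup.of 0 : PresentedGroup (metaRels n m r))⁻¹ * PresentedGroup.of 1 *
      PresentedGroup.of 0 = PresentedGroup.of 1 ^ r := by
  have h : ((FreeGroup.of (0 : Fin 2))⁻¹ * FreeGroup.of 1 * FreeGroup.of 0 *
      (FreeGroup.of (1 : Fin 2) ^ r)⁻¹) ∈ metaRels n m r := by simp [metaRels]
  have := PresentedGroup.one_of_mem h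
  have h2 : (PresentedGroup.of 0 : PresentedGroup (metaRels n m r))⁻¹ * PresentedGroup.of 1 *
      PresentedGroup.of 0 * (PresentedGroup.of 1 ^ r)⁻¹ = 1 := by
    simpa [PresentedGroup.of] using this
  exact mul_inv_eq_one.mp h2

/-- conjugating a power -/
theorem conj_pow_of_conj {X : Type*} [Group X] (a b : X) (r : ℕ) (h : a⁻¹ * b * a = b ^ r)
    (j : ℕ) : b ^ j * a = a * b ^ (r * j) := by
  have h1 : a⁻¹ * b ^ j * a = (b ^ r) ^ j := by
    rw [← h]
    induction j with
    | zero => simp
    | succ k ih =>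
      rw [pow_succ, pow_succ, ← ih]; group
  rw [← pow_mul] at h1
  calc b ^ j * a = a * (a⁻¹ * b ^ j * a) := by group
    _ = a * b ^ (r * j) := by rw [h1]

/-- normal form in the presented group -/
theorem metaPres_normal_form (hn : 0 < n) (hm : 0 < m)
    (g : PresentedGroup (metaRels n m r)) :
    ∃ i j : ℕ, g = (PresentedGroup.of 0) ^ i * (PresentedGroup.of 1) ^ j := by
  set a : PresentedGroup (metaRels n m r) := PresentedGroup.of 0 with ha
  set b : PresentedGroup (metaRels n m r) := PresentedGroup.of 1 with hb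
  have hA : a ^ n = 1 := metaPres_relA n m r
  have hB : b ^ m = 1 := metaPres_relB n m r
  have hC : a⁻¹ * b * a = b ^ r := metaPres_relC n m r
  have hainv : a⁻¹ = a ^ (n - 1) := by
    have : a ^ (n - 1) * a = 1 := by rw [← pow_succ, Nat.sub_add_cancel hn, hA]
    exact (eq_inv_of_mul_eq_one_left this).symm ▸ rfl
  have hbinv : b⁻¹ = b ^ (m - 1) := by
    have : b ^ (m - 1) * b = 1 := by rw [← pow_succ, Nat.sub_add_cancel hm, hB]
    exact (eq_inv_of_mul_eq_one_left this).symm ▸ rfl
  -- right multiplication by `a` and `b` preserve the normal form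
  have stepA : ∀ g : PresentedGroup (metaRels n m r),
      (∃ i j : ℕ, g = a ^ i * b ^ j) → ∃ i j : ℕ, g * a = a ^ i * b ^ j := by
    rintro g ⟨i, j, rfl⟩
    refine ⟨i + 1, r * j, ?_⟩
    rw [mul_assoc, conj_pow_of_conj a b r hC j, ← mul_assoc, ← pow_succ]
  have stepB : ∀ g : PresentedGroup (metaRels n m r),
      (∃ i j : ℕ, g = a ^ i * b ^ j) → ∃ i j : ℕ, g * b = a ^ i * b ^ j := by
    rintro g ⟨i, j, rfl⟩
    exact ⟨i, j + 1, by rw [mul_assoc, ← pow_succ]⟩
  have stepApow : ∀ k : ℕ, ∀ g : PresentedGroup (metaRels n m r),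
      (∃ i j : ℕ, g = a ^ i * b ^ j) → ∃ i j : ℕ, g * a ^ k = a ^ i * b ^ j := by
    intro k
    induction k with
    | zero => intro g hg; simpa using hg
    | succ k ih =>
      intro g hg
      rw [pow_succ, ← mul_assoc]
      exact stepA _ (ih g hg)
  have stepBpow : ∀ k : ℕ, ∀ g : PresentedGroup (metaRels n m r),
      (∃ i j : ℕ, g = a ^ i * b ^ j) → ∃ i j : ℕ, g * b ^ k = a ^ i * b ^ j := by
    intro k
    induction k with
    | zero => intro g hg; simpa using hg
    | succ k ih =>
      intro g hg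
      rw [pow_succ, ← mul_assoc]
      exact stepB _ (ih g hg)
  have hmem : g ∈ Subgroup.closure (Set.range
      (PresentedGroup.of : Fin 2 → PresentedGroup (metaRels n m r))) := by
    rw [PresentedGroup.closure_range_of]; exact Subgroup.mem_top g
  induction hmem using Subgroup.closure_induction_right with
  | one => exact ⟨0, 0, by simp⟩
  | mul_right x hx y hy ih =>
    obtain ⟨t, rfl⟩ := hy
    fin_cases t
    · exact stepA x ih
    · exact stepB x ih
  | mul_inv_cancel x hx y hy ih =>
    obtain ⟨t, rfl⟩ := hy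
    fin_cases t
    · show ∃ i j : ℕ, x * a⁻¹ = a ^ i * b ^ j
      rw [hainv]; exact stepApow _ x ih
    · show ∃ i j : ℕ, x * b⁻¹ = a ^ i * b ^ j
      rw [hbinv]; exact stepBpow _ x ih

theorem metaPres_finite_card (hn : 0 < n) (hm : 0 < m) :
    Finite (PresentedGroup (metaRels n m r)) ∧
      Nat.card (PresentedGroup (metaRels n m r)) ≤ n * m := by
  haveI : NeZero n := ⟨hn.ne'⟩
  haveI : NeZero m := ⟨hm.ne'⟩
  set a : PresentedGroup (metaRels n m r) := PresentedGroup.of 0 with ha
  set b : PresentedGroup (metaRels n m r) := PresentedGroup.of 1 with hb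
  have hA : a ^ n = 1 := metaPres_relA n m r
  have hB : b ^ m = 1 := metaPres_relB n m r
  let f : Fin n × Fin m → PresentedGroup (metaRels n m r) :=
    fun ij => a ^ (ij.1 : ℕ) * b ^ (ij.2 : ℕ)
  have hf : Function.Surjective f := by
    intro g
    obtain ⟨i, j, rfl⟩ := metaPres_normal_form n m r hn hm g
    refine ⟨(⟨i % n, Nat.mod_lt _ hn⟩, ⟨j % m, Nat.mod_lt _ hm⟩), ?_⟩
    show a ^ (i % n) * b ^ (j % m) = a ^ i * b ^ j
    rw [← pow_eq_pow_mod i hA, ← pow_eq_pow_mod j hB]
  haveI : Finite (PresentedGroup (metaRels n m r)) := Finite.of_surjective f hf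
  refine ⟨inferInstance, ?_⟩
  have := Nat.card_le_card_of_surjective f hf
  simpa [Nat.card_prod] using this

end pres

/-- A finite group of order `n * m` generated by `x, y` with `x^n = 1`, `y^m = 1`,
`x⁻¹ y x = y^r` is isomorphic to the presented group. -/
theorem nonempty_mulEquiv_metaPres {X : Type*} [Group X] [Finite X] (x y : X) (n m r : ℕ)
    (hn : 0 < n) (hm : 0 < m) (hx : x ^ n = 1) (hy : y ^ m = 1) (hxy : x⁻¹ * y * x = y ^ r)
    (hgen : Subgroup.closure ({x, y} : Set X) = ⊤) (hcard : Nat.card X = n * m) :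
    Nonempty (X ≃* PresentedGroup (metaRels n m r)) := by
  obtain ⟨hfin, hle⟩ := metaPres_finite_card n m r hn hm
  have hrel : ∀ w ∈ metaRels n m r, FreeGroup.lift (![x, y] : Fin 2 → X) w = 1 := by
    intro w hw
    simp only [metaRels, Set.mem_insert_iff, Set.mem_singleton_iff] at hw
    rcases hw with rfl | rfl | rfl
    · simp [hx]
    · simp [hy]
    · simp only [map_mul, map_inv, map_pow, FreeGroup.lift_apply_of, Matrix.cons_val_zero,
        Matrix.cons_val_one]
      rw [hxy]; simp
  let φ : PresentedGroup (metaRels n m r) →* X := PresentedGroup.toGroup hrel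
  have hφ0 : φ (PresentedGroup.of 0) = x := by
    simp [φ]
  have hφ1 : φ (PresentedGroup.of 1) = y := by
    simp [φ]
  have hsurj : Function.Surjective φ := by
    rw [← MonoidHom.range_eq_top, eq_top_iff, ← hgen, Subgroup.closure_le]
    intro z hz
    rcases hz with rfl | rfl
    · exact ⟨_, hφ0⟩
    · exact ⟨_, hφ1⟩
  have hbij : Function.Bijective φ :=
    hsurj.bijective_of_nat_card_le (by rw [hcard]; exact hle)
  exact ⟨(MulEquiv.ofBijective φ hbij).symm⟩

end Cfsg.Agent.Lib.Helper01
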