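import Mathlib
import Cfsg.Agent.Lib.Helper01.MetaPres
import Cfsg.Agent.Lib.Helper01.Basic
import Cfsg.Agent.Lib.Helper01.CyclicAux
import Cfsg.Agent.Lib.Helper01.OrderAux

/-!
# Helper01: presentation of Z-groups whose subgroups of order `p * q` are cyclic

A finite group all of whose Sylow subgroups are cyclic and all of whose subgroups of order a
product of two primes are cyclic has the presentation
`⟨x, y | x^n, y^m, x⁻¹ y x = y^r⟩` with `gcd(n, m) = gcd(r - 1, m) = 1` and
`r^(n / rad n) ≡ 1 (mod m)`.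
-/

set_option autoImplicit false

namespace Cfsg.Agent.Lib.Helper01

open scoped commutatorElement

/-- stability-group computation: if `w = z⁻¹ h⁻¹ z h` commutes with `h`, then conjugating `z`
by `h ^ k` multiplies it by `w ^ k`. -/
theorem conj_pow_eq_mul_pow {X : Type*} [Group X] (z h : X)
    (hc : Commute (z⁻¹ * h⁻¹ * z * h) h) (k : ℕ) :
    (h ^ k)⁻¹ * z * h ^ k = z * (z⁻¹ * h⁻¹ * z * h) ^ k := by
  induction k with
  | zero => simp
  | succ k ih =>
    have h1 : (h ^ (k + 1))⁻¹ * z * h ^ (k + 1) = h⁻¹ * ((h ^ k)⁻¹ * z * h ^ k) * h := by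
      rw [pow_succ]; group
    rw [h1, ih]
    have h2 : h⁻¹ * (z⁻¹ * h⁻¹ * z * h) ^ k * h = (z⁻¹ * h⁻¹ * z * h) ^ k := by
      have := (hc.pow_left k).eq
      calc h⁻¹ * (z⁻¹ * h⁻¹ * z * h) ^ k * h = h⁻¹ * ((z⁻¹ * h⁻¹ * z * h) ^ k * h) := by group
        _ = h⁻¹ * (h * (z⁻¹ * h⁻¹ * z * h) ^ k) := by rw [this]
        _ = (z⁻¹ * h⁻¹ * z * h) ^ k := by group
    calc h⁻¹ * (z * (z⁻¹ * h⁻¹ * z * h) ^ k) * h
        = (h⁻¹ * z * h) * (h⁻¹ * (z⁻¹ * h⁻¹ * z * h) ^ k * h) := by group
      _ = (h⁻¹ * z * h) * (z⁻¹ * h⁻¹ * z * h) ^ k := by rw [h2]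
      _ = z * (z⁻¹ * h⁻¹ * z * h) ^ (k + 1) := by
          rw [pow_succ', ← mul_assoc z]
          congr 1
          group

theorem pow_eq_one_of_chain {X : Type*} [Group X] (z h : X)
    (hc : Commute (z⁻¹ * h⁻¹ * z * h) h) (k : ℕ) (hk : h ^ k = 1) :
    (z⁻¹ * h⁻¹ * z * h) ^ k = 1 := by
  have := conj_pow_eq_mul_pow z h hc k
  rw [hk] at this
  simpa using this.symm

/-- two elements of a cyclic subgroup commute -/
theorem commute_of_mem_isCyclic {X : Type*} [Group X] (D : Subgroup X) [IsCyclic D] {a b : X}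
    (ha : a ∈ D) (hb : b ∈ D) : Commute a b := by
  obtain ⟨g, hg⟩ := IsCyclic.exists_generator (α := D)
  obtain ⟨i, hi⟩ := Subgroup.mem_zpowers_iff.mp (hg ⟨a, ha⟩)
  obtain ⟨j, hj⟩ := Subgroup.mem_zpowers_iff.mp (hg ⟨b, hb⟩)
  have h1 : ((g : X)) ^ i = a := by
    have := congrArg (Subtype.val) hi
    simpa using this
  have h2 : ((g : X)) ^ j = b := by
    have := congrArg (Subtype.val) hj
    simpa using this
  rw [← h1, ← h2]
  exact (Commute.refl (g : X)).zpow_zpow i j

/-- the hypothesis "subgroups of order `p * q` are cyclic" -/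
def PQCyclic (X : Type*) [Group X] : Prop :=
  ∀ (A : Subgroup X) (p q : ℕ), p.Prime → q.Prime → Nat.card A = p * q → IsCyclic A

theorem zpowers_normal_of_prime_order {X : Type*} [Group X] [Finite X] (D : Subgroup X)
    [hDn : D.Normal] [IsCyclic D] (w : X) (hw : w ∈ D) (q : ℕ) (hq : 0 < q)
    (how : orderOf w = q) : (Subgroup.zpowers w).Normal := by
  constructor
  intro x hx g
  obtain ⟨k, rfl⟩ := Subgroup.mem_zpowers_iff.mp hx
  have h1 : g * w * g⁻¹ ∈ Subgroup.zpowers w := by
    have hmem : g * w * g⁻¹ ∈ D := hDn.conj_mem w hw g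
    have hpow : (g * w * g⁻¹) ^ q = 1 := by
      rw [conj_pow, ← how, pow_orderOf_eq_one]; group
    have h2 : orderOf (⟨w, hw⟩ : D) = q := by
      rw [← how]; exact Subgroup.orderOf_mk w hw
    have h3 : (⟨g * w * g⁻¹, hmem⟩ : D) ^ q = 1 := by
      apply Subtype.ext
      simpa using hpow
    have h4 := mem_zpowers_of_isCyclic hq (⟨w, hw⟩ : D) ⟨g * w * g⁻¹, hmem⟩ h2 h3
    obtain ⟨j, hj⟩ := Subgroup.mem_zpowers_iff.mp h4
    have := congrArg Subtype.val hj
    simp only [Subgroup.coe_zpow] at this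
    exact Subgroup.mem_zpowers_iff.mpr ⟨j, this⟩
  have h5 : g * w ^ k * g⁻¹ = (g * w * g⁻¹) ^ k := by
    rw [conj_zpow]
  rw [h5]
  exact Subgroup.zpow_mem _ h1 k

theorem commute_of_pq {X : Type*} [Group X] [Finite X] (hPQ : PQCyclic X)
    (D : Subgroup X) [D.Normal] [IsCyclic D] (w h : X) (hw : w ∈ D) (p q : ℕ) (hp : p.Prime)
    (hq : q.Prime) (hpq : p ≠ q) (how : orderOf w = q) (hoh : orderOf h = p) : Commute w h := by
  have hWn : (Subgroup.zpowers w).Normal :=
    zpowers_normal_of_prime_order D w hw q hq.pos how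
  have hcW : Nat.card (Subgroup.zpowers w) = q := by rw [Nat.card_zpowers, how]
  have hcH : Nat.card (Subgroup.zpowers h) = p := by rw [Nat.card_zpowers, hoh]
  have hcop : (Nat.card (Subgroup.zpowers w)).Coprime (Nat.card (Subgroup.zpowers h)) := by
    rw [hcW, hcH]; exact (Nat.coprime_primes hq hp).mpr hpq.symm
  have hcard := card_sup_of_coprime (Subgroup.zpowers w) (Subgroup.zpowers h) hcop
  rw [hcW, hcH] at hcard
  have : IsCyclic ↥(Subgroup.zpowers h ⊔ Subgroup.zpowers w) := hPQ _ q p hq hp hcard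
  exact commute_of_mem_isCyclic (Subgroup.zpowers h ⊔ Subgroup.zpowers w)
    (le_sup_right (a := Subgroup.zpowers h) (Subgroup.mem_zpowers w))
    (le_sup_left (b := Subgroup.zpowers w) (Subgroup.mem_zpowers h))

/-- an element of prime order `p ∤ |D|` centralizes the cyclic normal subgroup `D`, when
subgroups of order `p * q` are cyclic -/
theorem commute_of_prime_order_of_cyclic_normal {X : Type*} [Group X] [Finite X]
    (hPQ : PQCyclic X) (D : Subgroup X) [hDn : D.Normal] [IsCyclic D] (h : X) (p : ℕ)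
    (hp : p.Prime) (hoh : orderOf h = p) (hpD : ¬ p ∣ Nat.card D) :
    ∀ z ∈ D, Commute z h := by
  have key : ∀ N : ℕ, ∀ z ∈ D, orderOf z = N → Commute z h := by
    intro N
    induction N using Nat.strong_induction_on with
    | _ N ih =>
      intro z hz hN
      by_cases hz1 : z = 1
      · rw [hz1]; exact Commute.one_left h
      have hN1 : orderOf z ≠ 1 := fun h1 => hz1 (orderOf_eq_one_iff.mp h1)
      set q := (orderOf z).minFac with hqdef
      have hq : q.Prime := Nat.minFac_prime hN1
      have hqdvd : q ∣ orderOf z := Nat.minFac_dvd _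
      have hzpos : 0 < orderOf z := orderOf_pos z
      have hzq : z ^ q ∈ D := Subgroup.pow_mem D hz q
      have hord : orderOf (z ^ q) = orderOf z / q := orderOf_pow_of_dvd hq.pos.ne' hqdvd
      have hlt : orderOf (z ^ q) < N := by
        rw [hord, ← hN]; exact Nat.div_lt_self hzpos hq.one_lt
      have hcq : Commute (z ^ q) h := ih _ hlt (z ^ q) hzq rfl
      -- the commutator-like element
      set w := z⁻¹ * h⁻¹ * z * h with hwdef
      have hconj : h⁻¹ * z * h ∈ D := by
        have := hDn.conj_mem z hz h⁻¹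
        simpa using this
      have hwD : w ∈ D := by
        have : w = z⁻¹ * (h⁻¹ * z * h) := by rw [hwdef]; group
        rw [this]; exact D.mul_mem (D.inv_mem hz) hconj
      have hwq : w ^ q = 1 := by
        have e1 : w = z⁻¹ * (h⁻¹ * z * h) := by rw [hwdef]; group
        have c1 : Commute z⁻¹ (h⁻¹ * z * h) := commute_of_mem_isCyclic D (D.inv_mem hz) hconj
        have e2 : (h⁻¹ * z * h) ^ q = z ^ q := by
          have : (h⁻¹ * z * h) ^ q = h⁻¹ * z ^ q * h := by
            have := conj_pow (a := h⁻¹) (b := z) (i := q)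
            simpa using this
          rw [this, mul_assoc, hcq.eq, ← mul_assoc, inv_mul_cancel, one_mul]
        rw [e1, c1.mul_pow, e2, inv_pow, inv_mul_cancel]
      have hqD : q ∣ Nat.card D := by
        have h1 : orderOf z ∣ Nat.card D := by
          have := orderOf_dvd_natCard (⟨z, hz⟩ : D)
          rwa [Subgroup.orderOf_mk] at this
        exact hqdvd.trans h1
      have hpq : p ≠ q := fun e => hpD (e ▸ hqD)
      have hwh : Commute w h := by
        by_cases hw1 : w = 1
        · rw [hw1]; exact Commute.one_left h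
        · have how : orderOf w = q := by
            have h1 : orderOf w ∣ q := orderOf_dvd_of_pow_eq_one hwq
            rcases (Nat.dvd_prime hq).mp h1 with h2 | h2
            · exact absurd (orderOf_eq_one_iff.mp h2) hw1
            · exact h2
          exact commute_of_pq hPQ D w h hwD p q hp hq hpq how hoh
      have hwp : w ^ p = 1 := pow_eq_one_of_chain z h hwh p (by rw [← hoh, pow_orderOf_eq_one])
      have hw1 : w = 1 := by
        have h1 : orderOf w ∣ p := orderOf_dvd_of_pow_eq_one hwp
        have h2 : orderOf w ∣ q := orderOf_dvd_of_pow_eq_one hwq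
        have h3 : orderOf w ∣ Nat.gcd p q := Nat.dvd_gcd h1 h2
        rw [(Nat.coprime_primes hp hq).mpr hpq] at h3
        exact orderOf_eq_one_iff.mp (Nat.dvd_one.mp h3)
      -- conclude
      have : z * h = h * z := by
        have e : h * z * w = z * h := by rw [hwdef]; group
        rw [← e, hw1, mul_one]
      exact this
  intro z hz
  exact key _ z hz rfl


/-- iterated conjugation of `y` by `x` when `x⁻¹ y x = y^r` -/
theorem conj_pow_pow {X : Type*} [Group X] (x y : X) (r : ℕ) (h : x⁻¹ * y * x = y ^ r) (i : ℕ) :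
    (x ^ i)⁻¹ * y * x ^ i = y ^ (r ^ i) := by
  induction i with
  | zero => simp
  | succ i ih =>
    have h1 : (x ^ (i + 1))⁻¹ * y * x ^ (i + 1) = x⁻¹ * ((x ^ i)⁻¹ * y * x ^ i) * x := by
      rw [pow_succ]; group
    have h2 : x⁻¹ * y ^ (r ^ i) * x = (x⁻¹ * y * x) ^ (r ^ i) := by
      have := conj_pow (a := x⁻¹) (b := y) (i := r ^ i)
      simpa using this.symm
    rw [h1, ih, h2, h, ← pow_mul, pow_succ, mul_comm]

/-- in a group generated by two commuting elements everything commutes -/
theorem mul_comm_of_closure_pair {Q : Type*} [Group Q] (a b : Q)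
    (hgen : Subgroup.closure ({a, b} : Set Q) = ⊤) (hab : a * b = b * a) (u v : Q) :
    u * v = v * u := by
  have hcomm : ∀ s ∈ ({a, b} : Set Q), ∀ t ∈ ({a, b} : Set Q), s * t = t * s := by
    intro s hs t ht
    rcases hs with rfl | rfl <;> rcases ht with rfl | rfl
    · rfl
    · exact hab
    · exact hab.symm
    · rfl
  have hmc : IsMulCommutative ↥(Subgroup.closure ({a, b} : Set Q)) :=
    Subgroup.isMulCommutative_closure hcomm
  have hu : u ∈ Subgroup.closure ({a, b} : Set Q) := by rw [hgen]; exact Subgroup.mem_top u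
  have hv : v ∈ Subgroup.closure ({a, b} : Set Q) := by rw [hgen]; exact Subgroup.mem_top v
  have := hmc.is_comm.comm (⟨u, hu⟩ : Subgroup.closure ({a, b} : Set Q)) ⟨v, hv⟩
  exact congrArg Subtype.val this

/-- **Presentation of Z-groups** whose subgroups of order `p * q` are cyclic. -/
theorem zgroup_presentation {X : Type*} [Group X] [Finite X] [IsZGroup X] (hPQ : PQCyclic X) :
    ∃ n m r : ℕ, 0 < n ∧ 0 < m ∧ Nat.Coprime (r - 1) m ∧ Nat.Coprime n m ∧ 1 ≤ r ∧
      r ^ (n / ∏ p ∈ n.primeFactors, p) % m = 1 % m ∧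
      Nonempty (X ≃* PresentedGroup (metaRels n m r)) := by
  classical
  set D : Subgroup X := commutator X with hD
  have hDn : D.Normal := inferInstance
  have hDc : IsCyclic D := IsZGroup.isCyclic_commutator X
  have hcop : (Nat.card D).Coprime D.index := IsZGroup.coprime_commutator_index X
  obtain ⟨H, hH⟩ := Subgroup.exists_right_complement'_of_coprime hcop
  have e1 : Abelianization X ≃* H := hH.symm.QuotientMulEquiv
  have hHc : IsCyclic H := isCyclic_of_surjective _ e1.surjective
  set m := Nat.card D with hm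
  set n := Nat.card H with hn
  have hnm : Nat.card X = n * m := by rw [← hH.card_mul_card, mul_comm]
  have hmpos : 0 < m := Nat.card_pos
  have hnpos : 0 < n := Nat.card_pos
  have hidx : D.index = n := by
    have h1 := D.card_mul_index
    rw [hnm, ← hm] at h1
    have : m * D.index = m * n := by rw [h1, mul_comm]
    exact Nat.eq_of_mul_eq_mul_left hmpos this
  have hcop' : n.Coprime m := by rw [← hidx]; exact hcop.symm
  -- generators
  obtain ⟨y0, hy0⟩ := IsCyclic.exists_generator (α := D)
  obtain ⟨x0, hx0⟩ := IsCyclic.exists_generator (α := H)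
  obtain ⟨y, hyD⟩ := y0
  obtain ⟨x, hxH⟩ := x0
  have hoy : orderOf y = m := by
    have := orderOf_eq_card_of_forall_mem_zpowers hy0
    rwa [Subgroup.orderOf_mk] at this
  have hox : orderOf x = n := by
    have := orderOf_eq_card_of_forall_mem_zpowers hx0
    rwa [Subgroup.orderOf_mk] at this
  have hxn : x ^ n = 1 := by rw [← hox, pow_orderOf_eq_one]
  have hym : y ^ m = 1 := by rw [← hoy, pow_orderOf_eq_one]
  have hDpow : ∀ d ∈ D, ∃ k : ℕ, y ^ k = d := by
    intro d hd
    have h1 := hy0 ⟨d, hd⟩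
    rw [← (isOfFinOrder_of_finite (⟨y, hyD⟩ : D)).mem_powers_iff_mem_zpowers,
      Submonoid.mem_powers_iff] at h1
    obtain ⟨k, hk⟩ := h1
    exact ⟨k, by simpa using congrArg Subtype.val hk⟩
  have hHpow : ∀ d ∈ H, ∃ k : ℕ, x ^ k = d := by
    intro d hd
    have h1 := hx0 ⟨d, hd⟩
    rw [← (isOfFinOrder_of_finite (⟨x, hxH⟩ : H)).mem_powers_iff_mem_zpowers,
      Submonoid.mem_powers_iff] at h1
    obtain ⟨k, hk⟩ := h1
    exact ⟨k, by simpa using congrArg Subtype.val hk⟩
  -- the exponent `r`
  have hconjD : x⁻¹ * y * x ∈ D := by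
    have := hDn.conj_mem y hyD x⁻¹
    simpa using this
  obtain ⟨r₀, hr₀⟩ := hDpow _ hconjD
  set r := r₀ + m with hr
  have hxy : x⁻¹ * y * x = y ^ r := by rw [hr, pow_add, hym, mul_one, hr₀]
  have hr1 : 1 ≤ r := by omega
  -- generation
  have hgen : Subgroup.closure ({x, y} : Set X) = ⊤ := by
    rw [eq_top_iff, ← hH.sup_eq_top, sup_le_iff]
    constructor
    · intro d hd
      obtain ⟨k, rfl⟩ := hDpow d hd
      exact Subgroup.pow_mem _ (Subgroup.subset_closure (by simp)) k
    · intro d hd
      obtain ⟨k, rfl⟩ := hHpow d hd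
      exact Subgroup.pow_mem _ (Subgroup.subset_closure (by simp)) k
  -- coprimality of `r - 1` and `m`
  have hcop1 : Nat.Coprime (r - 1) m := by
    set E : Subgroup X := Subgroup.zpowers (y ^ (r - 1)) with hE
    have hEn : E.Normal := by
      constructor
      intro e he g
      obtain ⟨j, rfl⟩ := Subgroup.mem_zpowers_iff.mp he
      have hgy : g * y * g⁻¹ ∈ D := hDn.conj_mem y hyD g
      obtain ⟨k, hk⟩ := hDpow _ hgy
      have h1 : g * (y ^ (r - 1)) ^ j * g⁻¹ = ((y ^ (r - 1)) ^ k) ^ j := by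
        rw [← conj_zpow, ← conj_pow, ← hk, ← pow_mul, ← pow_mul, mul_comm]
      rw [h1]
      exact Subgroup.zpow_mem _ (Subgroup.pow_mem _ (Subgroup.mem_zpowers _) k) j
    have hgenQ : Subgroup.closure ({(QuotientGroup.mk' E) x, (QuotientGroup.mk' E) y} :
        Set (X ⧸ E)) = ⊤ := by
      have := congrArg (Subgroup.map (QuotientGroup.mk' E)) hgen
      rw [MonoidHom.map_closure, Subgroup.map_top_of_surjective _
        (QuotientGroup.mk'_surjective E)] at this
      rw [← this]
      congr 1
      simp [Set.image_pair]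
    have hxyQ : (QuotientGroup.mk' E) x * (QuotientGroup.mk' E) y =
        (QuotientGroup.mk' E) y * (QuotientGroup.mk' E) x := by
      rw [← map_mul, ← map_mul]
      show ((x * y : X) : X ⧸ E) = ((y * x : X) : X ⧸ E)
      rw [QuotientGroup.eq]
      have : (x * y)⁻¹ * (y * x) = y ^ (r - 1) := by
        have h1 : (x * y)⁻¹ * (y * x) = y⁻¹ * (x⁻¹ * y * x) := by group
        rw [h1, hxy]
        have : r = (r - 1) + 1 := by omega
        conv_lhs => rw [this, pow_succ']
        group
      rw [this]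
      exact Subgroup.mem_zpowers _
    have hDE : D ≤ E := by
      rw [hD, commutator_def, Subgroup.commutator_le]
      intro g₁ _ g₂ _
      have h1 : (QuotientGroup.mk' E) ⁅g₁, g₂⁆ = 1 := by
        rw [map_commutatorElement, commutatorElement_eq_one_iff_commute]
        exact mul_comm_of_closure_pair _ _ hgenQ hxyQ _ _
      exact (QuotientGroup.eq_one_iff _).mp h1
    have hyE : y ∈ E := hDE hyD
    rw [hE, ← (isOfFinOrder_of_finite (y ^ (r - 1))).mem_powers_iff_mem_zpowers,
      Submonoid.mem_powers_iff] at hyE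
    obtain ⟨j, hj⟩ := hyE
    rw [← pow_mul] at hj
    have h2 : y ^ ((r - 1) * j) = y ^ 1 := by rw [hj, pow_one]
    rw [pow_eq_pow_iff_modEq, hoy] at h2
    have h3 : Nat.gcd ((r - 1) * j) m = Nat.gcd 1 m := h2.gcd_eq
    rw [Nat.gcd_one_left] at h3
    exact Nat.Coprime.coprime_dvd_left (Dvd.intro _ rfl) h3
  -- the radical condition
  have hrad : r ^ (n / ∏ p ∈ n.primeFactors, p) % m = 1 % m := by
    set rad := ∏ p ∈ n.primeFactors, p with hraddef
    set k := n / rad with hk
    have hraddvd : rad ∣ n := Nat.prod_primeFactors_dvd n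
    have hkrad : k * rad = n := Nat.div_mul_cancel hraddvd
    set C : Subgroup X := Subgroup.centralizer ({y} : Set X) with hC
    set CH : Subgroup H := C.subgroupOf H with hCH
    set d := Nat.card CH with hd
    have hdpos : 0 < d := Nat.card_pos
    have hpd : ∀ p ∈ n.primeFactors, p ∣ d := by
      intro p hp
      have hpp : p.Prime := Nat.prime_of_mem_primeFactors hp
      have hpn : p ∣ n := Nat.dvd_of_mem_primeFactors hp
      have hord : orderOf (x ^ (n / p)) = p := by
        have := orderOf_pow_orderOf_div hpp x (by rw [hox]; exact hpn)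
        rwa [hox] at this
      have hpm : ¬ p ∣ Nat.card D := by
        intro h
        have := Nat.dvd_gcd hpn h
        rw [hcop'] at this
        exact hpp.one_lt.ne' (Nat.dvd_one.mp this)
      have hcomm : Commute y (x ^ (n / p)) :=
        commute_of_prime_order_of_cyclic_normal hPQ D (x ^ (n / p)) p hpp hord hpm y hyD
      have hmemH : x ^ (n / p) ∈ H := Subgroup.pow_mem H hxH _
      have hmemC : x ^ (n / p) ∈ C := by
        rw [hC, Subgroup.mem_centralizer_iff]
        intro z hz
        rw [Set.mem_singleton_iff] at hz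
        subst hz
        exact hcomm.eq
      have hmemCH : (⟨x ^ (n / p), hmemH⟩ : H) ∈ CH := by
        rw [hCH, Subgroup.mem_subgroupOf]; exact hmemC
      have h1 := orderOf_dvd_natCard (⟨⟨x ^ (n / p), hmemH⟩, hmemCH⟩ : CH)
      rw [Subgroup.orderOf_mk, Subgroup.orderOf_mk, hord] at h1
      exact h1
    have hraddvdd : rad ∣ d :=
      Finset.prod_primes_dvd d (fun p hp => (Nat.prime_of_mem_primeFactors hp).prime) hpd
    -- the element `x ^ k` of `H` lies in `CH`
    have hCHc : IsCyclic CH := inferInstance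
    obtain ⟨zc, hzc⟩ := IsCyclic.exists_generator (α := CH)
    have hozc : orderOf (zc : H) = d := by
      have := orderOf_eq_card_of_forall_mem_zpowers hzc
      rwa [← Subgroup.orderOf_coe] at this
    have hpow : ((⟨x, hxH⟩ : H) ^ k) ^ d = 1 := by
      apply Subtype.ext
      simp only [Subgroup.coe_pow, Subgroup.coe_one]
      obtain ⟨d', hd'⟩ := hraddvdd
      rw [← pow_mul, hd', ← mul_assoc, hkrad, pow_mul, hxn, one_pow]
    have hmem := mem_zpowers_of_isCyclic hdpos (zc : H) ((⟨x, hxH⟩ : H) ^ k) hozc hpow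
    have hmemCH : (⟨x, hxH⟩ : H) ^ k ∈ CH := by
      have hle : Subgroup.zpowers (zc : H) ≤ CH := by
        rw [Subgroup.zpowers_le]; exact zc.2
      exact hle hmem
    have hxkC : x ^ k ∈ C := by
      rw [hCH, Subgroup.mem_subgroupOf] at hmemCH
      simpa using hmemCH
    have hcomm : y * x ^ k = x ^ k * y := by
      rw [hC, Subgroup.mem_centralizer_iff] at hxkC
      exact hxkC y rfl
    have h1 := conj_pow_pow x y r hxy k
    have h2 : (x ^ k)⁻¹ * y * x ^ k = y ^ 1 := by
      rw [mul_assoc, hcomm, ← mul_assoc, inv_mul_cancel, one_mul, pow_one]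
    rw [h2] at h1
    have h3 := (pow_eq_pow_iff_modEq.mp h1.symm)
    rw [hoy] at h3
    exact h3
  exact ⟨n, m, r, hnpos, hmpos, hcop1, hcop', hr1, hrad,
    nonempty_mulEquiv_metaPres x y n m r hnpos hmpos hxn hym hxy hgen hnm⟩

end Cfsg.Agent.Lib.Helper01
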