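import Mathlib
import Cfsg.Agent.Lib.Helper01.FCStructA
import Cfsg.Agent.Lib.Helper01.ZGroupPres
import Cfsg.Agent.Lib.Helper01.HallHigman
import Cfsg.Agent.Lib.Helper01.SolvableNP
import Cfsg.Agent.Lib.Helper01.Coprime
import Cfsg.Agent.Lib.Helper42.Meta2
import Cfsg.Agent.Lib.Helper61.SolvableCore

/-!
# Helper01: structure of solvable groups with trivial odd core and a unique involution (S3358)
-/

set_option autoImplicit false

universe u

namespace Cfsg.Agent.Lib.Helper01

/-- An element of odd order normalizing... here: in a group `K`, an element of odd order lies in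
the centralizer of every normal cyclic 2-subgroup. -/
theorem mem_centralizer_cyclic_two_of_odd {K : Type*} [Group K] [Finite K] (N₀ : Subgroup K)
    [N₀.Normal] (hc : IsCyclic N₀) (h2 : IsPGroup 2 N₀) (x : K) (hx : Odd (orderOf x)) :
    x ∈ Subgroup.centralizer (N₀ : Set K) := by
  obtain ⟨j, hj⟩ := Cfsg.Agent.Lib.Helper61.index_centralizer_cyclic_two N₀ hc h2
  set C₀ : Subgroup K := Subgroup.centralizer (N₀ : Set K) with hC₀
  have h1 : orderOf ((QuotientGroup.mk' C₀) x) ∣ orderOf x := orderOf_map_dvd _ x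
  have h2' : orderOf ((QuotientGroup.mk' C₀) x) ∣ 2 ^ j := by
    rw [← hj]
    exact orderOf_dvd_natCard _
  have hcop : (orderOf x).Coprime (2 ^ j) :=
    (Nat.coprime_two_right.mpr hx).pow_right j
  have h3 : orderOf ((QuotientGroup.mk' C₀) x) = 1 := Nat.eq_one_of_dvd_coprimes hcop h1 h2'
  rw [orderOf_eq_one_iff] at h3
  exact (QuotientGroup.eq_one_iff x).mp h3

/-- an element of odd order in a 2-group is trivial -/
theorem eq_one_of_odd_of_isPGroup_two {K : Type*} [Group K] (T : Subgroup K) (hT : IsPGroup 2 T)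
    (x : K) (hxT : x ∈ T) (hx : Odd (orderOf x)) : x = 1 := by
  obtain ⟨i, hi⟩ := hT ⟨x, hxT⟩
  have h1 : x ^ (2 ^ i) = 1 := by
    have := congrArg Subtype.val hi
    simpa using this
  have h2 : orderOf x ∣ 2 ^ i := orderOf_dvd_of_pow_eq_one h1
  have hcop : (orderOf x).Coprime (2 ^ i) :=
    (Nat.coprime_two_right.mpr hx).pow_right i
  have h3 : orderOf x = 1 := Nat.eq_one_of_dvd_coprimes hcop dvd_rfl h2
  exact orderOf_eq_one_iff.mp h3


/-- **The non-2-group case.** A finite solvable group with trivial odd core and at most one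
involution, which is not a 2-group, has a cyclic normal subgroup `D` that is the kernel of a
homomorphism to `Sym(4)`. -/
theorem non_two_group_case {K : Type u} [Group K] [Finite K] (hsol : Group.IsSolvable K)
    (hO : Cfsg.pPrimeCore 2 K = ⊥)
    (hinv : ∀ s t : K, orderOf s = 2 → orderOf t = 2 → s = t) (hK2 : ¬ IsPGroup 2 K) :
    ∃ D : Subgroup K, D.Normal ∧ (∃ f : K →* Equiv.Perm (Fin 4), f.ker = D) ∧ IsCyclic D := by
  classical
  have : Fact (Nat.Prime 2) := ⟨Nat.prime_two⟩
  have := hsol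
  set T : Subgroup K := Cfsg.pCore 2 K with hTdef
  have hTn : T.Normal := Cfsg.Agent.Lib.Helper01.pCore_normal 2
  have hT2 : IsPGroup 2 T := Cfsg.Agent.Lib.Helper01.pCore_isPGroup 2
  have hCT : Subgroup.centralizer (T : Set K) ≤ T := centralizer_pCore_le 2 hO
  -- Step 1: `T` is proper
  have hTtop : T ≠ ⊤ := by
    intro h
    apply hK2
    have h1 : IsPGroup 2 (⊤ : Subgroup K) := h ▸ hT2
    exact h1.of_equiv Subgroup.topEquiv
  have : Nontrivial (K ⧸ T) := by
    rw [← Finite.one_lt_card_iff_nontrivial]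
    have h0 : T.index ≠ 0 := Subgroup.index_ne_zero_of_finite
    have h1 : T.index ≠ 1 := fun h => hTtop (Subgroup.index_eq_one.mp h)
    have hcard : Nat.card (K ⧸ T) = T.index := rfl
    omega
  have hsolQ : Group.IsSolvable (K ⧸ T) := inferInstance
  obtain ⟨p, hp, Pbar, hPn, hPp, hPne⟩ := exists_normal_pSubgroup_of_solvable (H := K ⧸ T) hsolQ
  have : Fact p.Prime := ⟨hp⟩
  set π : K →* K ⧸ T := QuotientGroup.mk' T with hπ
  set N : Subgroup K := Pbar.comap π with hN
  have hNn : N.Normal := hPn.comap π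
  have hTN : T ≤ N := by
    intro t ht
    rw [hN, Subgroup.mem_comap]
    have : π t = 1 := (QuotientGroup.eq_one_iff t).mpr ht
    rw [this]; exact Pbar.one_mem
  have hNmap : N.map π = Pbar :=
    Subgroup.map_comap_eq_self_of_surjective (QuotientGroup.mk'_surjective T) Pbar
  -- Step 3: `p` is odd
  have hp2 : p ≠ 2 := by
    rintro rfl
    have hN2 : IsPGroup 2 N := by
      rintro ⟨g, hg⟩
      obtain ⟨a, ha⟩ := hPp ⟨π g, hg⟩
      have h1 : g ^ (2 ^ a) ∈ T := by
        rw [← QuotientGroup.eq_one_iff]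
        have h0 := congrArg Subtype.val ha
        rw [Subgroup.coe_pow, Subgroup.coe_one] at h0
        rw [← map_pow] at h0
        exact h0
      obtain ⟨b, hb⟩ := hT2 ⟨g ^ (2 ^ a), h1⟩
      refine ⟨a + b, ?_⟩
      apply Subtype.ext
      have h2 := congrArg Subtype.val hb
      simp only [Subgroup.coe_pow, Subgroup.coe_one] at h2 ⊢
      rw [pow_add, pow_mul]; exact h2
    have hNT : N ≤ T := le_pCore hNn hN2
    apply hPne
    rw [← hNmap, eq_bot_iff]
    rintro _ ⟨g, hg, rfl⟩
    rw [Subgroup.mem_bot]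
    exact (QuotientGroup.eq_one_iff g).mpr (hNT hg)
  -- Step 4: a Sylow `p`-subgroup of `N` and the Frattini argument
  obtain ⟨R₀⟩ : Nonempty (Sylow p N) := inferInstance
  set R : Subgroup K := (R₀ : Subgroup N).map N.subtype with hR
  have hfrat : Subgroup.normalizer (R : Set K) ⊔ N = ⊤ := Sylow.normalizer_sup_eq_top R₀
  have hRp : IsPGroup p R := R₀.2.map _
  have hRN : R ≤ N := Subgroup.map_subtype_le _
  have hNTR : N = T ⊔ R := by
    let ψ : N →* K ⧸ T := π.comp N.subtype
    have hker : ψ.ker = T.subgroupOf N := by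
      ext x
      rw [MonoidHom.mem_ker, Subgroup.mem_subgroupOf]
      exact QuotientGroup.eq_one_iff (x : K)
    have hrange : IsPGroup p ψ.range := by
      apply hPp.to_le
      rintro _ ⟨x, rfl⟩
      exact x.2
    obtain ⟨c, hc⟩ := IsPGroup.iff_card.mp hrange
    have hidx : ψ.ker.index = p ^ c := by rw [Subgroup.index_ker, hc]
    have h1 : (ψ.ker ⊔ (R₀ : Subgroup N)).index ∣ p ^ c :=
      hidx ▸ Subgroup.index_dvd_of_le le_sup_left
    have h2 : ¬ p ∣ (ψ.ker ⊔ (R₀ : Subgroup N)).index := by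
      intro h
      exact R₀.not_dvd_index (h.trans (Subgroup.index_dvd_of_le le_sup_right))
    have h3 : (ψ.ker ⊔ (R₀ : Subgroup N)).index = 1 := by
      obtain ⟨i, _, hi⟩ := (Nat.dvd_prime_pow hp).mp h1
      rcases Nat.eq_zero_or_pos i with h0 | h0
      · rw [hi, h0, pow_zero]
      · exfalso; apply h2; rw [hi]; exact dvd_pow_self p h0.ne'
    have h4 : ψ.ker ⊔ (R₀ : Subgroup N) = ⊤ := Subgroup.index_eq_one.mp h3
    have h5 := congrArg (Subgroup.map N.subtype) h4
    rw [Subgroup.map_sup, hker, Subgroup.subgroupOf_map_subtype, ← MonoidHom.range_eq_map,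
      Subgroup.range_subtype, inf_of_le_left hTN] at h5
    exact h5.symm
  set M : Subgroup K := Subgroup.normalizer (R : Set K) with hM
  have hMT : M ⊔ T = ⊤ := by
    rw [eq_top_iff, ← hfrat, hNTR]
    exact sup_le le_sup_left (sup_le le_sup_right (le_sup_of_le_left Subgroup.le_normalizer))
  -- `R` is nontrivial and meets `T` trivially
  have hRne : R ≠ ⊥ := by
    intro h
    apply hPne
    rw [← hNmap, hNTR, h, sup_bot_eq, eq_bot_iff]
    rintro _ ⟨g, hg, rfl⟩
    rw [Subgroup.mem_bot]
    exact (QuotientGroup.eq_one_iff g).mpr hg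
  have hTR : T ⊓ R = ⊥ :=
    (IsPGroup.disjoint_of_ne 2 p (Ne.symm hp2) T R hT2 hRp).eq_bot
  obtain ⟨g, hgR, hgo⟩ : ∃ g ∈ R, orderOf g = p := by
    obtain ⟨k, hk⟩ := IsPGroup.iff_card.mp hRp
    have hk0 : k ≠ 0 := by
      rintro rfl
      rw [pow_zero, Subgroup.card_eq_one] at hk
      exact hRne hk
    have hdvd : p ∣ Nat.card R := by rw [hk]; exact dvd_pow_self p hk0
    obtain ⟨x, hx⟩ := exists_prime_orderOf_dvd_card' p hdvd
    exact ⟨x, x.2, by rw [Subgroup.orderOf_coe]; exact hx⟩
  have hg1 : g ≠ 1 := by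
    rintro rfl
    rw [orderOf_one] at hgo
    exact hp.one_lt.ne hgo
  have hgT : g ∉ Subgroup.centralizer (T : Set K) := by
    intro h
    have : g ∈ T ⊓ R := ⟨hCT h, hgR⟩
    rw [hTR, Subgroup.mem_bot] at this
    exact hg1 this
  -- Step 7: `T` is quaternion of order 8
  have hinvT : ∀ s t : T, orderOf s = 2 → orderOf t = 2 → s = t := by
    intro s t hs ht
    apply Subtype.ext
    exact hinv _ _ (by rw [Subgroup.orderOf_coe]; exact hs) (by rw [Subgroup.orderOf_coe]; exact ht)
  have hA : ¬ IsPGroup 2 (MulAut T) := by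
    intro hA
    set α : MulAut T := MulAut.conjNormal g with hα
    have hαp : α ^ p = 1 := by
      rw [hα, ← map_pow, ← hgo, pow_orderOf_eq_one, map_one]
    have hα1 : α ≠ 1 := by
      intro h
      apply hgT
      rw [Subgroup.mem_centralizer_iff]
      intro t ht
      have h1 : α ⟨t, ht⟩ = ⟨t, ht⟩ := by rw [h]; rfl
      have h2 := congrArg Subtype.val h1
      rw [hα, MulAut.conjNormal_apply] at h2
      -- g * t * g⁻¹ = t
      calc t * g = (g * t * g⁻¹) * g := by rw [h2]
        _ = g * t := by group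
    have hαo : orderOf α = p := orderOf_eq_prime hαp hα1
    obtain ⟨k, hk⟩ := hA α
    have h1 : p ∣ 2 ^ k := by rw [← hαo]; exact orderOf_dvd_of_pow_eq_one hk
    have h2 : p ∣ 2 := hp.dvd_of_dvd_pow h1
    exact hp2 ((Nat.prime_dvd_prime_iff_eq hp Nat.prime_two).mp h2)
  have hmeta := metacyclic_of_unique_involution hT2 hinvT
  have hcardT : Nat.card T = 8 := by
    rcases Cfsg.Agent.Lib.Helper42.Meta2.main hT2 hmeta hA with ⟨⟨e⟩⟩ | ⟨n, ⟨e⟩⟩
    · rw [Nat.card_congr e.toEquiv, Nat.card_eq_fintype_card, QuaternionGroup.card]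
    · exfalso
      have hn : n = 0 := homocyclic_unique_involution n e hinvT
      have h1 : Nat.card T = 1 := by
        rw [Nat.card_congr e.toEquiv, Nat.card_prod, hn]
        simp
      rw [Subgroup.card_eq_one] at h1
      apply hgT
      rw [h1]
      rw [Subgroup.mem_centralizer_iff]
      intro t ht
      rw [Subgroup.coe_bot, Set.mem_singleton_iff] at ht
      rw [ht, one_mul, mul_one]
  -- Step 8: the index of `M` is at most 4
  obtain ⟨z, hzT, hzo⟩ : ∃ z ∈ T, orderOf z = 2 := by
    have hdvd : 2 ∣ Nat.card T := by rw [hcardT]; norm_num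
    obtain ⟨x, hx⟩ := exists_prime_orderOf_dvd_card' 2 hdvd
    exact ⟨x, x.2, by rw [Subgroup.orderOf_coe]; exact hx⟩
  have hzc : ∀ h : K, h * z * h⁻¹ = z := by
    intro h
    apply hinv _ _ _ hzo
    have := (MulAut.conj h).orderOf_eq z
    rw [MulAut.conj_apply] at this
    rw [this, hzo]
  have hzM : z ∈ M := by
    rw [hM, Subgroup.mem_normalizer_iff]
    intro h
    have h1 : z * h * z⁻¹ = h := by
      have := hzc h⁻¹
      -- h⁻¹ z h = z
      calc z * h * z⁻¹ = h * (h⁻¹ * z * h⁻¹⁻¹) * z⁻¹ := by group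
        _ = h := by rw [this]; group
    rw [h1]
  have hz1 : z ≠ 1 := by
    rintro rfl
    rw [orderOf_one] at hzo
    omega
  have hidx : M.index ≤ 4 := by
    have h2 : 2 ≤ Nat.card (T ⊓ M : Subgroup K) := by
      have : (T ⊓ M : Subgroup K) ≠ ⊥ := by
        intro h
        have : z ∈ (T ⊓ M : Subgroup K) := ⟨hzT, hzM⟩
        rw [h, Subgroup.mem_bot] at this
        exact hz1 this
      exact (Subgroup.one_lt_card_iff_ne_bot (T ⊓ M)).mpr this
    have e1 := card_inf_mul_index_of_sup_eq_top T M hMT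
    have e2 := T.card_mul_index
    have e3 := M.card_mul_index
    rw [hcardT] at e2
    have hTi : 0 < T.index := Nat.pos_of_ne_zero Subgroup.index_ne_zero_of_finite
    have e4 : Nat.card (T ⊓ M : Subgroup K) * M.index * T.index = 8 * T.index := by
      rw [e2, ← e3, ← e1]; ring
    have e5 : Nat.card (T ⊓ M : Subgroup K) * M.index = 8 := Nat.eq_of_mul_eq_mul_right hTi e4
    nlinarith
  have hidx0 : M.index ≠ 0 := Subgroup.index_ne_zero_of_finite
  -- Step 9: the normal core of `M`
  obtain ⟨f, hf⟩ := exists_perm_four_of_index_le M hidx hidx0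
  set D : Subgroup K := M.normalCore with hD
  have hDn : D.Normal := inferInstance
  have hDM : D ≤ M := Subgroup.normalCore_le M
  refine ⟨D, hDn, ⟨f, hf⟩, ?_⟩
  -- elements of `T ⊓ M` centralize `R`
  have hcent : ∀ c ∈ T, c ∈ M → c ∈ Subgroup.centralizer (R : Set K) := by
    intro c hcT hcM
    have hRT : R ≤ Subgroup.normalizer (T : Set K) := by
      rw [Subgroup.normalizer_eq_top]; exact le_top
    exact mem_centralizer_of_conj_smul_eq hRT hTR hcT (mem_normalizer_iff_conj_smul.mp hcM)
  set CT : Subgroup K := T ⊓ Subgroup.centralizer (R : Set K) with hCTdef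
  have hCTne : CT ≠ T := by
    intro h
    apply hgT
    rw [Subgroup.mem_centralizer_iff]
    intro t ht
    have h1 : t ∈ CT := by rw [h]; exact ht
    have h2 : t ∈ Subgroup.centralizer (R : Set K) := h1.2
    rw [Subgroup.mem_centralizer_iff] at h2
    exact (h2 g hgR).symm
  have hCTc : IsCyclic CT := by
    have hCT2 : IsPGroup 2 CT := hT2.to_le inf_le_left
    have hle : Nat.card CT ≤ 4 := by
      have h1 : Nat.card CT ∣ 8 := by rw [← hcardT]; exact Subgroup.card_dvd_of_le inf_le_left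
      have h2 : Nat.card CT ≠ 8 := by
        intro h
        apply hCTne
        exact Subgroup.eq_of_le_of_card_ge inf_le_left (by rw [h, hcardT])
      have h1' : Nat.card CT ∣ 2 ^ 3 := by norm_num; exact h1
      obtain ⟨i, hi3, hi⟩ := (Nat.dvd_prime_pow Nat.prime_two).mp h1'
      have hi2 : i ≤ 2 := by
        rcases Nat.lt_or_ge i 3 with h | h
        · omega
        · exfalso
          have : i = 3 := le_antisymm hi3 h
          rw [this] at hi
          exact h2 (by rw [hi]; norm_num)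
      rw [hi]
      calc 2 ^ i ≤ 2 ^ 2 := Nat.pow_le_pow_right (by norm_num) hi2
        _ = 4 := by norm_num
    by_contra hnc
    have hU : Cfsg.Agent.Lib.Helper97.UniqueOrderP 2 CT := by
      intro x y hx hy
      have : y = x := by
        apply Subtype.ext
        exact hinv _ _ (by rw [Subgroup.orderOf_coe]; exact hy)
          (by rw [Subgroup.orderOf_coe]; exact hx)
      rw [this]; exact Subgroup.mem_zpowers x
    obtain ⟨n, ⟨e'⟩⟩ := Cfsg.Agent.Lib.Helper97.quaternion_of_uniqueOrderP_two hCT2 hU hnc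
    have : NeZero (2 ^ n) := ⟨by positivity⟩
    have hc : Nat.card CT = 4 * 2 ^ n := by
      rw [Nat.card_congr e'.toEquiv, Nat.card_eq_fintype_card, QuaternionGroup.card]
    have hn : n = 0 := by
      by_contra h0
      have : 2 ≤ 2 ^ n := by
        calc 2 = 2 ^ 1 := by norm_num
          _ ≤ 2 ^ n := Nat.pow_le_pow_right (by norm_num) (Nat.one_le_iff_ne_zero.mpr h0)
      omega
    subst hn
    have h1 : IsCyclic (QuaternionGroup (2 ^ 0)) := by
      rw [pow_zero]; exact QuaternionGroup.quaternionGroup_one_isCyclic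
    exact hnc (isCyclic_of_surjective e'.symm e'.symm.surjective)
  set N₀ : Subgroup K := D ⊓ T with hN₀
  have hN₀n : N₀.Normal := inferInstance
  have hN₀CT : N₀ ≤ CT := by
    intro x hx
    exact ⟨hx.2, hcent x hx.2 (hDM hx.1)⟩
  have hN₀c : IsCyclic N₀ := Subgroup.isCyclic_of_le hN₀CT
  have hN₀2 : IsPGroup 2 N₀ := hT2.to_le inf_le_right
  -- elements of odd order of `D` are trivial
  have hodd : ∀ x ∈ D, Odd (orderOf x) → x = 1 := by
    intro x hxD hxo
    have hxC := mem_centralizer_cyclic_two_of_odd N₀ hN₀c hN₀2 x hxo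
    rw [Subgroup.mem_centralizer_iff] at hxC
    have hxT : x ∈ Subgroup.centralizer (T : Set K) := by
      rw [Subgroup.mem_centralizer_iff]
      intro t ht
      set w := t⁻¹ * x⁻¹ * t * x with hw
      have hwT : w ∈ T := by
        have h1 : x⁻¹ * t * x ∈ T := by
          have := hTn.conj_mem t ht x⁻¹
          simpa using this
        have : w = t⁻¹ * (x⁻¹ * t * x) := by rw [hw]; group
        rw [this]; exact T.mul_mem (T.inv_mem ht) h1
      have hwD : w ∈ D := by
        have h1 : t⁻¹ * x⁻¹ * t ∈ D := by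
          have := hDn.conj_mem x⁻¹ (D.inv_mem hxD) t⁻¹
          simpa using this
        exact D.mul_mem h1 hxD
      have hwx : Commute w x := hxC w ⟨hwD, hwT⟩
      have hwpow : w ^ orderOf x = 1 := pow_eq_one_of_chain t x hwx _ (pow_orderOf_eq_one x)
      have hw1 : w = 1 := by
        apply eq_one_of_odd_of_isPGroup_two T hT2 w hwT
        have hdvd : orderOf w ∣ orderOf x := orderOf_dvd_of_pow_eq_one hwpow
        exact hxo.of_dvd_nat hdvd
      have e : x * t * w = t * x := by rw [hw]; group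
      rw [← e, hw1, mul_one]
    exact eq_one_of_odd_of_isPGroup_two T hT2 x (hCT hxT) hxo
  have hD2 : IsPGroup 2 D := by
    rintro ⟨d, hd⟩
    obtain ⟨k, m', hm', hkm⟩ := Nat.exists_eq_two_pow_mul_odd (orderOf_pos d).ne'
    refine ⟨k, ?_⟩
    apply Subtype.ext
    simp only [Subgroup.coe_pow, Subgroup.coe_one]
    apply hodd _ (D.pow_mem hd _)
    have hdvd : 2 ^ k ∣ orderOf d := ⟨m', hkm⟩
    rw [orderOf_pow_of_dvd (by positivity) hdvd, hkm, Nat.mul_div_cancel_left _ (by positivity)]
    exact hm'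
  have hDT : D ≤ T := le_pCore hDn hD2
  have hDN₀ : D = N₀ := by rw [hN₀, inf_of_le_left hDT]
  rw [hDN₀]; exact hN₀c


/-- **Structure theorem.** A finite solvable group whose `p`-subgroups for odd `p` are cyclic and
which has at most one involution has a normal subgroup `G₀`, kernel of a homomorphism to
`Sym(4)`, all of whose Sylow subgroups are cyclic. -/
theorem fc_structure {G : Type u} [Group G] [Finite G] (hsol : Group.IsSolvable G)
    (hodd : ∀ p : ℕ, p.Prime → p ≠ 2 → ∀ Q : Subgroup G, IsPGroup p Q → IsCyclic Q)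
    (hinv : ∀ s t : G, orderOf s = 2 → orderOf t = 2 → s = t) :
    ∃ G₀ : Subgroup G, G₀.Normal ∧ (∃ f : G →* Equiv.Perm (Fin 4), f.ker = G₀) ∧
      ∀ (p : ℕ) [Fact p.Prime] (P : Sylow p G₀), IsCyclic P := by
  have := hsol
  have hOn : (Cfsg.pPrimeCore 2 G).Normal := pPrimeCore_normal 2
  set O : Subgroup G := Cfsg.pPrimeCore 2 G with hOdef
  have hOodd : Odd (Nat.card O) := Nat.coprime_two_right.mp (pPrimeCore_card_coprime 2)
  have hO' : Cfsg.pPrimeCore 2 (G ⧸ O) = ⊥ := pPrimeCore_quotient_eq_bot 2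
  have hinvK := unique_involution_quotient O hOodd hinv
  have hsolK : Group.IsSolvable (G ⧸ O) := inferInstance
  obtain ⟨D, hDn, ⟨f, hf⟩, hDc⟩ : ∃ D : Subgroup (G ⧸ O), D.Normal ∧
      (∃ f : (G ⧸ O) →* Equiv.Perm (Fin 4), f.ker = D) ∧ IsCyclic D := by
    by_cases hK2 : IsPGroup 2 (G ⧸ O)
    · obtain ⟨D, h1, h2, h3, -⟩ := two_group_case hK2 hinvK
      exact ⟨D, h1, h2, h3⟩
    · exact non_two_group_case hsolK hO' hinvK hK2
  set π : G →* G ⧸ O := QuotientGroup.mk' O with hπ
  refine ⟨D.comap π, hDn.comap π, ⟨f.comp π, ?_⟩, ?_⟩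
  · rw [← MonoidHom.comap_ker, hf]
  · intro p hp P
    apply sylow_cyclic_of_subgroups_cyclic (D.comap π)
    intro q hq Q hQ hQq
    by_cases hq2 : q = 2
    · subst hq2
      have hle : Q.map π ≤ D := by
        rintro _ ⟨x, hx, rfl⟩
        exact hQ hx
      have hc : IsCyclic (Q.map π) := Subgroup.isCyclic_of_le hle
      apply isCyclic_of_map_of_coprime π Q _ hc
      have hker : π.ker = O := QuotientGroup.ker_mk' O
      rw [hker]
      have : Fact (Nat.Prime 2) := ⟨Nat.prime_two⟩
      obtain ⟨k, hk⟩ := IsPGroup.iff_card.mp hQq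
      rw [hk]
      exact (Nat.coprime_two_left.mpr hOodd).pow_left k
    · exact hodd q hq hq2 Q hQq

end Cfsg.Agent.Lib.Helper01
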