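import Mathlib
import Cfsg.Agent.S0035
import Cfsg.Agent.S4253
import Cfsg.Agent.Lib.Helper14.FrobAction

set_option autoImplicit false

namespace Cfsg.Agent.Lib.Helper01

open scoped Pointwise

/-- The norm over a nontrivial subgroup acting without fixed points is trivial. -/
theorem prod_smul_subgroup_eq_one {X A : Type*} [Group X] [Fintype X] [CommGroup A]
    [MulDistribMulAction X A]
    (hfpf : ∀ x : X, x ≠ 1 → ∀ a : A, x • a = a → a = 1)
    (S : Subgroup X) [DecidablePred (· ∈ S)] (hS : S ≠ ⊥) (a : A) :
    ∏ x ∈ Finset.univ.filter (fun x => x ∈ S), x • a = 1 := by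
  classical
  obtain ⟨s, hs, hs1⟩ : ∃ s : X, s ∈ S ∧ s ≠ 1 := by
    obtain ⟨s, hs⟩ := (Subgroup.ne_bot_iff_exists_ne_one (H := S)).mp hS
    exact ⟨(s : X), s.2, fun h => hs (Subtype.ext h)⟩
  apply hfpf s hs1
  rw [Finset.smul_prod']
  apply Finset.prod_bij (fun x _ => s * x)
  · intro x hx
    simp only [Finset.mem_filter, Finset.mem_univ, true_and] at hx ⊢
    exact S.mul_mem hs hx
  · intro x _ y _ h
    exact mul_left_cancel h
  · intro y hy
    simp only [Finset.mem_filter, Finset.mem_univ, true_and] at hy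
    refine ⟨s⁻¹ * y, ?_, by simp⟩
    simp only [Finset.mem_filter, Finset.mem_univ, true_and]
    exact S.mul_mem (S.inv_mem hs) hy
  · intro x _
    rw [mul_smul]


theorem mem_conj_smul_iff_mul {G : Type*} [Group G] (H : Subgroup G) (g x : G) :
    x ∈ MulAut.conj g • H ↔ g⁻¹ * x * g ∈ H := by
  rw [Subgroup.mem_pointwise_smul_iff_inv_smul_mem]
  simp [MulAut.smul_def]

/-- A Frobenius group `X` (complement `H₁`) acting on an abelian group `A` such that every
nonidentity element is fixed-point-free forces `a ^ [X : H₁] = 1` for all `a`. -/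
theorem pow_index_eq_one_of_fpf {X A : Type*} [Group X] [Finite X] [CommGroup A]
    [MulDistribMulAction X A]
    (hfpf : ∀ x : X, x ≠ 1 → ∀ a : A, x • a = a → a = 1)
    (H₁ : Subgroup X) (hH₁ : Cfsg.IsFrobeniusComplement H₁) (a : A) : a ^ H₁.index = 1 := by
  classical
  letI : Fintype X := Fintype.ofFinite X
  letI : Fintype (X ⧸ H₁) := Fintype.ofFinite _
  obtain ⟨M, hMK, hMn, hMc⟩ := Cfsg.Agent.S0035.result H₁ hH₁
  have hMbot : M ≠ ⊥ := by
    intro h
    rw [h] at hMc
    exact hH₁.2.1 (Subgroup.isComplement'_bot_left.mp hMc)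
  have hmemK : ∀ x : X, x ∈ M ↔ x ∈ Cfsg.frobeniusKernel H₁ := by
    intro x
    rw [← hMK]; rfl
  have hfix : ∀ (x g : X), x • (g : X ⧸ H₁) = (g : X ⧸ H₁) ↔ x ∈ MulAut.conj g • H₁ := by
    intro x g
    rw [Cfsg.Agent.Lib.Helper14.smul_mk_eq_iff, mem_conj_smul_iff_mul]
  set k : X → ℕ := fun x => (Finset.univ.filter (fun c : X ⧸ H₁ => x • c = c)).card with hk
  set m : X → ℕ := fun x => if x ∈ M then 1 else 0 with hm
  have hkm : ∀ x, k x + m x = 1 + (if x = 1 then H₁.index else 0) := by
    intro x
    by_cases hx : x = 1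
    · subst hx
      have h1 : k 1 = H₁.index := by
        simp only [hk, one_smul, Finset.filter_true, Finset.card_univ]
        rw [Subgroup.index_eq_card, Nat.card_eq_fintype_card]
      have h2 : m 1 = 1 := by simp only [hm, M.one_mem, if_true]
      rw [h1, h2, if_pos rfl, add_comm]
    · rw [if_neg hx, add_zero]
      by_cases hxM : x ∈ M
      · have h2 : m x = 1 := by simp only [hm, hxM, if_true]
        have h1 : k x = 0 := by
          simp only [hk]
          rw [Finset.card_eq_zero, Finset.filter_eq_empty_iff]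
          intro c _ hc
          obtain ⟨g, rfl⟩ := QuotientGroup.mk_surjective c
          rw [hfix] at hc
          rcases (hmemK x).mp hxM with h | h
          · exact hx h
          · exact h g hc
        rw [h1, h2]
      · have h2 : m x = 0 := by simp only [hm, hxM, if_false]
        have h1 : k x = 1 := by
          have : ¬ (x = 1 ∨ ∀ g : X, x ∉ MulAut.conj g • H₁) := fun h => hxM ((hmemK x).mpr h)
          rw [not_or] at this
          obtain ⟨g, hg⟩ := not_forall.mp this.2
          rw [not_not] at hg
          simp only [hk]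
          rw [Finset.card_eq_one]
          refine ⟨(g : X ⧸ H₁), ?_⟩
          ext c
          simp only [Finset.mem_filter, Finset.mem_univ, true_and, Finset.mem_singleton]
          constructor
          · intro hc
            exact Cfsg.Agent.S4253.result H₁ hH₁ x hx c g hc ((hfix x g).mpr hg)
          · rintro rfl
            exact (hfix x g).mpr hg
        rw [h1, h2]
  have h1 : ∏ x : X, (x • a) ^ k x = 1 := by
    have e : ∏ x : X, (x • a) ^ k x = ∏ c : X ⧸ H₁,
        ∏ x ∈ Finset.univ.filter (fun x => x ∈ MulAction.stabilizer X c), x • a := by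
      simp only [Finset.prod_filter]
      rw [Finset.prod_comm]
      apply Finset.prod_congr rfl
      intro x _
      simp only [hk, MulAction.mem_stabilizer_iff]
      rw [← Finset.prod_filter, Finset.prod_const]
    rw [e]
    apply Finset.prod_eq_one
    intro c _
    apply prod_smul_subgroup_eq_one hfpf
    obtain ⟨g, rfl⟩ := QuotientGroup.mk_surjective c
    obtain ⟨h, hh⟩ := (Subgroup.ne_bot_iff_exists_ne_one (H := H₁)).mp hH₁.1
    intro hbot
    have hmem : g * (h : X) * g⁻¹ ∈ MulAction.stabilizer X (g : X ⧸ H₁) := by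
      rw [MulAction.mem_stabilizer_iff, Cfsg.Agent.Lib.Helper14.smul_mk_eq_iff]
      have : g⁻¹ * (g * (h : X) * g⁻¹) * g = h := by group
      rw [this]; exact h.2
    rw [hbot, Subgroup.mem_bot] at hmem
    apply hh
    apply Subtype.ext
    have : (h : X) = g⁻¹ * (g * (h : X) * g⁻¹) * g := by group
    rw [this, hmem]; simp
  have h2 : ∏ x : X, (x • a) ^ m x = 1 := by
    have e : ∏ x : X, (x • a) ^ m x = ∏ x ∈ Finset.univ.filter (fun x => x ∈ M), x • a := by
      rw [Finset.prod_filter]
      apply Finset.prod_congr rfl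
      intro x _
      simp only [hm]
      split_ifs <;> simp
    rw [e]
    exact prod_smul_subgroup_eq_one hfpf M hMbot a
  have h3 : ∏ x : X, x • a = 1 := by
    have htop : (⊤ : Subgroup X) ≠ ⊥ := by
      intro h
      apply hH₁.1
      exact eq_bot_iff.mpr (h ▸ le_top)
    have := prod_smul_subgroup_eq_one hfpf (⊤ : Subgroup X) htop a
    simpa using this
  have h4 : ∏ x : X, (x • a) ^ (k x + m x) = 1 := by
    simp only [pow_add, Finset.prod_mul_distrib, h1, h2, mul_one]
  have h5 : ∏ x : X, (x • a) ^ (k x + m x) = (∏ x : X, x • a) * a ^ H₁.index := by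
    simp only [hkm, pow_add, pow_one, Finset.prod_mul_distrib]
    congr 1
    rw [Finset.prod_eq_single (1 : X)]
    · simp
    · intro x _ hx
      simp [hx]
    · simp
  rw [h5, h3, one_mul] at h4
  exact h4

end Cfsg.Agent.Lib.Helper01
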