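import Mathlib
import Cfsg.Agent.Lib.Helper01.Basic
import Cfsg.Agent.Lib.Helper01.FrobPartition
import Cfsg.Agent.Lib.Helper14.FrobAction

set_option autoImplicit false

namespace Cfsg.Agent.Lib.Helper01

open scoped Pointwise

/-- In a Frobenius group with complement `H` and normal complement `N` of coprime order, there is a
nontrivial abelian subgroup of `N` normalized by `H`. -/
theorem exists_invariant_abelian_of_frobenius {G : Type*} [Group G] [Finite G] (H N : Subgroup G)
    (hH : Cfsg.IsFrobeniusComplement H) [hNn : N.Normal] (hc : Subgroup.IsComplement' N H)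
    (hcop : (Nat.card N).Coprime (Nat.card H)) :
    ∃ W : Subgroup G, W ≤ N ∧ W ≠ ⊥ ∧ (∀ a ∈ W, ∀ b ∈ W, a * b = b * a) ∧
      ∀ h ∈ H, ∀ w ∈ W, h * w * h⁻¹ ∈ W := by
  classical
  have hGc : Nat.card N * Nat.card H = Nat.card G := hc.card_mul_card
  have hNpos : 0 < Nat.card N := Nat.card_pos
  have hHpos : 0 < Nat.card H := Nat.card_pos
  have hNbot : N ≠ ⊥ := by
    intro h
    rw [h] at hc
    exact hH.2.1 (Subgroup.isComplement'_bot_left.mp hc)
  have hN1 : Nat.card N ≠ 1 := fun h => hNbot (Subgroup.card_eq_one.mp h)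
  set r := (Nat.card N).minFac with hr
  haveI : Fact r.Prime := ⟨Nat.minFac_prime hN1⟩
  have hrdvd : r ∣ Nat.card N := Nat.minFac_dvd _
  let P : Sylow r N := default
  have hPbot : (P : Subgroup N) ≠ ⊥ := P.ne_bot_of_dvd_card hrdvd
  set R : Subgroup G := (P : Subgroup N).map N.subtype with hR
  set T : Subgroup G := Subgroup.normalizer (R : Set G) with hT
  have hTN : T ⊔ N = ⊤ := Sylow.normalizer_sup_eq_top P
  have hRN : R ≤ N := Subgroup.map_subtype_le _
  have hRcard : Nat.card R = Nat.card (P : Subgroup N) :=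
    Subgroup.card_map_of_injective N.subtype_injective
  obtain ⟨n, hn⟩ := (P.2 : IsPGroup r (P : Subgroup N)).exists_card_eq
  have hR1 : Nat.card R ≠ 1 := by
    rw [hRcard]
    exact fun h => hPbot (Subgroup.card_eq_one.mp h)
  -- order of T
  have hTcard : Nat.card T = Nat.card H * Nat.card (N ⊓ T : Subgroup G) := by
    have h1 := card_sup_mul_card_inf N T
    rw [hTN, Subgroup.card_top, ← hGc] at h1
    have : Nat.card N * (Nat.card H * Nat.card (N ⊓ T : Subgroup G)) = Nat.card N * Nat.card T := by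
      rw [← h1]; ring
    exact (Nat.eq_of_mul_eq_mul_left hNpos this).symm
  -- complement in T
  haveI : (N.subgroupOf T).Normal := hNn.subgroupOf T
  have hN'card : Nat.card (N.subgroupOf T) = Nat.card (N ⊓ T : Subgroup G) :=
    card_subgroupOf_eq_card_inf N T
  have hinfpos : 0 < Nat.card (N ⊓ T : Subgroup G) := Nat.card_pos
  have hN'idx : (N.subgroupOf T).index = Nat.card H := by
    have h1 := (N.subgroupOf T).card_mul_index
    rw [hN'card, hTcard] at h1
    have : Nat.card (N ⊓ T : Subgroup G) * (N.subgroupOf T).index =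
        Nat.card (N ⊓ T : Subgroup G) * Nat.card H := by rw [h1]; ring
    exact Nat.eq_of_mul_eq_mul_left hinfpos this
  have hcop' : (Nat.card (N.subgroupOf T)).Coprime (N.subgroupOf T).index := by
    rw [hN'idx, hN'card]
    exact Nat.Coprime.coprime_dvd_left (Subgroup.card_dvd_of_le inf_le_left) hcop
  obtain ⟨L', hL'⟩ := Subgroup.exists_right_complement'_of_coprime hcop'
  have hL'card : Nat.card L' = Nat.card H := by
    have h1 := hL'.card_mul_card
    have h2 := (N.subgroupOf T).card_mul_index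
    rw [hN'idx] at h2
    have hpos : 0 < Nat.card (N.subgroupOf T) := Nat.card_pos
    exact Nat.eq_of_mul_eq_mul_left hpos (h1.trans h2.symm)
  set L : Subgroup G := L'.map T.subtype with hL
  have hLcard : Nat.card L = Nat.card H := by
    rw [← hL'card]
    exact Subgroup.card_map_of_injective T.subtype_injective
  have hLT : L ≤ T := Subgroup.map_subtype_le _
  obtain ⟨x, hx⟩ := Cfsg.Agent.Lib.Helper14.le_conj_of_card_dvd_of_malnormal H L hH.2.2
    (dvd_of_eq hLcard)
  have hLeq : L = MulAut.conj x • H := by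
    apply Subgroup.eq_of_le_of_card_ge hx
    rw [card_conj_smul, hLcard]
  -- conjugate of R normalized by H
  have hnorm : ∀ h ∈ H, x * h * x⁻¹ ∈ T := by
    intro h hh
    apply hLT
    rw [hLeq, mem_conj_smul_iff_mul]
    have : x⁻¹ * (x * h * x⁻¹) * x = h := by group
    rw [this]; exact hh
  set R' : Subgroup G := MulAut.conj x⁻¹ • R with hR'
  have hmemR' : ∀ w : G, w ∈ R' ↔ x * w * x⁻¹ ∈ R := by
    intro w
    rw [hR', mem_conj_smul_iff_mul, inv_inv]
  have hHR' : ∀ h ∈ H, ∀ w ∈ R', h * w * h⁻¹ ∈ R' := by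
    intro h hh w hw
    rw [hmemR'] at hw ⊢
    have h1 := (Subgroup.mem_normalizer_iff.mp (hnorm h hh) (x * w * x⁻¹)).mp hw
    have : x * (h * w * h⁻¹) * x⁻¹ = x * h * x⁻¹ * (x * w * x⁻¹) * (x * h * x⁻¹)⁻¹ := by group
    rw [this]; exact h1
  have hR'N : R' ≤ N := by
    intro w hw
    rw [hmemR'] at hw
    have h1 : x * w * x⁻¹ ∈ N := hRN hw
    have h2 := hNn.conj_mem _ h1 x⁻¹
    have : x⁻¹ * (x * w * x⁻¹) * x⁻¹⁻¹ = w := by group
    rw [this] at h2; exact h2
  have hR'card : Nat.card R' = r ^ n := by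
    rw [hR', card_conj_smul, hRcard, hn]
  have hR'p : IsPGroup r R' := IsPGroup.of_card hR'card
  haveI : Nontrivial R' := by
    rw [← Finite.one_lt_card_iff_nontrivial]
    have : Nat.card R' ≠ 1 := by rw [hR', card_conj_smul]; exact hR1
    have hpos : 0 < Nat.card R' := Nat.card_pos
    omega
  haveI : Nontrivial (Subgroup.center R') := hR'p.center_nontrivial
  obtain ⟨z, hz⟩ := exists_ne (1 : Subgroup.center R')
  refine ⟨R' ⊓ Subgroup.centralizer (R' : Set G), inf_le_left.trans hR'N, ?_, ?_, ?_⟩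
  · intro hbot
    have hzmem : ((z : R') : G) ∈ R' ⊓ Subgroup.centralizer (R' : Set G) := by
      refine Subgroup.mem_inf.mpr ⟨(z : R').2, ?_⟩
      rw [Subgroup.mem_centralizer_iff]
      intro y hy
      have := Subgroup.mem_center_iff.mp z.2 ⟨y, hy⟩
      exact congrArg Subtype.val this
    rw [hbot, Subgroup.mem_bot] at hzmem
    apply hz
    apply Subtype.ext
    apply Subtype.ext
    exact hzmem
  · intro a ha b hb
    have ha' := (Subgroup.mem_inf.mp ha).1
    have hb' := (Subgroup.mem_inf.mp hb).2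
    rw [Subgroup.mem_centralizer_iff] at hb'
    exact hb' a ha'
  · intro h hh w hw
    obtain ⟨hw1, hw2⟩ := Subgroup.mem_inf.mp hw
    refine Subgroup.mem_inf.mpr ⟨hHR' h hh w hw1, ?_⟩
    rw [Subgroup.mem_centralizer_iff] at hw2 ⊢
    intro y hy
    have hy' : h⁻¹ * y * h⁻¹⁻¹ ∈ R' := hHR' h⁻¹ (H.inv_mem hh) y hy
    have h1 := hw2 _ hy'
    have e1 : y * (h * w * h⁻¹) = h * (h⁻¹ * y * h⁻¹⁻¹ * w) * h⁻¹ := by group
    have e2 : h * w * h⁻¹ * y = h * (w * (h⁻¹ * y * h⁻¹⁻¹)) * h⁻¹ := by group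
    rw [e1, e2, h1]

end Cfsg.Agent.Lib.Helper01
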