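import Mathlib
import Cfsg.Agent.S0035
import Cfsg.Agent.S0042
import Cfsg.Agent.Lib.Helper02.FrobComplement
import Cfsg.Agent.Lib.Helper01.FrobPartition

set_option autoImplicit false

namespace Cfsg.Agent.Lib.Helper01

open scoped Pointwise

/-- The standard facts about a finite Frobenius group with complement `C` and kernel `N`. -/
structure FrobPkg {X : Type*} [Group X] (C N : Subgroup X) : Prop where
  normal : N.Normal
  compl : Subgroup.IsComplement' N C
  nilp : Group.IsNilpotent N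
  fpf : ∀ c ∈ C, c ≠ 1 → N ⊓ Subgroup.centralizer ({c} : Set X) = ⊥
  N_ne : N ≠ ⊥
  C_ne : C ≠ ⊥
  cent_le : ∀ n ∈ N, n ≠ 1 → ∀ x : X, x * n = n * x → x ∈ N
  mem_or : ∀ x : X, x ∈ N ∨ ∃ g : X, g⁻¹ * x * g ∈ C
  cop : (Nat.card C).Coprime (Nat.card N)
  disj : ∀ x : X, x ∈ N → x ∈ C → x = 1
  decomp : ∀ x : X, ∃ n ∈ N, ∃ c ∈ C, x = n * c

theorem mem_frobeniusKernel_iff {X : Type*} [Group X] (C N : Subgroup X)
    (hN : (N : Set X) = Cfsg.frobeniusKernel C) (x : X) :
    x ∈ N ↔ (x = 1 ∨ ∀ g : X, g⁻¹ * x * g ∉ C) := by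
  have : x ∈ (N : Set X) ↔ x ∈ Cfsg.frobeniusKernel C := by rw [hN]
  rw [SetLike.mem_coe] at this
  rw [this]
  unfold Cfsg.frobeniusKernel
  simp only [Set.mem_ofPred_eq, mem_conj_smul_iff_mul]

theorem frobPkg_of {X : Type*} [Group X] [Finite X] (C N : Subgroup X)
    (hC : Cfsg.IsFrobeniusComplement C) (hN : (N : Set X) = Cfsg.frobeniusKernel C) :
    FrobPkg C N := by
  obtain ⟨N', hN', hN'n, hN'c⟩ := Cfsg.Agent.S0035.result C hC
  obtain ⟨N'', hN'', -, hN''nil⟩ := Cfsg.Agent.S0042.result C hC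
  have e1 : N' = N := SetLike.coe_injective (hN'.trans hN.symm)
  have e2 : N'' = N := SetLike.coe_injective (hN''.trans hN.symm)
  subst e1
  subst e2
  have hmem := mem_frobeniusKernel_iff C N'' hN
  obtain ⟨hCbot, hCtop, hmal⟩ := hC
  have hdisj : ∀ x : X, x ∈ N'' → x ∈ C → x = 1 := by
    intro x hxN hxC
    have := hN'c.disjoint
    rw [Subgroup.disjoint_def] at this
    exact this hxN hxC
  have hfpf : ∀ c ∈ C, c ≠ 1 → N'' ⊓ Subgroup.centralizer ({c} : Set X) = ⊥ := by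
    intro c hc hc1
    rw [eq_bot_iff]
    intro n hn
    rw [Subgroup.mem_bot]
    have hnN : n ∈ N'' := hn.1
    have hnc : n ∈ Subgroup.centralizer ({c} : Set X) := hn.2
    rw [Subgroup.mem_centralizer_iff] at hnc
    have hcomm : c * n = n * c := hnc c rfl
    by_contra hn1
    have hnC : n ∉ C := fun h => hn1 (hdisj n hnN h)
    have h1 := hmal n hnC
    have h2 : c ∈ C ⊓ (MulAut.conj n • C) := by
      refine ⟨hc, ?_⟩
      show c ∈ MulAut.conj n • C
      rw [mem_conj_smul_iff_mul]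
      have : n⁻¹ * c * n = c := by
        rw [mul_assoc, hcomm, ← mul_assoc, inv_mul_cancel, one_mul]
      rw [this]; exact hc
    rw [h1, Subgroup.mem_bot] at h2
    exact hc1 h2
  have hmemor : ∀ x : X, x ∈ N'' ∨ ∃ g : X, g⁻¹ * x * g ∈ C := by
    intro x
    by_cases hx : x ∈ N''
    · exact Or.inl hx
    · right
      rw [hmem] at hx
      push Not at hx
      exact hx.2
  have hdecomp : ∀ x : X, ∃ n ∈ N'', ∃ c ∈ C, x = n * c := by
    intro x
    have h1 : x ∈ N'' ⊔ C := by rw [hN'c.sup_eq_top]; exact Subgroup.mem_top x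
    have h2 : x ∈ ((N'' ⊔ C : Subgroup X) : Set X) := h1
    rw [Subgroup.normal_mul] at h2
    obtain ⟨n, hn, c, hc, h⟩ := Set.mem_mul.mp h2
    exact ⟨n, hn, c, hc, h.symm⟩
  refine ⟨hN'n, hN'c, hN''nil, hfpf, ?_, hCbot, ?_, hmemor, ?_, hdisj, hdecomp⟩
  · intro hbot
    apply hCtop
    rw [eq_top_iff]
    intro x _
    obtain ⟨n, hn, c, hc, h⟩ := hdecomp x
    rw [hbot, Subgroup.mem_bot] at hn
    rw [h, hn, one_mul]; exact hc
  · intro n hn hn1 x hx
    rcases hmemor x with h | ⟨g, hg⟩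
    · exact h
    · by_cases hg1 : g⁻¹ * x * g = 1
      · have : x = 1 := by
          have h2 : x = g * (g⁻¹ * x * g) * g⁻¹ := by group
          rw [h2, hg1]; group
        rw [this]; exact N''.one_mem
      · exfalso
        have h1 := hfpf _ hg hg1
        have h2 : g⁻¹ * n * g ∈ N'' ⊓ Subgroup.centralizer ({g⁻¹ * x * g} : Set X) := by
          refine ⟨?_, ?_⟩
          · have := hN'n.conj_mem n hn g⁻¹
            simpa using this
          · show g⁻¹ * n * g ∈ Subgroup.centralizer ({g⁻¹ * x * g} : Set X)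
            rw [Subgroup.mem_centralizer_iff]
            intro y hy
            rw [Set.mem_singleton_iff] at hy
            subst hy
            calc g⁻¹ * x * g * (g⁻¹ * n * g) = g⁻¹ * (x * n) * g := by group
              _ = g⁻¹ * (n * x) * g := by rw [hx]
              _ = g⁻¹ * n * g * (g⁻¹ * x * g) := by group
        rw [h1, Subgroup.mem_bot] at h2
        apply hn1
        have h3 : n = g * (g⁻¹ * n * g) * g⁻¹ := by group
        rw [h3, h2]; group
  · have := hN'n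
    exact Lib.Helper02.coprime_card_of_fpf N'' C hfpf C le_rfl

/-- In a Frobenius group with kernel `N` and complement `C`, for a nontrivial subgroup `D ≤ C` the
group `N ⊔ D` is a Frobenius group with complement `D`, of index `|N|`. -/
theorem frob_sub {X : Type*} [Group X] [Finite X] (C N : Subgroup X)
    (hC : Cfsg.IsFrobeniusComplement C) (pkg : FrobPkg C N) (D : Subgroup X) (hDC : D ≤ C)
    (hD : D ≠ ⊥) :
    Cfsg.IsFrobeniusComplement (D.subgroupOf (N ⊔ D)) ∧
      (D.subgroupOf (N ⊔ D)).index = Nat.card N := by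
  have hNn := pkg.normal
  have hdec : ∀ y ∈ N ⊔ D, ∃ n ∈ N, ∃ d ∈ D, y = n * d := by
    intro y hy
    have h2 : y ∈ ((N ⊔ D : Subgroup X) : Set X) := hy
    rw [Subgroup.normal_mul] at h2
    obtain ⟨n, hn, d, hd, h⟩ := Set.mem_mul.mp h2
    exact ⟨n, hn, d, hd, h.symm⟩
  have hTmem : ∀ y : ↥(N ⊔ D), y ∈ D.subgroupOf (N ⊔ D) ↔ (y : X) ∈ D := fun y =>
    Subgroup.mem_subgroupOf
  refine ⟨⟨?_, ?_, ?_⟩, ?_⟩
  · obtain ⟨d, hd⟩ := (Subgroup.ne_bot_iff_exists_ne_one (H := D)).mp hD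
    intro hbot
    have h1 : (⟨d.1, Subgroup.mem_sup_right d.2⟩ : ↥(N ⊔ D)) ∈ D.subgroupOf (N ⊔ D) := by
      rw [hTmem]; exact d.2
    rw [hbot, Subgroup.mem_bot] at h1
    exact hd (Subtype.ext (congrArg (fun y : ↥(N ⊔ D) => (y : X)) h1))
  · obtain ⟨n, hn⟩ := (Subgroup.ne_bot_iff_exists_ne_one (H := N)).mp pkg.N_ne
    intro htop
    have h1 : (⟨n.1, Subgroup.mem_sup_left n.2⟩ : ↥(N ⊔ D)) ∈ D.subgroupOf (N ⊔ D) := by
      rw [htop]; exact Subgroup.mem_top _
    rw [hTmem] at h1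
    exact hn (Subtype.ext (pkg.disj n.1 n.2 (hDC h1)))
  · intro g hg
    rw [hTmem] at hg
    have hgC : (g : X) ∉ C := by
      intro hgC
      obtain ⟨n, hn, d, hd, h⟩ := hdec g.1 g.2
      have hnC : n ∈ C := by
        have : n = (g : X) * d⁻¹ := by rw [h]; group
        rw [this]; exact C.mul_mem hgC (C.inv_mem (hDC hd))
      have hn1 := pkg.disj n hn hnC
      apply hg
      rw [h, hn1, one_mul]; exact hd
    have hmal := hC.2.2 g.1 hgC
    rw [eq_bot_iff]
    intro t ht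
    rw [Subgroup.mem_bot]
    have ht1 : t ∈ D.subgroupOf (N ⊔ D) := ht.1
    have ht2 : t ∈ MulAut.conj g • D.subgroupOf (N ⊔ D) := ht.2
    rw [mem_conj_smul_iff_mul, hTmem] at ht2
    rw [hTmem] at ht1
    have h3 : (t : X) ∈ C ⊓ (MulAut.conj (g : X) • C) := by
      refine ⟨hDC ht1, ?_⟩
      show (t : X) ∈ MulAut.conj (g : X) • C
      rw [mem_conj_smul_iff_mul]
      exact hDC ht2
    rw [hmal, Subgroup.mem_bot] at h3
    exact Subtype.ext h3
  · have hcompl : Subgroup.IsComplement' (N.subgroupOf (N ⊔ D)) (D.subgroupOf (N ⊔ D)) := by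
      apply Subgroup.isComplement'_of_disjoint_and_mul_eq_univ
      · rw [Subgroup.disjoint_def]
        intro x hx1 hx2
        rw [Subgroup.mem_subgroupOf] at hx1 hx2
        exact Subtype.ext (pkg.disj x.1 hx1 (hDC hx2))
      · rw [Set.eq_univ_iff_forall]
        intro y
        obtain ⟨n, hn, d, hd, h⟩ := hdec y.1 y.2
        rw [Set.mem_mul]
        refine ⟨⟨n, Subgroup.mem_sup_left hn⟩, ?_, ⟨d, Subgroup.mem_sup_right hd⟩, ?_, ?_⟩
        · show _ ∈ N.subgroupOf (N ⊔ D)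
          rw [Subgroup.mem_subgroupOf]; exact hn
        · show _ ∈ D.subgroupOf (N ⊔ D)
          rw [Subgroup.mem_subgroupOf]; exact hd
        · exact Subtype.ext h.symm
    rw [hcompl.index_eq_card]
    exact Nat.card_congr (Subgroup.subgroupOfEquivOfLe (le_sup_left : N ≤ N ⊔ D)).toEquiv

end Cfsg.Agent.Lib.Helper01
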