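import Mathlib
import Cfsg.Agent.Lib.Helper83.GSDefs
import Cfsg.Agent.Lib.Helper50.GSB2
import Cfsg.Agent.Lib.Helper96.GSK2
import Cfsg.Agent.Lib.Helper29.GSK3
import Cfsg.Agent.Lib.Helper85.GSK4

/-!
Pack K-GS (statement S4840), leaf KILL `q8_kill`: `p = 3`, `R` normal and isomorphic to the quaternion
group of order 8: `|Γ| ≠ 24 |C_Γ(R)|`.  Glue of the leaves B2 (Helper50), K2 (Helper96), K3 (Helper29),
K4 (Helper85) and an arithmetic lemma.
-/

set_option autoImplicit false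

namespace Cfsg.Agent.Lib.Helper01.GS

open QuaternionGroup

universe u

variable {Γ V : Type u} [Group Γ] [Finite Γ] [CommGroup V] [Finite V]

/-- facts about `QuaternionGroup 2`. -/
theorem q8_central (q : QuaternionGroup 2) : q * (xa 0 * xa 0) = (xa 0 * xa 0) * q := by
  revert q
  decide

theorem q8_sq_ne : (xa 0 * xa 0 : QuaternionGroup 2) ≠ 1 := by decide

theorem q8_sq_sq : (xa 0 * xa 0 : QuaternionGroup 2) * (xa 0 * xa 0) = 1 := by decide

theorem q8_sq' : (xa 1 * xa 1 : QuaternionGroup 2) = xa 0 * xa 0 := by decide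

theorem q8_anti : (xa 0 * xa 1 : QuaternionGroup 2) = (xa 0 * xa 0) * (xa 1 * xa 0) := by decide

/-- the arithmetic end of the argument. -/
theorem kill_arith (q c a m b : ℕ) (hc : 1 ≤ c) (hq : q = 3 ^ c)
    (h : (q * q - 1) * 3 ^ a = 24 * (m * 3 ^ b)) (hm : m ≤ q - 1) (h2 : 2 ∣ m * 3 ^ b) : False := by
  have hq3 : 3 ≤ q := by
    rw [hq]
    calc 3 = 3 ^ 1 := by norm_num
      _ ≤ 3 ^ c := Nat.pow_le_pow_right (by norm_num) hc
  have h3q : 3 ∣ q := by
    rw [hq]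
    exact dvd_pow_self 3 (by omega)
  have hm0 : m ≠ 0 := by
    rintro rfl
    simp at h
    have : 9 ≤ q * q := by nlinarith
    omega
  -- `q * q - 1` is prime to 3
  have hcop : Nat.Coprime (q * q - 1) 3 := by
    rw [Nat.coprime_comm, Nat.Prime.coprime_iff_not_dvd Nat.prime_three]
    intro hd
    have h1 : 3 ∣ q * q := Dvd.dvd.mul_right h3q q
    have h9 : 9 ≤ q * q := by nlinarith
    have : 3 ∣ 1 := by
      have := (Nat.dvd_sub h1 hd)
      rwa [Nat.sub_sub_self (by omega)] at this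
    omega
  have hdvd : q * q - 1 ∣ 8 * m := by
    have h1 : q * q - 1 ∣ 3 ^ (b + 1) * (8 * m) := by
      refine ⟨3 ^ a, ?_⟩
      rw [h, pow_succ]
      ring
    exact (Nat.Coprime.pow_right (b + 1) hcop).dvd_of_dvd_mul_left h1
  have hle : q * q - 1 ≤ 8 * m := Nat.le_of_dvd (by omega) hdvd
  have hq7 : q ≤ 7 := by
    by_contra hlt
    push Not at hlt
    have h8 : 8 ≤ q := hlt
    have : 8 * q ≤ q * q := Nat.mul_le_mul_right q h8
    omega
  have hc1 : c = 1 := by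
    by_contra hne
    have hc2 : 2 ≤ c := by omega
    have : 3 ^ 2 ≤ 3 ^ c := Nat.pow_le_pow_right (by norm_num) hc2
    rw [← hq] at this
    omega
  subst hc1
  have hq' : q = 3 := by rw [hq]; norm_num
  subst hq'
  -- now `8 * 3 ^ a = 24 * (m * 3 ^ b)`
  have hm2 : m ≤ 2 := by omega
  have h' : 3 ^ a = m * 3 ^ (b + 1) := by
    have h8 : 8 * 3 ^ a = 8 * (m * 3 ^ (b + 1)) := by
      have e8 : (3 * 3 - 1 : ℕ) = 8 := by norm_num
      rw [e8] at h
      rw [h, pow_succ]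
      ring
    exact Nat.eq_of_mul_eq_mul_left (by norm_num : 0 < 8) h8
  have hmd : m ∣ 3 ^ a := ⟨3 ^ (b + 1), h'⟩
  obtain ⟨t, -, ht⟩ := (Nat.dvd_prime_pow Nat.prime_three).1 hmd
  have hm1 : m = 1 := by
    rcases Nat.eq_zero_or_pos t with rfl | htpos
    · simpa using ht
    · have : 3 ^ 1 ≤ 3 ^ t := Nat.pow_le_pow_right (by norm_num) htpos
      omega
  subst hm1
  rw [one_mul] at h2
  have := Nat.Prime.dvd_of_dvd_pow Nat.prime_two h2
  omega


/-- KILL. -/
theorem q8_kill [Nontrivial V] (hV : IsPGroup 3 V) (hV3 : ∀ v : V, v ^ 3 = 1)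
    (ρ : Γ →* MulAut V)
    (htrans : ∀ v w : V, v ≠ 1 → w ≠ 1 → ∃ g : Γ, ρ g v = w)
    (hstab : ∀ (g : Γ) (v : V), v ≠ 1 → ρ g v = v → ∃ k : ℕ, g ^ (3 ^ k) = 1)
    (R : Subgroup Γ) [R.Normal] (e : R ≃* QuaternionGroup 2) :
    Nat.card Γ ≠ 24 * Nat.card (Subgroup.centralizer (R : Set Γ)) := by
  intro hcard
  have h3 : Fact (Nat.Prime 3) := ⟨Nat.prime_three⟩
  have h2 : Fact (Nat.Prime 2) := ⟨Nat.prime_two⟩
  set x0 : R := e.symm (xa 0) with hx0
  set x1 : R := e.symm (xa 1) with hx1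
  set z : R := x0 * x0 with hz
  have hez : e z = xa 0 * xa 0 := by rw [hz, map_mul, hx0, e.apply_symm_apply]
  have hzR1 : z ≠ 1 := by
    intro h
    have := congrArg e h
    rw [hez, map_one] at this
    exact q8_sq_ne this
  have hz1 : (z : Γ) ≠ 1 := fun h => hzR1 (Subtype.ext h)
  have hzz : (z : Γ) * (z : Γ) = 1 := by
    have h1 : z * z = 1 := by
      apply e.injective
      rw [map_mul, hez, map_one]
      exact q8_sq_sq
    have := congrArg Subtype.val h1
    simpa using this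
  have hinv : ∀ v : V, ρ (z : Γ) v = v⁻¹ :=
    fun v => Cfsg.Agent.Lib.Helper96.GS.involution_inverts 3 (by norm_num) ρ hstab (z : Γ) hzz hz1 v
  set i : MulAut V := ρ (x0 : Γ) with hi'
  set j : MulAut V := ρ (x1 : Γ) with hj'
  have hi : ∀ v, i (i v) = v⁻¹ := by
    intro v
    rw [← hinv v, hz, Subgroup.coe_mul, map_mul, MulAut.mul_apply]
  have hx1sq : x1 * x1 = z := by
    apply e.injective
    rw [map_mul, hx1, e.apply_symm_apply, hez]
    exact q8_sq'
  have hj : ∀ v, j (j v) = v⁻¹ := by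
    intro v
    rw [← hinv v, ← hx1sq, Subgroup.coe_mul, map_mul, MulAut.mul_apply]
  have hanti : x0 * x1 = z * (x1 * x0) := by
    apply e.injective
    rw [e.map_mul x0 x1, e.map_mul z (x1 * x0), e.map_mul x1 x0, hez, hx0, hx1,
      e.apply_symm_apply, e.apply_symm_apply]
    exact q8_anti
  have hij : ∀ v, i (j v) = (j (i v))⁻¹ := by
    intro v
    have e1 : ((x0 * x1 : R) : Γ) = (x0 : Γ) * (x1 : Γ) := rfl
    have e2 : ((z * (x1 * x0) : R) : Γ) = (z : Γ) * ((x1 : Γ) * (x0 : Γ)) := rfl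
    have e3 : (x0 : Γ) * (x1 : Γ) = (z : Γ) * ((x1 : Γ) * (x0 : Γ)) := by
      rw [← e1, ← e2, hanti]
    calc i (j v) = ρ ((x0 : Γ) * (x1 : Γ)) v := by rw [map_mul, MulAut.mul_apply]
      _ = ρ ((z : Γ) * ((x1 : Γ) * (x0 : Γ))) v := by rw [e3]
      _ = (j (i v))⁻¹ := by
        rw [map_mul, map_mul, MulAut.mul_apply, MulAut.mul_apply, hinv]
  -- the eigenspace `U`
  set s : V →* V := (MulEquiv.toMonoidHom i) * (MulEquiv.toMonoidHom j) with hs
  set U : Subgroup V := s.eqLocus (MonoidHom.id V) with hUdef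
  have hU : ∀ v : V, v ∈ U ↔ i v * j v = v := fun v => Iff.rfl
  have hVU : Nat.card V = Nat.card U * Nat.card U :=
    Cfsg.Agent.Lib.Helper29.GS.card_eq_sq_of_quaternion_action hV3 i j hi hj hij U hU
  have hU1 : U ≠ ⊥ := by
    intro h
    have h1 : Nat.card U = 1 := by rw [h]; exact Subgroup.card_bot
    rw [h1] at hVU
    have := Finite.one_lt_card (α := V)
    omega
  -- the centralizer preserves `U`
  set C : Subgroup Γ := Subgroup.centralizer (R : Set Γ) with hC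
  have hcomm : ∀ c ∈ C, ∀ x : R, ∀ v : V, ρ (x : Γ) (ρ c v) = ρ c (ρ (x : Γ) v) := by
    intro c hc x v
    have h1 : (x : Γ) * c = c * (x : Γ) := (Subgroup.mem_centralizer_iff.1 hc) (x : Γ) x.2
    rw [← MulAut.mul_apply, ← map_mul, h1, map_mul, MulAut.mul_apply]
  have hCU : ∀ c ∈ C, ∀ u ∈ U, ρ c u ∈ U := by
    intro c hc u hu
    rw [hU] at hu ⊢
    rw [hi', hj', hcomm c hc x0 u, hcomm c hc x1 u, ← map_mul]
    exact congrArg (ρ c) hu
  obtain ⟨m, b, hCcard, hm⟩ := Cfsg.Agent.Lib.Helper85.GS.card_le_of_preserves 3 ρ hstab C U hU1 hCU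
  obtain ⟨a, ha⟩ := Cfsg.Agent.Lib.Helper50.GS.card_eq 3 ρ htrans hstab
  obtain ⟨c, hc⟩ := IsPGroup.iff_card.1 (hV.to_subgroup U)
  have hc1 : 1 ≤ c := by
    rcases Nat.eq_zero_or_pos c with rfl | h
    · exfalso
      apply hU1
      rw [pow_zero] at hc
      exact Subgroup.card_eq_one.1 hc
    · exact h
  -- `z ∈ C`
  have hzC : (z : Γ) ∈ C := by
    rw [hC, Subgroup.mem_centralizer_iff]
    intro r hr
    have h1 : (⟨r, hr⟩ : R) * z = z * ⟨r, hr⟩ := by
      apply e.injective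
      rw [e.map_mul ⟨r, hr⟩ z, e.map_mul z ⟨r, hr⟩, hez]
      exact q8_central _
    have := congrArg Subtype.val h1
    simpa using this
  have hzo : orderOf (z : Γ) = 2 := orderOf_eq_prime (by rw [pow_two]; exact hzz) hz1
  have h2C : 2 ∣ Nat.card C := by
    have h1 : orderOf (⟨(z : Γ), hzC⟩ : C) = 2 := by
      rw [← hzo]
      exact Subgroup.orderOf_mk _ hzC
    rw [← h1]
    exact orderOf_dvd_natCard _
  apply kill_arith (Nat.card U) c a m b hc1 hc
  · rw [← hVU, ← ha, hcard, hCcard]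
  · exact hm
  · rw [← hCcard]
    exact h2C

end Cfsg.Agent.Lib.Helper01.GS
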