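import Mathlib
import Cfsg.Prelude.Def_Solvable

/-!
Pack K-GAG (statement S4839), leaf G07c `frattini_involution`.

`p` odd, `N` a normal `p`-subgroup with `C_G(N) ≤ N`, every involution inverts `N`.  Then for an
involution `t`: `C_G(t) ∩ N = 1` and `G = N C_G(t)`.  For `g ∈ G` the element
`m = g t g⁻¹ t⁻¹` centralises `N`, so lies in `N`; it has odd order `o`, and `n = m ^ ((o+1)/2)`
satisfies `n t n⁻¹ = n n t = m t = g t g⁻¹`.
-/

set_option autoImplicit false

namespace Cfsg.Agent.Lib.Helper01.Gag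

variable {G : Type*} [Group G] [Finite G]

/-- G07c. -/
theorem frattini_involution {p : ℕ} [Fact p.Prime] (hp2 : p ≠ 2) (N : Subgroup G) [N.Normal]
    (hNp : IsPGroup p N) (hcent : Subgroup.centralizer (N : Set G) ≤ N)
    (t : G) (ht : t * t = 1) (ht1 : t ≠ 1)
    (hall : ∀ s : G, s * s = 1 → s ≠ 1 → ∀ n ∈ N, s * n * s⁻¹ = n⁻¹) :
    Subgroup.centralizer ({t} : Set G) ⊓ N = ⊥ ∧
      ∀ g : G, ∃ n ∈ N, ∃ l ∈ Subgroup.centralizer ({t} : Set G), g = n * l := by
  have hp : p.Prime := Fact.out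
  have hpodd : Odd p := hp.odd_of_ne_two hp2
  -- elements of `N` have odd order
  have hoddN : ∀ n ∈ N, Odd (orderOf n) := by
    intro n hn
    obtain ⟨k, hk⟩ := hNp ⟨n, hn⟩
    have hk' : n ^ p ^ k = 1 := by
      have := congrArg Subtype.val hk
      simpa using this
    obtain ⟨j, -, hj⟩ := (Nat.dvd_prime_pow hp).1 (orderOf_dvd_of_pow_eq_one hk')
    rw [hj]
    exact hpodd.pow
  have htinv : t⁻¹ = t := inv_eq_of_mul_eq_one_right ht
  refine ⟨?_, ?_⟩
  · rw [Subgroup.eq_bot_iff_forall]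
    intro x hx
    rw [Subgroup.mem_inf] at hx
    obtain ⟨hxc, hxN⟩ := hx
    rw [Subgroup.mem_centralizer_iff] at hxc
    have hcomm : t * x = x * t := hxc t (Set.mem_singleton t)
    have h1 := hall t ht ht1 x hxN
    have h2 : x = x⁻¹ := by
      rw [← h1, hcomm, mul_assoc, mul_inv_cancel, mul_one]
    have h3 : x ^ 2 = 1 := by
      rw [pow_two]
      nth_rewrite 1 [h2]
      exact inv_mul_cancel x
    have hd : orderOf x ∣ 2 := orderOf_dvd_of_pow_eq_one h3
    have ho := hoddN x hxN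
    rcases (Nat.dvd_prime Nat.prime_two).1 hd with h | h
    · exact orderOf_eq_one_iff.1 h
    · rw [h] at ho
      exact absurd ho (by decide)
  · intro g
    set t' : G := g * t * g⁻¹ with ht'
    have ht'2 : t' * t' = 1 := by
      rw [ht']
      calc g * t * g⁻¹ * (g * t * g⁻¹) = g * (t * t) * g⁻¹ := by group
        _ = 1 := by rw [ht]; group
    have ht'1 : t' ≠ 1 := by
      intro h
      apply ht1
      have : t = g⁻¹ * t' * g := by rw [ht']; group
      rw [this, h]
      group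
    set m : G := t' * t⁻¹ with hm
    have hmcent : m ∈ Subgroup.centralizer (N : Set G) := by
      rw [Subgroup.mem_centralizer_iff]
      intro n hn
      have hn' : n ∈ N := hn
      have e1 := hall t ht ht1 n⁻¹ (inv_mem hn')
      rw [inv_inv] at e1
      have e2 := hall t' ht'2 ht'1 n⁻¹ (inv_mem hn')
      rw [inv_inv] at e2
      -- e1 : t * n⁻¹ * t⁻¹ = n ; e2 : t' * n⁻¹ * t'⁻¹ = n
      have e4 : t' * n⁻¹ = n * t' := by
        calc t' * n⁻¹ = t' * n⁻¹ * t'⁻¹ * t' := by group
          _ = n * t' := by rw [e2]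
      calc n * m = n * t' * t⁻¹ := by rw [hm]; group
        _ = t' * n⁻¹ * t⁻¹ := by rw [e4]
        _ = t' * t⁻¹ * (t * n⁻¹ * t⁻¹) := by group
        _ = m * n := by rw [e1, hm]
    have hmN : m ∈ N := hcent hmcent
    obtain ⟨j, hj⟩ := hoddN m hmN
    set n : G := m ^ (j + 1) with hn
    have hnN : n ∈ N := pow_mem hmN _
    have hnn : n * n = m := by
      rw [hn, ← pow_add, show j + 1 + (j + 1) = orderOf m + 1 by omega, pow_succ,
        pow_orderOf_eq_one, one_mul]
    have e5 : t * n⁻¹ * t⁻¹ = n := by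
      have := hall t ht ht1 n⁻¹ (inv_mem hnN)
      rwa [inv_inv] at this
    have hconj : n * t * n⁻¹ = t' := by
      calc n * t * n⁻¹ = n * (t * n⁻¹ * t⁻¹) * t := by group
        _ = n * n * t := by rw [e5]
        _ = m * t := by rw [hnn]
        _ = t' := by rw [hm]; group
    refine ⟨n, hnN, n⁻¹ * g, ?_, by group⟩
    rw [Subgroup.mem_centralizer_iff]
    intro y hy
    rw [Set.mem_singleton_iff] at hy
    subst hy
    -- y * (n⁻¹ g) = (n⁻¹ g) * y
    have : n⁻¹ * g * y = y * (n⁻¹ * g) := by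
      have h1 : g * y = t' * g := by rw [ht']; group
      calc n⁻¹ * g * y = n⁻¹ * (g * y) := by group
        _ = n⁻¹ * (t' * g) := by rw [h1]
        _ = n⁻¹ * (n * y * n⁻¹ * g) := by rw [← hconj]
        _ = y * (n⁻¹ * g) := by group
    exact this.symm

end Cfsg.Agent.Lib.Helper01.Gag
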