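import Cfsg.Agent.Lib.Helper01.PPrimeCore
import Cfsg.Agent.Lib.Helper01.PCore
import Cfsg.Agent.Lib.Helper32.PLengthOne

/-!
# Gaschütz–Yen, part A

`Ω₁(Z(T))` as an honest subgroup, characteristic-subgroup bookkeeping, and the lemma that in a group of
`p`-length one whose automorphism group permutes the subgroups of order `p` transitively every Sylow
`p`-subgroup centralizes every element of order `p`.
-/

set_option autoImplicit false

universe u

namespace Cfsg.Agent.Lib.Helper01.GY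

open Cfsg

variable {G : Type*} [Group G]

/-- `Ω₁(Z(T))` as a subgroup of `G`. -/
def omegaZ (p : ℕ) (T : Subgroup G) : Subgroup G where
  carrier := {x | x ∈ T ∧ (∀ t ∈ T, t * x = x * t) ∧ x ^ p = 1}
  one_mem' := ⟨T.one_mem, fun t _ => by simp, one_pow p⟩
  mul_mem' := by
    rintro x y ⟨hx, hxc, hxp⟩ ⟨hy, hyc, hyp⟩
    refine ⟨T.mul_mem hx hy, fun t ht => ?_, ?_⟩
    · rw [← mul_assoc, hxc t ht, mul_assoc, hyc t ht, mul_assoc]
    · have hc : Commute x y := hyc x hx
      rw [hc.mul_pow, hxp, hyp, one_mul]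
  inv_mem' := by
    rintro x ⟨hx, hxc, hxp⟩
    refine ⟨T.inv_mem hx, fun t ht => ?_, by rw [inv_pow, hxp, inv_one]⟩
    have h := hxc t ht
    calc t * x⁻¹ = x⁻¹ * (x * t) * x⁻¹ := by group
      _ = x⁻¹ * (t * x) * x⁻¹ := by rw [h]
      _ = x⁻¹ * t := by group

theorem mem_omegaZ {p : ℕ} {T : Subgroup G} {x : G} :
    x ∈ omegaZ p T ↔ x ∈ T ∧ (∀ t ∈ T, t * x = x * t) ∧ x ^ p = 1 := Iff.rfl

theorem omegaZ_le (p : ℕ) (T : Subgroup G) : omegaZ p T ≤ T := fun _ hx => hx.1

/-- an automorphism preserving `T` preserves `Ω₁(Z(T))` -/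
theorem omegaZ_map_aut (p : ℕ) (T : Subgroup G) (a : MulAut G) (hT : ∀ x, x ∈ T ↔ a x ∈ T)
    {x : G} (hx : x ∈ omegaZ p T) : a x ∈ omegaZ p T := by
  obtain ⟨h1, h2, h3⟩ := hx
  refine ⟨(hT x).1 h1, fun t ht => ?_, by rw [← map_pow, h3, map_one]⟩
  obtain ⟨s, rfl⟩ := a.surjective t
  have hs : s ∈ T := (hT s).2 ht
  rw [← map_mul, ← map_mul, h2 s hs]

/-- a nontrivial finite `p`-subgroup has an element of order `p` in `Ω₁(Z(T))` -/
theorem exists_orderOf_eq_in_omegaZ [Finite G] {p : ℕ} [hp : Fact p.Prime] (T : Subgroup G)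
    (hT : IsPGroup p T) (hT1 : T ≠ ⊥) : ∃ x ∈ omegaZ p T, orderOf x = p := by
  have : Nontrivial T := (Subgroup.nontrivial_iff_ne_bot T).2 hT1
  have : Nontrivial (Subgroup.center T) := hT.center_nontrivial
  have hZp : IsPGroup p (Subgroup.center T) := hT.to_subgroup _
  have hdvd : p ∣ Nat.card (Subgroup.center T) := by
    rcases hZp.card_eq_or_dvd with h | h
    · exact absurd h (Finite.one_lt_card).ne'
    · exact h
  obtain ⟨z, hz⟩ := exists_prime_orderOf_dvd_card' p hdvd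
  refine ⟨((z : T) : G), ⟨(z : T).2, fun t ht => ?_, ?_⟩, ?_⟩
  · have h := Subgroup.mem_center_iff.1 z.2 ⟨t, ht⟩
    have h' := congrArg (Subtype.val) h
    simpa using h'
  · have h1 : z ^ p = 1 := by rw [← hz]; exact pow_orderOf_eq_one z
    have h2 := congrArg (fun w : Subgroup.center T => ((w : T) : G)) h1
    simpa using h2
  · rw [Subgroup.orderOf_coe, Subgroup.orderOf_coe, hz]

/-- with `Aut(G)` transitive on subgroups of order `p`, an `Aut(G)`-invariant subgroup containing one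
element of order `p` contains them all -/
theorem mem_of_aut_invariant_of_orderOf_eq [Finite G] {p : ℕ} [hp : Fact p.Prime]
    (htrans : ∀ U V : Subgroup G, Nat.card U = p → Nat.card V = p →
      ∃ a : MulAut G, U.map a.toMonoidHom = V)
    (W : Subgroup G) (hW : ∀ (a : MulAut G) (x : G), x ∈ W → a x ∈ W)
    {x₀ : G} (hx₀ : x₀ ∈ W) (ho : orderOf x₀ = p) {y : G} (hy : orderOf y = p) : y ∈ W := by
  obtain ⟨a, ha⟩ := htrans (Subgroup.zpowers x₀) (Subgroup.zpowers y)
    (by rw [Nat.card_zpowers, ho]) (by rw [Nat.card_zpowers, hy])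
  have hy' : y ∈ (Subgroup.zpowers x₀).map a.toMonoidHom := by
    rw [ha]; exact Subgroup.mem_zpowers y
  obtain ⟨u, hu, rfl⟩ := hy'
  exact hW a u ((Subgroup.zpowers_le.2 hx₀) hu)

/-- two normal subgroups, one of order prime to `p` and one a `p`-group, commute elementwise -/
theorem commute_of_coprime_normal [Finite G] {p : ℕ} [hp : Fact p.Prime] {K W : Subgroup G}
    (hK : K.Normal) (hW : W.Normal) (hKc : (Nat.card K).Coprime p) (hWp : IsPGroup p W)
    {k x : G} (hk : k ∈ K) (hx : x ∈ W) : k * x = x * k := by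
  set c := k * x * k⁻¹ * x⁻¹ with hc
  have hcK : c ∈ K := by
    have : c = k * (x * k⁻¹ * x⁻¹) := by rw [hc]; group
    rw [this]
    exact K.mul_mem hk (hK.conj_mem _ (K.inv_mem hk) x)
  have hcW : c ∈ W := W.mul_mem (hW.conj_mem _ hx k) (W.inv_mem hx)
  obtain ⟨i, hi⟩ := hWp ⟨c, hcW⟩
  have hi' : c ^ (p ^ i) = 1 := by
    have := congrArg Subtype.val hi
    simpa using this
  have h1 : orderOf c ∣ p ^ i := orderOf_dvd_of_pow_eq_one hi'
  have h2 : orderOf c ∣ Nat.card K := by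
    have := orderOf_dvd_natCard (⟨c, hcK⟩ : K)
    rwa [Subgroup.orderOf_mk] at this
  have h3 : orderOf c = 1 :=
    Nat.eq_one_of_dvd_coprimes (Nat.Coprime.pow_right i hKc) h2 h1
  have h4 : c = 1 := orderOf_eq_one_iff.1 h3
  have : k * x = c * (x * k) := by rw [hc]; group
  rw [this, h4, one_mul]

/-- **Lemma CL.** In a finite group of `p`-length at most one whose automorphism group permutes the
subgroups of order `p` transitively, and in which the elements of order `p` lie in a normal `p`-subgroup,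
every Sylow `p`-subgroup centralizes every element of order `p`. -/
theorem sylow_centralizes_order_p {H : Type*} [Group H] [Finite H] {p : ℕ} [hp : Fact p.Prime]
    (hpl : PLengthLE p 1 H)
    (htrans : ∀ U V : Subgroup H, Nat.card U = p → Nat.card V = p →
      ∃ a : MulAut H, U.map a.toMonoidHom = V)
    (W : Subgroup H) (hWn : W.Normal) (hWp : IsPGroup p W) (hW : ∀ x : H, orderOf x = p → x ∈ W)
    (S : Sylow p H) : ∀ s ∈ (S : Subgroup H), ∀ x : H, orderOf x = p → s * x = x * s := by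
  obtain ⟨K, hKn, hKc, hfr⟩ :=
    Cfsg.Agent.Lib.Helper32.exists_normalizer_mul_of_pLengthLE_one p hpl S
  intro s hs x hx
  have hdvd : p ∣ Nat.card H := by rw [← hx]; exact orderOf_dvd_natCard x
  have hS1 : (S : Subgroup H) ≠ ⊥ := S.ne_bot_of_dvd_card hdvd
  obtain ⟨u₀, hu₀, hu₀p⟩ := exists_orderOf_eq_in_omegaZ (S : Subgroup H) S.isPGroup' hS1
  obtain ⟨a, ha⟩ := htrans (Subgroup.zpowers u₀) (Subgroup.zpowers x)
    (by rw [Nat.card_zpowers, hu₀p]) (by rw [Nat.card_zpowers, hx])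
  have hx' : x ∈ (Subgroup.zpowers u₀).map a.toMonoidHom := by
    rw [ha]; exact Subgroup.mem_zpowers x
  obtain ⟨u, hu, hux⟩ := hx'
  have huZ : u ∈ omegaZ p (S : Subgroup H) := (Subgroup.zpowers_le.2 hu₀) hu
  -- the image Sylow subgroup
  obtain ⟨g, hg⟩ := MulAction.exists_smul_eq H S (a • S)
  obtain ⟨n, hn, k, hk, hgnk⟩ := hfr g⁻¹
  -- `k⁻¹ s k ∈ a • S`
  have hmem : k⁻¹ * s * k ∈ ((a • S : Sylow p H) : Subgroup H) := by
    rw [← hg]
    have hg' : g = k⁻¹ * n⁻¹ := by
      have : g = (g⁻¹)⁻¹ := (inv_inv g).symm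
      rw [this, hgnk, mul_inv_rev]
    rw [Sylow.coe_subgroup_smul]
    rw [Subgroup.mem_pointwise_smul_iff_inv_smul_mem, MulAut.smul_def, MulAut.conj_inv_apply]
    -- g⁻¹ * (k⁻¹ s k) * g ∈ S
    have : g⁻¹ * (k⁻¹ * s * k) * g = n * s * n⁻¹ := by rw [hg']; group
    rw [this]
    have hn' := (Subgroup.mem_normalizer_iff.1 hn s).1 hs
    exact hn'
  have hmem' : k⁻¹ * s * k ∈ (S : Subgroup H).map a.toMonoidHom := by
    have : ((a • S : Sylow p H) : Subgroup H) = (S : Subgroup H).map a.toMonoidHom := by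
      rw [Sylow.pointwise_smul_def, Subgroup.pointwise_smul_def]; rfl
    rwa [this] at hmem
  obtain ⟨s', hs', hs'eq⟩ := hmem'
  have hcomm : s' * u = u * s' := huZ.2.1 s' hs'
  have hcomm2 : (k⁻¹ * s * k) * x = x * (k⁻¹ * s * k) := by
    rw [← hs'eq, ← hux]
    change a s' * a u = a u * a s'
    rw [← map_mul, ← map_mul, hcomm]
  have hkx : k * x = x * k := commute_of_coprime_normal hKn hWn hKc hWp hk (hW x hx)
  have h1 : Commute (k⁻¹ * s * k) x := hcomm2
  have h2 : Commute k x := hkx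
  have h3 : Commute (k * (k⁻¹ * s * k) * k⁻¹) x := (h2.mul_left h1).mul_left h2.inv_left
  have h4 : k * (k⁻¹ * s * k) * k⁻¹ = s := by group
  rw [h4] at h3
  exact h3

end Cfsg.Agent.Lib.Helper01.GY
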