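import Cfsg.Agent.Lib.Helper01.GaschutzYenA
import Cfsg.Agent.Lib.Helper01.SZRel
import Cfsg.Agent.Lib.Helper01.Coprime
import Cfsg.Agent.Lib.Helper01.Basic
import Cfsg.Agent.Lib.Helper81.PSolvable
import Cfsg.Agent.Lib.Helper40.PSolv
import Cfsg.Agent.Lib.Helper40.OmegaLemma
import Cfsg.Agent.Lib.Helper02.HHDual
import Cfsg.Agent.Lib.Helper54.Quot
import Cfsg.Agent.Lib.Helper58.KChar4
import Cfsg.Agent.Lib.Helper67.PLen3

/-!
# Gaschütz–Yen, part B: restriction of automorphisms, transitivity in normalizers and quotients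
-/

set_option autoImplicit false

universe u

namespace Cfsg.Agent.Lib.Helper01.GY

open Cfsg
open scoped Pointwise

variable {G : Type*} [Group G]

/-- restriction of an automorphism to an invariant subgroup -/
noncomputable def restrictAut (b : MulAut G) (N : Subgroup G) (h : N.map b.toMonoidHom = N) :
    MulAut N :=
  (b.subgroupMap N).trans (MulEquiv.subgroupCongr h)

theorem restrictAut_coe (b : MulAut G) (N : Subgroup G) (h : N.map b.toMonoidHom = N) (x : N) :
    ((restrictAut b N h x : N) : G) = b x := rfl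

/-- an element lying in a `p`-group and in a subgroup of order prime to `p` is trivial -/
theorem eq_one_of_mem_of_coprime [Finite G] {p : ℕ} [hp : Fact p.Prime] {K W : Subgroup G}
    (hKc : (Nat.card K).Coprime p) (hWp : IsPGroup p W) {c : G} (hcK : c ∈ K) (hcW : c ∈ W) :
    c = 1 := by
  obtain ⟨i, hi⟩ := hWp ⟨c, hcW⟩
  have hi' : c ^ (p ^ i) = 1 := by
    have := congrArg Subtype.val hi
    simpa using this
  have h1 : orderOf c ∣ p ^ i := orderOf_dvd_of_pow_eq_one hi'
  have h2 : orderOf c ∣ Nat.card K := by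
    have := orderOf_dvd_natCard (⟨c, hcK⟩ : K)
    rwa [Subgroup.orderOf_mk] at this
  have h3 : orderOf c = 1 :=
    Nat.eq_one_of_dvd_coprimes (Nat.Coprime.pow_right i hKc) h2 h1
  exact orderOf_eq_one_iff.1 h3

/-- an element whose `p`-th power is trivial is trivial or of order `p` -/
theorem eq_one_or_orderOf_eq {p : ℕ} [hp : Fact p.Prime] {v : G} (hv : v ^ p = 1) :
    v = 1 ∨ orderOf v = p := by
  have h := orderOf_dvd_of_pow_eq_one hv
  rcases (Nat.dvd_prime hp.out).1 h with h1 | h1
  · exact Or.inl (orderOf_eq_one_iff.1 h1)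
  · exact Or.inr h1

/-- transitivity on subgroups of order `p` passes to the normalizer of `R`, provided every image of `R`
under an automorphism is conjugate to `R` by an element of `T`, and `T` centralizes the elements of
order `p`. -/
theorem trans_normalizer [Finite G] {p : ℕ} [hp : Fact p.Prime]
    (htrans : ∀ U V : Subgroup G, Nat.card U = p → Nat.card V = p →
      ∃ a : MulAut G, U.map a.toMonoidHom = V)
    (T R : Subgroup G)
    (hF : ∀ a : MulAut G, ∃ t ∈ T, MulAut.conj t • (R.map a.toMonoidHom) = R)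
    (hcent : ∀ y : G, orderOf y = p → ∀ t ∈ T, t * y = y * t) :
    ∀ U W : Subgroup ↥(Subgroup.normalizer (R : Set G)), Nat.card U = p → Nat.card W = p →
      ∃ b : MulAut ↥(Subgroup.normalizer (R : Set G)), U.map b.toMonoidHom = W := by
  set N := Subgroup.normalizer (R : Set G) with hN
  intro U W hU hW
  have hinj : Function.Injective N.subtype := N.subtype_injective
  have hU' : Nat.card (U.map N.subtype) = p := by rw [Subgroup.card_map_of_injective hinj, hU]
  have hW' : Nat.card (W.map N.subtype) = p := by rw [Subgroup.card_map_of_injective hinj, hW]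
  obtain ⟨a, ha⟩ := htrans _ _ hU' hW'
  obtain ⟨t, ht, hta⟩ := hF a
  set b₀ : MulAut G := MulAut.conj t * a with hb₀
  have hb₀R : R.map b₀.toMonoidHom = R := by
    have h1 : R.map b₀.toMonoidHom = (R.map a.toMonoidHom).map (MulAut.conj t).toMonoidHom := by
      rw [Subgroup.map_map]; rfl
    rw [h1]
    exact hta
  have hb₀N : N.map b₀.toMonoidHom = N := by
    rw [hN, Subgroup.map_equiv_normalizer_eq, hb₀R]
  refine ⟨restrictAut b₀ N hb₀N, ?_⟩
  apply Subgroup.eq_of_le_of_card_ge
  · rintro _ ⟨u, hu, rfl⟩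
    have h1 : a (u : G) ∈ W.map N.subtype := by
      rw [← ha]; exact ⟨(u : G), ⟨u, hu, rfl⟩, rfl⟩
    obtain ⟨w, hw, hwe⟩ := h1
    have hwp : (w : G) ^ p = 1 := by
      have h2 : orderOf (⟨w, hw⟩ : W) ∣ p := by rw [← hW]; exact orderOf_dvd_natCard _
      have h3 : (⟨w, hw⟩ : W) ^ p = 1 := orderOf_dvd_iff_pow_eq_one.1 h2
      have h4 := congrArg (fun z : W => ((z : N) : G)) h3
      simpa using h4
    have hcomm : t * (w : G) = (w : G) * t := by
      rcases eq_one_or_orderOf_eq hwp with h | h
      · rw [h]; simp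
      · exact hcent _ h t ht
    have heq : restrictAut b₀ N hb₀N u = w := by
      apply Subtype.ext
      rw [restrictAut_coe]
      change t * a (u : G) * t⁻¹ = (w : G)
      have hwe' : (w : G) = a (u : G) := hwe
      rw [← hwe', hcomm]
      group
    change restrictAut b₀ N hb₀N u ∈ W
    rw [heq]; exact hw
  · rw [Subgroup.card_map_of_injective (restrictAut b₀ N hb₀N).injective, hU, hW]

/-- transitivity on subgroups of order `p` passes to the quotient by a characteristic subgroup of order
prime to `p`. -/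
theorem trans_quotient [Finite G] {p : ℕ} [hp : Fact p.Prime]
    (htrans : ∀ U V : Subgroup G, Nat.card U = p → Nat.card V = p →
      ∃ a : MulAut G, U.map a.toMonoidHom = V)
    (K : Subgroup G) [hKn : K.Normal] (hKchar : K.Characteristic) (hKc : (Nat.card K).Coprime p) :
    ∀ U V : Subgroup (G ⧸ K), Nat.card U = p → Nat.card V = p →
      ∃ a : MulAut (G ⧸ K), U.map a.toMonoidHom = V := by
  -- lifting a subgroup of order `p`
  have lift : ∀ U : Subgroup (G ⧸ K), Nat.card U = p →
      ∃ u : G, orderOf u = p ∧ U = Subgroup.zpowers (QuotientGroup.mk' K u) := by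
    intro U hU
    have hdvd : p ∣ Nat.card U := by rw [hU]
    obtain ⟨ub, hub⟩ := exists_prime_orderOf_dvd_card' p hdvd
    obtain ⟨u, hu⟩ := QuotientGroup.mk'_surjective K (ub : G ⧸ K)
    set c := Nat.card K with hc
    have hubo : orderOf (ub : G ⧸ K) = p := by rw [Subgroup.orderOf_coe, hub]
    have hupK : u ^ p ∈ K := by
      rw [← QuotientGroup.eq_one_iff, QuotientGroup.mk_pow]
      have : (QuotientGroup.mk' K u) ^ p = 1 := by rw [hu, ← hubo]; exact pow_orderOf_eq_one _
      exact this
    have h1 : (u ^ c) ^ p = 1 := by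
      rw [← pow_mul, mul_comm, pow_mul]
      have h2 : (⟨u ^ p, hupK⟩ : K) ^ c = 1 := pow_card_eq_one'
      have h3 : ((⟨u ^ p, hupK⟩ : K) ^ c : K).1 = (1 : K).1 := by rw [h2]
      exact h3
    have hne : QuotientGroup.mk' K (u ^ c) ≠ 1 := by
      rw [map_pow, hu]
      intro h
      have h3 : orderOf (ub : G ⧸ K) ∣ c := orderOf_dvd_of_pow_eq_one h
      rw [hubo] at h3
      have := Nat.Coprime.eq_one_of_dvd hKc.symm h3
      exact hp.out.one_lt.ne' this
    have hne' : u ^ c ≠ 1 := by
      intro h; apply hne; rw [h, map_one]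
    have ho : orderOf (u ^ c) = p := by
      rcases eq_one_or_orderOf_eq h1 with h | h
      · exact absurd h hne'
      · exact h
    refine ⟨u ^ c, ho, ?_⟩
    symm
    apply Subgroup.eq_of_le_of_card_ge
    · rw [Subgroup.zpowers_le, map_pow, hu]
      exact U.pow_mem ub.2 c
    · rw [hU, Nat.card_zpowers]
      have h4 : orderOf (QuotientGroup.mk' K (u ^ c)) ∣ p := by
        apply orderOf_dvd_of_pow_eq_one
        rw [← map_pow, h1, map_one]
      rcases (Nat.dvd_prime hp.out).1 h4 with h5 | h5
      · exact absurd (orderOf_eq_one_iff.1 h5) hne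
      · rw [h5]
  intro U V hU hV
  obtain ⟨u, huo, hUu⟩ := lift U hU
  obtain ⟨v, hvo, hVv⟩ := lift V hV
  obtain ⟨a, ha⟩ := htrans (Subgroup.zpowers u) (Subgroup.zpowers v)
    (by rw [Nat.card_zpowers, huo]) (by rw [Nat.card_zpowers, hvo])
  have hKa : K.map a.toMonoidHom = K := Subgroup.characteristic_iff_map_eq.mp hKchar a
  refine ⟨QuotientGroup.congr K K a hKa, ?_⟩
  rw [hUu, hVv, MonoidHom.map_zpowers]
  have h1 : (QuotientGroup.congr K K a hKa).toMonoidHom (QuotientGroup.mk' K u) =
      QuotientGroup.mk' K (a u) := rfl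
  rw [h1]
  have h2 : Subgroup.zpowers (a u) = Subgroup.zpowers v := by
    rw [← ha, MonoidHom.map_zpowers]; rfl
  have h3 : Subgroup.zpowers (QuotientGroup.mk' K (a u)) =
      (Subgroup.zpowers (a u)).map (QuotientGroup.mk' K) := by
    rw [MonoidHom.map_zpowers]
  rw [h3, h2, MonoidHom.map_zpowers]

end Cfsg.Agent.Lib.Helper01.GY
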