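import Cfsg.Agent.Lib.Helper01.GaschutzYenB

/-!
# Gaschütz–Yen, part C: the main induction
-/

set_option autoImplicit false
set_option maxHeartbeats 800000

universe u

namespace Cfsg.Agent.Lib.Helper01.GY

open Cfsg
open scoped Pointwise

/-- the key step: with `O_{p'}(G) = 1`, the index of `O_p(G)` is prime to `p`. -/
theorem not_dvd_index_pCore {p : ℕ} [hp : Fact p.Prime] (hp2 : p ≠ 2) {G : Type u} [Group G]
    [Finite G]
    (IH : ∀ (H : Type u) [Group H] [Finite H], Nat.card H < Nat.card G → IsPSolvable p H →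
      (∀ U V : Subgroup H, Nat.card U = p → Nat.card V = p →
        ∃ a : MulAut H, U.map a.toMonoidHom = V) → PLengthLE p 1 H)
    (hG : IsPSolvable p G) (hO : pPrimeCore p G = ⊥)
    (htrans : ∀ U V : Subgroup G, Nat.card U = p → Nat.card V = p →
      ∃ a : MulAut G, U.map a.toMonoidHom = V) :
    ¬ p ∣ (pCore p G).index := by
  intro hdvd
  set T := pCore p G with hTdef
  have hTn : T.Normal := Cfsg.Agent.Lib.Helper01.pCore_normal p
  have hTchar : T.Characteristic := Cfsg.Agent.Lib.Helper01.pCore_characteristic p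
  have hTp : IsPGroup p T := Cfsg.Agent.Lib.Helper01.pCore_isPGroup p
  have hCT : Subgroup.centralizer (T : Set G) ≤ T :=
    Cfsg.Agent.Lib.Helper81.centralizer_pCore_le hG hO
  have hpG : p ∣ Nat.card G := dvd_trans hdvd (Subgroup.index_dvd_card T)
  have hTtop : Subgroup.normalizer (T : Set G) = ⊤ := Subgroup.normalizer_eq_top_iff.2 hTn
  -- `T ≠ ⊥`
  have hT1 : T ≠ ⊥ := by
    intro h
    have hall : ∀ g : G, g = 1 := by
      intro g
      have hg : g ∈ Subgroup.centralizer (T : Set G) := by
        rw [Subgroup.mem_centralizer_iff]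
        intro x hx
        have hx' : x ∈ T := hx
        rw [h, Subgroup.mem_bot] at hx'
        rw [hx']; simp
      have := hCT hg
      rwa [h, Subgroup.mem_bot] at this
    have hcard : Nat.card G = 1 := by
      have : Subsingleton G := ⟨fun a b => by rw [hall a, hall b]⟩
      exact Nat.card_unique
    rw [hcard] at hpG
    exact hp.out.one_lt.ne' (Nat.dvd_one.1 hpG)
  have hTaut : ∀ (a : MulAut G) (x : G), x ∈ T ↔ a x ∈ T := by
    intro a x
    have h := Subgroup.characteristic_iff_comap_eq.1 hTchar a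
    constructor
    · intro hx; rw [← h] at hx; exact hx
    · intro hx; rw [← h]; exact hx
  -- the subgroup `V`
  set V := omegaZ p T with hVdef
  obtain ⟨x₀, hx₀V, hx₀p⟩ := exists_orderOf_eq_in_omegaZ T hTp hT1
  have hVaut : ∀ (a : MulAut G) (x : G), x ∈ V → a x ∈ V :=
    fun a x hx => omegaZ_map_aut p T a (hTaut a) hx
  have hVall : ∀ y : G, orderOf y = p → y ∈ V :=
    fun y hy => mem_of_aut_invariant_of_orderOf_eq htrans V hVaut hx₀V hx₀p hy
  have hcent : ∀ y : G, orderOf y = p → ∀ t ∈ T, t * y = y * t :=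
    fun y hy t ht => (hVall y hy).2.1 t ht
  have hVT : V ≤ T := omegaZ_le p T
  have hVn : V.Normal := ⟨fun v hv g => by
    have := hVaut (MulAut.conj g) v hv
    simpa using this⟩
  have hV1p : ∀ v ∈ V, v = 1 ∨ orderOf v = p := fun v hv => eq_one_or_orderOf_eq hv.2.2
  -- the subgroup `L = O_{p,p'}(G)`
  haveI := hTn
  set Q := pPrimeCore p (G ⧸ T) with hQdef
  set L := Q.comap (QuotientGroup.mk' T) with hLdef
  have hLchar : L.Characteristic := by
    haveI := hTchar
    haveI : Q.Characteristic := Cfsg.Agent.Lib.Helper01.pPrimeCore_characteristic p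
    exact Cfsg.Agent.Lib.Helper58.KChar.case2_char G T Q
  have hLn : L.Normal :=
    Subgroup.Normal.comap (Cfsg.Agent.Lib.Helper01.pPrimeCore_normal p) _
  have hTL : T ≤ L := Cfsg.Agent.Lib.Helper58.KChar.case2_le G T Q
  have hLcard : Nat.card L = Nat.card T * Nat.card Q := Cfsg.Agent.Lib.Helper81.card_comap_mk' T Q
  have hQc : (Nat.card Q).Coprime p := Cfsg.Agent.Lib.Helper81.card_pPrimeCore_coprime p
  obtain ⟨kT, hkT⟩ := IsPGroup.iff_card.1 hTp
  have hcopTQ : (Nat.card T).Coprime (Nat.card Q) := by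
    rw [hkT]; exact Nat.Coprime.pow_left kT hQc.symm
  have hLT : L ≤ Subgroup.normalizer (T : Set G) := by rw [hTtop]; exact le_top
  obtain ⟨R, hRL, hRcard⟩ := sz_exists_in L T hTL hLT (Nat.card Q) hLcard hcopTQ
  have hRT : R ≤ Subgroup.normalizer (T : Set G) := by rw [hTtop]; exact le_top
  have hcop : (Nat.card T).Coprime (Nat.card R) := by rw [hRcard]; exact hcopTQ
  have hRc : (Nat.card R).Coprime p := by rw [hRcard]; exact hQc
  have hsup : R ⊔ T = L := by
    apply Subgroup.eq_of_le_of_card_ge (sup_le hRL hTL)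
    rw [card_sup_of_coprime_of_le_normalizer T R hRT hcop, hLcard, hRcard]
  have hTsolv : Group.IsSolvable T := by
    haveI : Group.IsNilpotent T := hTp.isNilpotent
    infer_instance
  have hF0 : ∀ R' : Subgroup G, R' ≤ L → Nat.card R' = Nat.card R →
      ∃ n ∈ T, MulAut.conj n • R' = R := by
    intro R' h1 h2
    exact conj_by_normal_of_card_eq hRT hcop (Or.inl hTsolv) (by rw [hsup]; exact h1) h2
  have hLaut : ∀ a : MulAut G, L.map a.toMonoidHom = L :=
    fun a => Subgroup.characteristic_iff_map_eq.mp hLchar a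
  have hF : ∀ a : MulAut G, ∃ t ∈ T, MulAut.conj t • (R.map a.toMonoidHom) = R := by
    intro a
    apply hF0
    · calc R.map a.toMonoidHom ≤ L.map a.toMonoidHom := Subgroup.map_mono hRL
        _ = L := hLaut a
    · exact Subgroup.card_map_of_injective a.injective
  -- the normalizer `N` of `R`
  set N := Subgroup.normalizer (R : Set G) with hNdef
  have hTN : T ⊔ N = ⊤ := by
    rw [eq_top_iff]
    intro g _
    have h1 : MulAut.conj g • R ≤ L := by
      have h2 : MulAut.conj g • R ≤ MulAut.conj g • L := Subgroup.pointwise_smul_le_pointwise_smul_iff.2 hRL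
      haveI := hLn
      rwa [conj_smul_normal g L] at h2
    obtain ⟨n, hn, hne⟩ := hF0 (MulAut.conj g • R) h1 (card_conj_smul g R)
    rw [conj_smul_conj_smul] at hne
    have h3 : n * g ∈ N := mem_normalizer_iff_conj_smul.2 hne
    have h4 : g = n⁻¹ * (n * g) := by group
    rw [h4]
    exact Subgroup.mul_mem_sup (T.inv_mem hn) h3
  -- `N ≠ ⊤`
  have hNtop : N ≠ ⊤ := by
    intro h
    have hRn : R.Normal := Subgroup.normalizer_eq_top_iff.1 h
    have hRle : R ≤ pPrimeCore p G := Cfsg.Agent.Lib.Helper01.le_pPrimeCore hRn hRc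
    rw [hO, le_bot_iff] at hRle
    have hQ1 : Nat.card Q = 1 := by rw [← hRcard, hRle, Subgroup.card_bot]
    have hQbot : Q = ⊥ := Subgroup.card_eq_one.1 hQ1
    have hpq : pCore p (G ⧸ T) = ⊥ := by
      rw [Cfsg.Agent.Lib.Helper54.pCore_quotient_of_isPGroup T hTp, ← hTdef]
      exact QuotientGroup.map_mk'_self T
    have hcq := Cfsg.Agent.Lib.Helper02.HHDual.centralizer_pPrimeCore_le (Cfsg.Agent.Lib.Helper81.IsPSolvable.quotient hp.out hG T) hpq
    rw [← hQdef, hQbot] at hcq
    have hallq : ∀ g : G ⧸ T, g = 1 := by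
      intro g
      have hg : g ∈ Subgroup.centralizer (((⊥ : Subgroup (G ⧸ T)) : Set (G ⧸ T))) := by
        rw [Subgroup.mem_centralizer_iff]
        intro x hx
        have hx' : x ∈ (⊥ : Subgroup (G ⧸ T)) := hx
        rw [Subgroup.mem_bot] at hx'
        rw [hx']; simp
      have := hcq hg
      rwa [Subgroup.mem_bot] at this
    have hidx : T.index = 1 := by
      rw [Subgroup.index_eq_card]
      have : Subsingleton (G ⧸ T) := ⟨fun a b => by rw [hallq a, hallq b]⟩
      exact Nat.card_unique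
    rw [hidx] at hdvd
    exact hp.out.one_lt.ne' (Nat.dvd_one.1 hdvd)
  -- `p` divides the order of `N`
  have hidx : T.index = T.relIndex N := by
    rw [← Subgroup.relIndex_top_right, ← hTN, Subgroup.relIndex_sup_left]
  have hpN : p ∣ Nat.card N := by
    have h1 : T.relIndex N ∣ Nat.card N := Subgroup.index_dvd_card _
    exact dvd_trans (hidx ▸ hdvd) h1
  obtain ⟨y, hy⟩ := exists_prime_orderOf_dvd_card' p hpN
  have hyo : orderOf (y : G) = p := by rw [Subgroup.orderOf_coe, hy]
  have hyV : (y : G) ∈ V := hVall _ hyo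
  have hyR : ∀ r ∈ R, r * (y : G) = (y : G) * r := by
    intro r hr
    set c := (y : G) * r * (y : G)⁻¹ * r⁻¹ with hc
    have hcR : c ∈ R := by
      have h1 : (y : G) * r * (y : G)⁻¹ ∈ R := (Subgroup.mem_normalizer_iff.1 y.2 r).1 hr
      exact R.mul_mem h1 (R.inv_mem hr)
    have hcV : c ∈ V := by
      have h1 : c = (y : G) * (r * (y : G)⁻¹ * r⁻¹) := by rw [hc]; group
      rw [h1]
      exact V.mul_mem hyV (hVn.conj_mem _ (V.inv_mem hyV) r)
    have hc1 : c = 1 := eq_one_of_mem_of_coprime hRc hTp hcR (hVT hcV)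
    have h2 : (y : G) * r = c * (r * (y : G)) := by rw [hc]; group
    rw [h2, hc1, one_mul]
  -- `V` centralizes `L`
  set CVL := V ⊓ Subgroup.centralizer (L : Set G) with hCVL
  have hyCVL : (y : G) ∈ CVL := by
    refine Subgroup.mem_inf.2 ⟨hyV, ?_⟩
    rw [Subgroup.mem_centralizer_iff]
    intro l hl
    have hl' : l ∈ R ⊔ T := by rw [hsup]; exact hl
    obtain ⟨r, hr, t, ht, rfl⟩ := exists_mul_of_mem_sup hRT hl'
    have h1 := hyR r hr
    have h2 := hcent _ hyo t ht
    calc r * t * (y : G) = r * (t * (y : G)) := by group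
      _ = r * ((y : G) * t) := by rw [h2]
      _ = (r * (y : G)) * t := by group
      _ = ((y : G) * r) * t := by rw [h1]
      _ = (y : G) * (r * t) := by group
  have hCVLaut : ∀ (a : MulAut G) (x : G), x ∈ CVL → a x ∈ CVL := by
    intro a x hx
    obtain ⟨hx1, hx2⟩ := Subgroup.mem_inf.1 hx
    refine Subgroup.mem_inf.2 ⟨hVaut a x hx1, ?_⟩
    rw [Subgroup.mem_centralizer_iff] at hx2 ⊢
    intro l hl
    have hl' : l ∈ L.map a.toMonoidHom := by rw [hLaut a]; exact hl
    obtain ⟨l', hl'L, rfl⟩ := hl'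
    change a l' * a x = a x * a l'
    rw [← map_mul, ← map_mul, hx2 l' hl'L]
  have hVcent : ∀ v ∈ V, v ∈ Subgroup.centralizer (L : Set G) := by
    intro v hv
    rcases hV1p v hv with h | h
    · rw [h]; exact Subgroup.one_mem _
    · exact (Subgroup.mem_inf.1
        (mem_of_aut_invariant_of_orderOf_eq htrans CVL hCVLaut hyCVL hyo h)).2
  have hVN : V ≤ N := by
    intro v hv
    have h1 := hVcent v hv
    rw [Subgroup.mem_centralizer_iff] at h1
    rw [hNdef, Subgroup.mem_normalizer_iff]
    intro r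
    have key : ∀ r' ∈ R, v * r' * v⁻¹ = r' := by
      intro r' hr'
      have := h1 r' (hRL hr')
      rw [← this]; group
    constructor
    · intro hr; rw [key r hr]; exact hr
    · intro hr
      have h2 : v⁻¹ * (v * r * v⁻¹) * v = r := by group
      have h3 := h1 _ (hRL hr)
      have h4 : v * r * v⁻¹ = r := by
        have : v * (v * r * v⁻¹) * v⁻¹ = v * r * v⁻¹ := by
          rw [← h3]; group
        have h5 : v * r * v⁻¹ = v⁻¹ * (v * (v * r * v⁻¹) * v⁻¹) * v := by group
        rw [this] at h5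
        rw [h5]; exact h2
      rw [← h4]; exact hr
  -- induction hypothesis for `N`
  have hNlt : Nat.card N < Nat.card G := by
    have h1 : 1 < N.index := Subgroup.one_lt_index_of_ne_top hNtop
    have h2 := Subgroup.card_mul_index N
    have h3 : 0 < Nat.card N := Nat.card_pos
    nlinarith
  have hNsol : IsPSolvable p ↥N := Cfsg.Agent.Lib.Helper40.isPSolvable_subgroup hp.out hG N
  have hNtrans := trans_normalizer htrans T R hF hcent
  have hNpl : PLengthLE p 1 ↥N := IH ↥N hNlt hNsol hNtrans
  obtain ⟨P₁⟩ : Nonempty (Sylow p ↥N) := inferInstance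
  have hCL := sylow_centralizes_order_p hNpl hNtrans (V.subgroupOf N) (hVn.subgroupOf N)
    ((hTp.to_le hVT).comap_subtype) (fun x hx => by
      rw [Subgroup.mem_subgroupOf]
      apply hVall
      rw [Subgroup.orderOf_coe, hx]) P₁
  have hP₁V : ∀ s : ↥N, s ∈ (P₁ : Subgroup ↥N) → ∀ v ∈ V, (s : G) * v = v * (s : G) := by
    intro s hs v hv
    rcases hV1p v hv with h | h
    · rw [h]; simp
    · have h1 : orderOf (⟨v, hVN hv⟩ : ↥N) = p := by
        rw [← Subgroup.orderOf_coe]; exact h
      have h2 := hCL s hs ⟨v, hVN hv⟩ h1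
      exact congrArg Subtype.val h2
  -- the centralizer of `V` is a `p`-group
  set X := Subgroup.centralizer (V : Set G) with hXdef
  have hXn : X.Normal := by have := hVn; exact Subgroup.normal_centralizer
  have hXcop : ∀ g ∈ X, (orderOf g).Coprime p → g = 1 := by
    intro g hg hgc
    have hgN : g ∈ Subgroup.normalizer (T : Set G) := by rw [hTtop]; exact Subgroup.mem_top g
    have hΩ : ∀ a ∈ T, (a ^ p = 1 ∨ (p = 2 ∧ a ^ 4 = 1)) → g * a = a * g := by
      intro a ha hap
      rcases hap with hap | hap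
      · rcases eq_one_or_orderOf_eq hap with h | h
        · rw [h]; simp
        · rw [hXdef, Subgroup.mem_centralizer_iff] at hg
          exact (hg a (hVall a h)).symm
      · exact absurd hap.1 hp2
    have hcom := Cfsg.Agent.Lib.Helper40.omega_lemma g hgc (Nat.card T) T rfl hTp hgN hΩ
    have hgT : g ∈ T := by
      apply hCT
      rw [Subgroup.mem_centralizer_iff]
      intro q hq
      exact (hcom q hq).symm
    exact eq_one_of_mem_of_coprime (K := Subgroup.zpowers g) (by rw [Nat.card_zpowers]; exact hgc)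
      hTp (Subgroup.mem_zpowers g) hgT
  have hXp : IsPGroup p X := by
    intro g
    obtain ⟨k, m, hm, hkm⟩ := Nat.exists_eq_pow_mul_and_not_dvd (orderOf_pos (g : G)).ne' p
      hp.out.ne_one
    refine ⟨k, ?_⟩
    have h1 : ((g : G) ^ (p ^ k)) ^ m = 1 := by
      rw [← pow_mul, ← hkm]; exact pow_orderOf_eq_one _
    have h2 : orderOf ((g : G) ^ (p ^ k)) ∣ m := orderOf_dvd_of_pow_eq_one h1
    have h3 : (orderOf ((g : G) ^ (p ^ k))).Coprime p :=
      Nat.Coprime.coprime_dvd_left h2 ((Nat.Prime.coprime_iff_not_dvd hp.out).2 hm).symm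
    have h4 := hXcop _ (X.pow_mem g.2 _) h3
    apply Subtype.ext
    simpa using h4
  have hXT : X ≤ T := Cfsg.Agent.Lib.Helper01.le_pCore hXn hXp
  have hP₁T : (P₁ : Subgroup ↥N) ≤ T.subgroupOf N := by
    intro s hs
    rw [Subgroup.mem_subgroupOf]
    apply hXT
    rw [hXdef, Subgroup.mem_centralizer_iff]
    intro v hv
    exact (hP₁V s hs v hv).symm
  have hnd : ¬ p ∣ (T.subgroupOf N).index := by
    intro h
    exact P₁.not_dvd_index (dvd_trans h (Subgroup.index_dvd_of_le hP₁T))
  apply hnd
  have : (T.subgroupOf N).index = T.relIndex N := rfl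
  rw [this, ← hidx]
  exact hdvd

/-- **Gaschütz–Yen**, induction form. -/
theorem gaschutz_yen_aux {p : ℕ} [hp : Fact p.Prime] (hp2 : p ≠ 2) : ∀ n : ℕ,
    ∀ (G : Type u) [Group G] [Finite G], Nat.card G = n → IsPSolvable p G →
    (∀ U V : Subgroup G, Nat.card U = p → Nat.card V = p →
      ∃ a : MulAut G, U.map a.toMonoidHom = V) → PLengthLE p 1 G := by
  intro n
  induction n using Nat.strong_induction_on with
  | _ n ih =>
  intro G _ _ hn hG htrans
  have IH : ∀ (H : Type u) [Group H] [Finite H], Nat.card H < Nat.card G → IsPSolvable p H →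
      (∀ U V : Subgroup H, Nat.card U = p → Nat.card V = p →
        ∃ a : MulAut H, U.map a.toMonoidHom = V) → PLengthLE p 1 H :=
    fun H _ _ hlt hH ht => ih (Nat.card H) (hn ▸ hlt) H rfl hH ht
  by_cases hO : pPrimeCore p G = ⊥
  · have hnd := not_dvd_index_pCore hp2 IH hG hO htrans
    haveI := Cfsg.Agent.Lib.Helper01.pCore_normal (G := G) p
    have h1 : PLengthLE p 1 ↥(pCore p G) :=
      Cfsg.Agent.Lib.Helper67.pLengthLE_one_of_isPGroup p (Cfsg.Agent.Lib.Helper01.pCore_isPGroup p)
    have h0 : PLengthLE p 0 (G ⧸ pCore p G) := by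
      apply Cfsg.Agent.Lib.Helper67.pLengthLE_zero_of_coprime
      rw [← Subgroup.index_eq_card]
      exact ((Nat.Prime.coprime_iff_not_dvd hp.out).2 hnd).symm
    exact Cfsg.Agent.Lib.Helper67.pLengthLE_add p (pCore p G) 1 0 h1 h0
  · set K := pPrimeCore p G with hK
    haveI hKn : K.Normal := Cfsg.Agent.Lib.Helper01.pPrimeCore_normal p
    have hKchar : K.Characteristic := Cfsg.Agent.Lib.Helper01.pPrimeCore_characteristic p
    have hKc : (Nat.card K).Coprime p := Cfsg.Agent.Lib.Helper81.card_pPrimeCore_coprime p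
    have hlt : Nat.card (G ⧸ K) < Nat.card G := by
      rw [← Subgroup.index_eq_card]
      have h1 := Subgroup.card_mul_index K
      have h2 : 1 < Nat.card K := by
        rw [Subgroup.one_lt_card_iff_ne_bot]; exact hO
      have h3 : 0 < K.index := Nat.pos_of_ne_zero Subgroup.index_ne_zero_of_finite
      nlinarith
    have hq := IH (G ⧸ K) hlt (Cfsg.Agent.Lib.Helper81.IsPSolvable.quotient hp.out hG K)
      (trans_quotient htrans K hKchar hKc)
    have h0 : PLengthLE p 0 ↥K := Cfsg.Agent.Lib.Helper67.pLengthLE_zero_of_coprime p hKc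
    have := Cfsg.Agent.Lib.Helper67.pLengthLE_add p K 0 1 h0 hq
    simpa using this

/-- **Gaschütz–Yen Theorem.** A finite `p`-solvable group, `p` odd, whose automorphism group permutes
the subgroups of order `p` transitively has `p`-length at most one. -/
theorem gaschutz_yen {G : Type u} [Group G] [Finite G] {p : ℕ} [hp : Fact p.Prime] (hp2 : p ≠ 2)
    (hG : IsPSolvable p G)
    (htrans : ∀ U V : Subgroup G, Nat.card U = p → Nat.card V = p →
      ∃ a : MulAut G, U.map a.toMonoidHom = V) : PLengthLE p 1 G :=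
  gaschutz_yen_aux hp2 (Nat.card G) G rfl hG htrans

end Cfsg.Agent.Lib.Helper01.GY
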