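import Mathlib
import Cfsg.Prelude.Def_Blocks
import Cfsg.Agent.Lib.Helper70.IPDefs
import Cfsg.Agent.Lib.Helper83.Quotient
import Cfsg.Agent.Lib.Helper84.NormalAction
import Cfsg.Agent.Lib.Helper30.CD3GRP
import Cfsg.Agent.Lib.Helper10.CD3DEG
import Cfsg.Agent.Lib.Helper32.CD3Tors
import Cfsg.Agent.Lib.Helper45.CD3IND
import Cfsg.Agent.Lib.Helper13.CD3VAN
import Cfsg.Agent.Lib.Helper98.CD3VAN
import Cfsg.Agent.Lib.Helper98.IPSUB
import Cfsg.Agent.Lib.Helper50.IPABetw
import Cfsg.Agent.Lib.Helper80.IPAExt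

/-!
# S4463 (K-IP), CASE A (ii): the Frobenius case of `solvable_case`.
Glue over the K-CD3 leaves (Frobenius structure, torsor, induction, vanishing) and the K-IPA leaves
BETW, VANLT, SUB.
-/

set_option autoImplicit false

namespace Cfsg.Agent.Lib.Helper01.IPA

open Cfsg Cfsg.Agent.Lib.Helper70.IP
open scoped commutatorElement

universe u

theorem charDegree_comp_mulEquiv {A B : Type*} [Group A] [Group B] (e : A ≃* B) (ψ : B → ℂ) :
    charDegree (fun a : A => ψ (e a)) = charDegree ψ := by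
  unfold charDegree
  simp

theorem charDegree_inflate' {G : Type u} [Group G] (K : Subgroup G) [K.Normal] (ψ : G ⧸ K → ℂ) :
    charDegree (fun g : G => ψ (QuotientGroup.mk g)) = charDegree ψ := by
  unfold charDegree
  simp

/-- CASE A (ii): `G ⧸ K` solvable, not a `p`-group (hence Frobenius with kernel `(G ⧸ K)'`). -/
theorem frobenius_case {G : Type u} [Group G] [Finite G] (b : ℕ) (hb : DegLE G b)
    (K : Subgroup G) [hK : K.Normal] (hmax : MaxNonab K) (hs : Group.IsSolvable (G ⧸ K))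
    (hnp : ∀ p : ℕ, p.Prime → ¬ IsPGroup p (G ⧸ K)) :
    ∃ H : Subgroup G, H ≠ ⊤ ∧ H.index ≤ b ^ 2 ∧
      ∀ ψ : IrrCharacter H, charDegree (ψ : H → ℂ) < b := by
  classical
  obtain ⟨-, hKnot, hKmax⟩ := hmax
  have hmk_surj : Function.Surjective (QuotientGroup.mk' K) := QuotientGroup.mk'_surjective K
  -- X is nonabelian
  have hXnab : ∃ a b : G ⧸ K, a * b ≠ b * a := by
    by_contra hall
    push Not at hall
    apply hKnot
    rw [commutator_def, Subgroup.commutator_le]
    intro g _ h _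
    rw [commutatorElement_def, ← QuotientGroup.eq_one_iff]
    have := hall (g : G ⧸ K) (h : G ⧸ K)
    rw [QuotientGroup.mk_mul, QuotientGroup.mk_mul, QuotientGroup.mk_mul, QuotientGroup.mk_inv,
      QuotientGroup.mk_inv, this]
    group
  have hcomm_map : commutator (G ⧸ K) = (commutator G).map (QuotientGroup.mk' K) := by
    rw [commutator_def, commutator_def, Subgroup.map_commutator,
      ← MonoidHom.range_eq_map, MonoidHom.range_eq_top.2 hmk_surj]
  have hXmin : ∀ L : Subgroup (G ⧸ K), L.Normal → L ≠ ⊥ → commutator (G ⧸ K) ≤ L := by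
    intro L hL hLne
    have hLn : (L.comap (QuotientGroup.mk' K)).Normal := hL.comap _
    have hKle : K ≤ L.comap (QuotientGroup.mk' K) := by
      intro k hk
      rw [Subgroup.mem_comap]
      have : (QuotientGroup.mk' K) k = 1 := (QuotientGroup.eq_one_iff k).2 hk
      rw [this]; exact L.one_mem
    have hKlt : K < L.comap (QuotientGroup.mk' K) := by
      refine lt_of_le_of_ne hKle ?_
      intro heq
      apply hLne
      rw [eq_bot_iff]
      intro x hx
      obtain ⟨g, rfl⟩ := hmk_surj x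
      have hg : g ∈ L.comap (QuotientGroup.mk' K) := hx
      rw [← heq] at hg
      rw [Subgroup.mem_bot]
      exact (QuotientGroup.eq_one_iff g).2 hg
    have := hKmax _ hLn hKlt
    rw [hcomm_map]
    calc (commutator G).map (QuotientGroup.mk' K)
        ≤ (L.comap (QuotientGroup.mk' K)).map (QuotientGroup.mk' K) := Subgroup.map_mono this
      _ ≤ L := Subgroup.map_comap_le _ _
  obtain ⟨r, Q, hr, hVp, hVab, hQab, hVQ, hsup, hcop, hfpfQ, hfpfX, hindex, hQ1, a, ha, hVcard⟩ :=
    Cfsg.Agent.Lib.Helper30.CD3.frobenius_structure hs hXnab hXmin hnp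
  have hVne : commutator (G ⧸ K) ≠ ⊥ := by
    intro h0
    have : Nat.card (commutator (G ⧸ K)) = 1 := by rw [h0]; simp
    rw [hVcard] at this
    have h2 : 2 ≤ r ^ a := by
      calc 2 ≤ r := hr.two_le
        _ = r ^ 1 := (pow_one r).symm
        _ ≤ r ^ a := Nat.pow_le_pow_right hr.pos ha
    omega
  obtain ⟨χb, hχb, hχbd⟩ :=
    Cfsg.Agent.Lib.Helper10.CD3.exists_irr_of_frobenius (commutator (G ⧸ K)) Q hVab hVne hVQ hsup hfpfQ
  have hχ : IsIrrCharacter G (fun g : G => χb (QuotientGroup.mk g)) :=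
    Cfsg.Agent.Lib.Helper83.isIrrCharacter_inflate K hχb
  have hχd : charDegree (fun g : G => χb (QuotientGroup.mk g)) = Nat.card Q := by
    rw [charDegree_inflate', hχbd]
  -- the subgroup N
  set N : Subgroup G := (commutator (G ⧸ K)).comap (QuotientGroup.mk' K) with hNdef
  haveI hNn : N.Normal := Subgroup.Normal.comap inferInstance _
  have hKN : K ≤ N := by
    intro k hk
    rw [hNdef, Subgroup.mem_comap]
    have : (QuotientGroup.mk' K) k = 1 := (QuotientGroup.eq_one_iff k).2 hk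
    rw [this]; exact Subgroup.one_mem _
  have hNK : ∀ x ∈ N, ∀ y ∈ N, x * y * x⁻¹ * y⁻¹ ∈ K := by
    intro x hx y hy
    rw [← QuotientGroup.eq_one_iff]
    have := hVab _ hx _ hy
    simp only [QuotientGroup.mk'_apply] at this
    rw [QuotientGroup.mk_mul, QuotientGroup.mk_mul, QuotientGroup.mk_mul, QuotientGroup.mk_inv,
      QuotientGroup.mk_inv, this]
    group
  have hGN : ∀ g h : G, g * h * g⁻¹ * h⁻¹ ∈ N := by
    intro g h
    rw [hNdef, Subgroup.mem_comap, commutator_def]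
    have : (QuotientGroup.mk' K) (g * h * g⁻¹ * h⁻¹) =
        ⁅(QuotientGroup.mk' K) g, (QuotientGroup.mk' K) h⁆ := by
      rw [commutatorElement_def]; simp
    rw [this]
    exact Subgroup.commutator_mem_commutator (Subgroup.mem_top _) (Subgroup.mem_top _)
  have hfpf : ∀ g : G, g ∉ N → ∀ x ∈ N, g * x * g⁻¹ * x⁻¹ ∈ K → x ∈ K := by
    intro g hg x hx hgx
    rw [← QuotientGroup.eq_one_iff] at hgx ⊢
    apply hfpfX ((QuotientGroup.mk' K) g) hg ((QuotientGroup.mk' K) x) hx
    simp only [QuotientGroup.mk'_apply]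
    rw [QuotientGroup.mk_mul, QuotientGroup.mk_mul, QuotientGroup.mk_mul, QuotientGroup.mk_inv,
      QuotientGroup.mk_inv] at hgx
    calc (g : G ⧸ K) * (x : G ⧸ K)
        = ((g : G ⧸ K) * (x : G ⧸ K) * (g : G ⧸ K)⁻¹ * (x : G ⧸ K)⁻¹) * ((x : G ⧸ K) * (g : G ⧸ K)) := by
          group
      _ = (x : G ⧸ K) * (g : G ⧸ K) := by rw [hgx, one_mul]
  have hNidx : N.index = Nat.card Q := by
    rw [hNdef, Subgroup.index_comap_of_surjective _ hmk_surj, hindex]
  have hidx : ∃ a : ℕ, 0 < a ∧ K.relIndex N = r ^ a := by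
    refine ⟨a, ha, ?_⟩
    have hKker : K = (⊥ : Subgroup (G ⧸ K)).comap (QuotientGroup.mk' K) := by
      ext k
      rw [Subgroup.mem_comap, Subgroup.mem_bot]
      exact (QuotientGroup.eq_one_iff k).symm
    have hmapN : N.map (QuotientGroup.mk' K) = commutator (G ⧸ K) := by
      rw [hNdef, Subgroup.map_comap_eq_self_of_surjective hmk_surj]
    conv_lhs => rw [hKker]
    rw [Subgroup.relIndex_comap, hmapN, Subgroup.relIndex_bot_left, hVcard]
  -- f = |Q| is a degree of G
  set f := Nat.card Q with hfdef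
  have hfb : f ≤ b := by
    have := hb ⟨_, hχ⟩
    rwa [hχd] at this
  have hb2 : 2 ≤ b := le_trans hQ1 hfb
  have hNtop : N ≠ ⊤ := by
    intro h
    rw [h, Subgroup.index_top] at hNidx
    omega
  have hbN : DegLE N b := Cfsg.Agent.Lib.Helper98.IP.degLE_subgroup b hb N
  by_cases hall : ∀ ψ : IrrCharacter N, charDegree (ψ : N → ℂ) < b
  · refine ⟨N, hNtop, ?_, hall⟩
    rw [hNidx]
    nlinarith
  · push Not at hall
    obtain ⟨ψ0, hψ0⟩ := hall
    have hψ0b : charDegree (ψ0 : N → ℂ) = b := le_antisymm (hbN ψ0) hψ0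
    have hinvAll : ∀ ψ : N → ℂ, IsIrrCharacter N ψ → charDegree ψ = b →
        ∀ μ : N → ℂ, IsIrrCharacter N μ → μ 1 = 1 → (∀ k : N, (k : G) ∈ K → μ k = 1) →
          ψ * μ = ψ := by
      intro ψ hψ hψb μ h1 h2 h3
      by_contra h4
      obtain ⟨ξ, hξ, hdeg, hin⟩ :=
        Cfsg.Agent.Lib.Helper32.CD3.exists_twist_inertia K N hKN hNK hGN hfpf hψ ⟨μ, h1, h2, h3, h4⟩
      obtain ⟨χ, hχ', hχd'⟩ := Cfsg.Agent.Lib.Helper45.CD3.exists_irr_index_mul N hξ hin
      have h5 := hb ⟨χ, hχ'⟩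
      simp only at h5
      rw [hχd', hNidx, hdeg, hψb] at h5
      nlinarith
    have hvanAll : ∀ ψ : N → ℂ, IsIrrCharacter N ψ → charDegree ψ = b →
        ∀ x : N, x ∉ K.subgroupOf N → ψ x = 0 := by
      intro ψ hψ hψb x hx
      apply Cfsg.Agent.Lib.Helper98.CD3.vanish_off K N hNK (hinvAll ψ hψ hψb) x
      intro hxK
      exact hx (Subgroup.mem_subgroupOf.2 hxK)
    have hrb : r ∣ b := by
      have := Cfsg.Agent.Lib.Helper13.CD3.dvd_degree_of_twist_invariant K N hKN hNK hr hidx ψ0.2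
        (hinvAll ψ0 ψ0.2 hψ0b)
      rwa [hψ0b] at this
    have hrleb : r ≤ b := Nat.le_of_dvd (by omega) hrb
    obtain ⟨H, hKH, hHN, hHr⟩ := Cfsg.Agent.Lib.Helper50.IPA.exists_between_index K N hKN hr hidx
    have hHtop : H ≠ ⊤ := by
      intro h
      apply hNtop
      rw [eq_top_iff, ← h]
      exact hHN
    have hHidx : H.index = r * f := by
      rw [← Subgroup.relIndex_mul_index hHN, hHr, hNidx]
    have hH'top : H.subgroupOf N ≠ ⊤ := by
      intro h
      have : H.relIndex N = 1 := by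
        rw [Subgroup.relIndex, h, Subgroup.index_top]
      rw [hHr] at this
      exact hr.one_lt.ne' this
    have hK'H' : K.subgroupOf N ≤ H.subgroupOf N := by
      intro x hx
      rw [Subgroup.mem_subgroupOf] at hx ⊢
      exact hKH hx
    have hlt := Cfsg.Agent.Lib.Helper80.IPA.lt_of_vanish b hbN (K.subgroupOf N) (H.subgroupOf N) hK'H'
      hH'top hvanAll
    refine ⟨H, hHtop, ?_, ?_⟩
    · rw [hHidx, sq]
      exact Nat.mul_le_mul hrleb hfb
    · intro ψ
      let e : H.subgroupOf N ≃* H := Subgroup.subgroupOfEquivOfLe hHN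
      have hσ := Cfsg.Agent.Lib.Helper84.isIrrCharacter_comp_mulEquiv e ψ.2
      have h6 := hlt ⟨_, hσ⟩
      simp only at h6
      rwa [charDegree_comp_mulEquiv] at h6

end Cfsg.Agent.Lib.Helper01.IPA
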