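import Mathlib
import Cfsg.Prelude.Def_Blocks
import Cfsg.Agent.Lib.Helper70.IPDefs
import Cfsg.Agent.Lib.Helper01.IPAFrob
import Cfsg.Agent.Lib.Helper69.IPAPgrp

/-!
# S4463 (K-IP), keystone 446311 CASE A: `solvable_case` = `pgroup_case` (helper69) + `frobenius_case`.
-/

set_option autoImplicit false

namespace Cfsg.Agent.Lib.Helper01.IPA

open Cfsg Cfsg.Agent.Lib.Helper70.IP

universe u

/-- 446311 IP-CASEA. -/
theorem solvable_case {G : Type u} [Group G] [Finite G] (b : ℕ) (hb : DegLE G b)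
    (hatt : ∃ χ : IrrCharacter G, charDegree (χ : G → ℂ) = b)
    (K : Subgroup G) [hK : K.Normal] (hmax : MaxNonab K) (hs : Group.IsSolvable (G ⧸ K)) :
    ∃ H : Subgroup G, H ≠ ⊤ ∧ H.index ≤ b ^ 2 ∧
      ∀ ψ : IrrCharacter H, charDegree (ψ : H → ℂ) < b := by
  by_cases hp : ∃ p : ℕ, p.Prime ∧ IsPGroup p (G ⧸ K)
  · obtain ⟨p, hpp, hpg⟩ := hp
    have : Fact p.Prime := ⟨hpp⟩
    exact Cfsg.Agent.Lib.Helper69.IPA.pgroup_case b hb K hmax hpg
  · push Not at hp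
    exact frobenius_case b hb K hmax hs hp

end Cfsg.Agent.Lib.Helper01.IPA
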