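import Mathlib
import Cfsg.Agent.Lib.Helper83.SecondOrth
import Cfsg.Agent.Lib.Helper83.Abelian

namespace Cfsg.Agent.Lib.Helper01.IPAvg

open scoped ComplexConjugate
open Cfsg Cfsg.Agent.Lib.Helper83

universe u
variable {G : Type u} [Group G]

/-- `∑_g |C_G(g)| = k(G) · |G|` with `k(G)` the number of irreducible characters. -/
theorem sum_card_centralizer [Fintype G] [Fintype (IrrCharacter G)] :
    ∑ g : G, Nat.card (Subgroup.centralizer ({g} : Set G))
      = Fintype.card (IrrCharacter G) * Nat.card G := by
  classical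
  have h1 : ∑ g : G, ∑ χ : IrrCharacter G, (χ : G → ℂ) g * conj ((χ : G → ℂ) g)
      = ∑ g : G, (Nat.card (Subgroup.centralizer ({g} : Set G)) : ℂ) := by
    apply Finset.sum_congr rfl
    intro g _
    rw [second_orthogonality, if_pos (IsConj.refl g)]
  rw [Finset.sum_comm] at h1
  have h2 : ∀ χ : IrrCharacter G, ∑ g : G, (χ : G → ℂ) g * conj ((χ : G → ℂ) g) = (Nat.card G : ℂ) := by
    intro χ
    have := irr_inner_self χ
    rw [classInner_def] at this
    field_simp [card_ne_zero_complex (G := G)] at this
    exact this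
  simp only [h2, Finset.sum_const, Finset.card_univ, nsmul_eq_mul] at h1
  have : ((∑ g : G, Nat.card (Subgroup.centralizer ({g} : Set G)) : ℕ) : ℂ)
      = ((Fintype.card (IrrCharacter G) * Nat.card G : ℕ) : ℂ) := by
    push_cast
    rw [← h1]
  exact_mod_cast this

/-- Averaging: a nontrivial finite group all of whose irreducible character degrees are at most
`b` has a nonidentity element whose centralizer has index at most `b ^ 2`. -/
theorem exists_ne_one_index_centralizer_le [Finite G] [Nontrivial G] (b : ℕ)
    (hb : ∀ χ : IrrCharacter G, charDegree (χ : G → ℂ) ≤ b) :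
    ∃ x : G, x ≠ 1 ∧ (Subgroup.centralizer ({x} : Set G)).index ≤ b ^ 2 := by
  classical
  have := Fintype.ofFinite G
  have := Fintype.ofFinite (IrrCharacter G)
  by_contra hcon
  push Not at hcon
  set n := Nat.card G with hn
  set k := Fintype.card (IrrCharacter G) with hk
  have hn1 : 1 < n := Finite.one_lt_card
  -- sum of squares
  have hsq : ∑ χ : IrrCharacter G, (charDegree (χ : G → ℂ)) ^ 2 = n := sum_charDegree_sq
  have hsq' : n ≤ 1 + (k - 1) * b ^ 2 := by
    rw [← hsq, ← Finset.add_sum_erase _ _ (Finset.mem_univ (trivChar G)), charDegree_trivChar,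
      one_pow]
    apply Nat.add_le_add_left
    calc ∑ χ ∈ Finset.univ.erase (trivChar G), (charDegree (χ : G → ℂ)) ^ 2
        ≤ ∑ _χ ∈ Finset.univ.erase (trivChar G), b ^ 2 :=
          Finset.sum_le_sum (fun χ _ => Nat.pow_le_pow_left (hb χ) 2)
      _ = (k - 1) * b ^ 2 := by
          rw [Finset.sum_const, Finset.card_erase_of_mem (Finset.mem_univ _), Finset.card_univ,
            smul_eq_mul]
  -- centralizer sum
  have hc : ∑ g : G, Nat.card (Subgroup.centralizer ({g} : Set G)) = k * n := sum_card_centralizer
  have hc1 : Nat.card (Subgroup.centralizer ({(1 : G)} : Set G)) = n := centralizer_one_card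
  have hc' : (k - 1) * n * (b ^ 2 + 1) ≤ (n - 1) * n := by
    have hsplit : ∑ g ∈ Finset.univ.erase (1 : G), Nat.card (Subgroup.centralizer ({g} : Set G))
        = (k - 1) * n := by
      have := Finset.add_sum_erase Finset.univ
        (fun g : G => Nat.card (Subgroup.centralizer ({g} : Set G))) (Finset.mem_univ (1 : G))
      rw [hc, hc1] at this
      have hk1 : 1 ≤ k := Fintype.card_pos_iff.2 ⟨trivChar G⟩
      have : n + ∑ g ∈ Finset.univ.erase (1 : G), Nat.card (Subgroup.centralizer ({g} : Set G))
          = n + (k - 1) * n := by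
        rw [this]
        have : k = (k - 1) + 1 := by omega
        conv_lhs => rw [this]
        ring
      exact Nat.add_left_cancel this
    rw [← hsplit, Finset.sum_mul]
    calc ∑ g ∈ Finset.univ.erase (1 : G),
          Nat.card (Subgroup.centralizer ({g} : Set G)) * (b ^ 2 + 1)
        ≤ ∑ _g ∈ Finset.univ.erase (1 : G), n := by
          apply Finset.sum_le_sum
          intro g hg
          have hg1 : g ≠ 1 := Finset.ne_of_mem_erase hg
          have h1 := hcon g hg1
          have h2 := (Subgroup.centralizer ({g} : Set G)).card_mul_index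
          rw [← hn] at h2
          rw [← h2]
          exact Nat.mul_le_mul_left _ h1
      _ = (n - 1) * n := by
          rw [Finset.sum_const, Finset.card_erase_of_mem (Finset.mem_univ _), Finset.card_univ,
            smul_eq_mul, ← Nat.card_eq_fintype_card]
  -- combine
  have hnpos : 0 < n := by omega
  have h3 : (k - 1) * (b ^ 2 + 1) ≤ n - 1 := by
    have : (k - 1) * (b ^ 2 + 1) * n ≤ (n - 1) * n := by
      calc (k - 1) * (b ^ 2 + 1) * n = (k - 1) * n * (b ^ 2 + 1) := by ring
        _ ≤ (n - 1) * n := hc'
    exact Nat.le_of_mul_le_mul_right this hnpos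
  have h4 : n - 1 ≤ (k - 1) * b ^ 2 := by omega
  have h5 : (k - 1) * (b ^ 2 + 1) ≤ (k - 1) * b ^ 2 := le_trans h3 h4
  have h6 : k - 1 = 0 := by
    by_contra hne
    have : 0 < k - 1 := Nat.pos_of_ne_zero hne
    nlinarith
  rw [h6] at h4
  omega

end Cfsg.Agent.Lib.Helper01.IPAvg
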