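import Mathlib
import Cfsg.Prelude.Def_Blocks
import Cfsg.Agent.Lib.Helper70.IPDefs
import Cfsg.Agent.Lib.Helper01.IPAvg
import Cfsg.Agent.Lib.Helper22.BlockRegular
import Cfsg.Agent.Lib.Helper84.CliffordDegree
import Cfsg.Agent.Lib.Helper84.Clifford
import Cfsg.Agent.Lib.Helper85.CliffordCorr
import Cfsg.Agent.Lib.Helper85.Gallagher
import Cfsg.Agent.Lib.Helper83.CharMisc

set_option autoImplicit false

namespace Cfsg.Agent.Lib.Helper01.IP

open Cfsg Cfsg.Agent.Lib.Helper70.IP Cfsg.Agent.Lib.Helper83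

universe u

/-- 446307 IP-AVG. -/
theorem exists_small_class {Q : Type u} [Group Q] [Finite Q] [Nontrivial Q] (B : ℕ)
    (hB : DegLE Q B) :
    ∃ x : Q, x ≠ 1 ∧ (Subgroup.centralizer ({x} : Set Q)).index ≤ B ^ 2 :=
  Cfsg.Agent.Lib.Helper01.IPAvg.exists_ne_one_index_centralizer_le B hB

/-- 446308 IP-L1. -/
theorem two_mul_degLE_of_normal {G : Type u} [Group G] [Finite G] (b : ℕ) (hb : DegLE G b)
    (C : Subgroup G) [hCn : C.Normal] (hC : ¬ commutator G ≤ C) :
    ∀ θ : IrrCharacter C, 2 * charDegree (θ : C → ℂ) ≤ b := by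
  classical
  intro θ
  have : Fintype G := Fintype.ofFinite G
  have : Fintype C := Fintype.ofFinite C
  obtain ⟨χ, hχ⟩ := Cfsg.Agent.Lib.Helper22.exists_irr_over C θ
  have hres : IsCharacter C (fun n : C => (χ : G → ℂ) n) :=
    isCharacter_restrict C (IrrCharacter_isCharacter χ)
  set m := irrMult (fun n : C => (χ : G → ℂ) n) θ with hmdef
  have hm : classInner (fun n : C => (χ : G → ℂ) n) (θ : C → ℂ) = m :=
    (irrMult_cast hres θ).symm
  have hm0 : m ≠ 0 := by
    intro h
    rw [hm, h] at hχ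
    simp at hχ
  have hdeg := Cfsg.Agent.Lib.Helper84.clifford_degree hCn χ θ m hm hm0
  set t := (Cfsg.Agent.Lib.Helper85.conjStab hCn (θ : C → ℂ)).index with htdef
  have ht0 : t ≠ 0 := Subgroup.index_ne_zero_of_finite
  by_cases h2 : 2 ≤ m * t
  · calc 2 * charDegree (θ : C → ℂ) ≤ m * t * charDegree (θ : C → ℂ) :=
          Nat.mul_le_mul_right _ h2
      _ = charDegree (χ : G → ℂ) := by rw [hdeg]; ring
      _ ≤ b := hb χ
  · have hmt : m * t = 1 := by
      have h1 : 1 ≤ m * t := Nat.one_le_iff_ne_zero.2 (Nat.mul_ne_zero hm0 ht0)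
      omega
    have hm1 : m = 1 := Nat.eq_one_of_mul_eq_one_right hmt
    have hχθ : charDegree (χ : G → ℂ) = charDegree (θ : C → ℂ) := by
      rw [hdeg, ← mul_assoc, hmt, one_mul]
    obtain ⟨A', hA', hsplit⟩ := Cfsg.Agent.Lib.Helper84.exists_char_sub hres θ
    rw [← hmdef, hm1, Nat.cast_one, one_smul] at hsplit
    have hA1 : A' 1 = 0 := by
      have h1 := congrFun hsplit 1
      simp only [Pi.add_apply] at h1
      have h2 : (χ : G → ℂ) ((1 : C) : G) = (charDegree (χ : G → ℂ) : ℂ) := by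
        rw [charDegree_cast (IrrCharacter_isCharacter χ)]; rfl
      have h3 : (θ : C → ℂ) 1 = (charDegree (θ : C → ℂ) : ℂ) :=
        (charDegree_cast (IrrCharacter_isCharacter θ)).symm
      rw [h2, h3, hχθ] at h1
      linear_combination -h1
    have hA0 : A' = 0 := Cfsg.Agent.Lib.Helper85.char_eq_zero_of_apply_one hA' hA1
    have hresθ : (fun n : C => (χ : G → ℂ) n) = (θ : C → ℂ) := by
      rw [hsplit, hA0, add_zero]
    have hirr : IsIrrCharacter C (fun h : C => (χ : G → ℂ) h) := by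
      rw [hresθ]; exact θ.2
    obtain ⟨hgal, -⟩ := Cfsg.Agent.Lib.Helper85.gallagher C χ.2 hirr
    have hnc : ¬ ∀ a b : G ⧸ C, a * b = b * a := by
      intro hcomm
      apply hC
      exact (Subgroup.Normal.quotient_commutative_iff_commutator_le (N := C)).1 ⟨⟨hcomm⟩⟩
    obtain ⟨β, hβ⟩ := exists_nonlinear_of_not_comm hnc
    have hβχ := hgal β
    let ψ : IrrCharacter G := ⟨_, hβχ⟩
    have hψb := hb ψ
    have hψ1 : (charDegree (ψ : G → ℂ) : ℂ)
        = (charDegree (β : G ⧸ C → ℂ) : ℂ) * (charDegree (χ : G → ℂ) : ℂ) := by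
      rw [charDegree_cast (IrrCharacter_isCharacter ψ), charDegree_cast (IrrCharacter_isCharacter β),
        charDegree_cast (IrrCharacter_isCharacter χ)]
      rfl
    have hψ2 : charDegree (ψ : G → ℂ) = charDegree (β : G ⧸ C → ℂ) * charDegree (χ : G → ℂ) := by
      exact_mod_cast hψ1
    have hβ2 : 2 ≤ charDegree (β : G ⧸ C → ℂ) := by
      have h0 : charDegree (β : G ⧸ C → ℂ) ≠ 0 := by
        intro h
        have := charDegree_cast (IrrCharacter_isCharacter β)
        rw [h, Nat.cast_zero] at this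
        exact irr_degree_ne_zero β this.symm
      have h1 : charDegree (β : G ⧸ C → ℂ) ≠ 1 := by
        intro h
        have := charDegree_cast (IrrCharacter_isCharacter β)
        rw [h, Nat.cast_one] at this
        exact hβ this.symm
      omega
    calc 2 * charDegree (θ : C → ℂ) ≤ charDegree (β : G ⧸ C → ℂ) * charDegree (θ : C → ℂ) :=
          Nat.mul_le_mul_right _ hβ2
      _ = charDegree (ψ : G → ℂ) := by rw [hψ2, hχθ]
      _ ≤ b := hψb

end Cfsg.Agent.Lib.Helper01.IP
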