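import Mathlib
import Cfsg.Agent.Lib.Helper41.InvBDefs

/-!
# K-IB-12 (keystone 392817, pack of helper41 for S3928): an abelian minimal normal subgroup of exponent 2

`Γ = ⟨T, a⟩`, `Z(Γ) = 1`, `N` minimal normal, abelian of exponent 2: `Drop a N` and `|N| ≤ m^(2m)`.
-/

set_option autoImplicit false
set_option linter.unusedVariables false
set_option linter.unusedSectionVars false

namespace Cfsg.Agent.Lib.Helper01.InvB

open Cfsg.Agent.Lib.Helper41.InvB

variable {Γ : Type*} [Group Γ]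

/-- an involution `d` acting on an elementary abelian 2-group `V`: `|V| ≤ |C_V(d)|²` -/
theorem card_le_sq_of_involution_12 [Finite Γ] (V : Subgroup Γ) (d : Γ)
    (hab : ∀ x ∈ V, ∀ y ∈ V, x * y = y * x) (hexp : ∀ x ∈ V, x * x = 1)
    (hd : ∀ x ∈ V, d * x * d⁻¹ ∈ V) (hd2 : d * d = 1) :
    Nat.card V ≤ Nat.card ↥(V ⊓ Subgroup.centralizer {d}) ^ 2 := by
  have hdinv : d⁻¹ = d := inv_eq_of_mul_eq_one_left hd2
  let φ : ↥V →* ↥V :=
    { toFun := fun w => ⟨(w : Γ) * (d * w * d⁻¹), V.mul_mem w.2 (hd w w.2)⟩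
      map_one' := by
        apply Subtype.ext
        simp
      map_mul' := by
        intro x y
        apply Subtype.ext
        show (x : Γ) * y * (d * (x * y) * d⁻¹) = x * (d * x * d⁻¹) * (y * (d * y * d⁻¹))
        have h1 : (y : Γ) * (d * x * d⁻¹) = (d * x * d⁻¹) * y := hab _ y.2 _ (hd x x.2)
        calc (x : Γ) * y * (d * (x * y) * d⁻¹)
            = x * (y * (d * x * d⁻¹)) * (d * y * d⁻¹) := by group
          _ = x * ((d * x * d⁻¹) * y) * (d * y * d⁻¹) := by rw [h1]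
          _ = x * (d * x * d⁻¹) * (y * (d * y * d⁻¹)) := by group }
  have hφ : ∀ w : ↥V, ((φ w : ↥V) : Γ) = (w : Γ) * (d * w * d⁻¹) := fun w => rfl
  obtain ⟨F, hF⟩ : ∃ F : Subgroup Γ, F = V ⊓ Subgroup.centralizer {d} := ⟨_, rfl⟩
  rw [← hF]
  have hFV : F ≤ V := hF ▸ inf_le_left
  have hcF : Nat.card (F.subgroupOf V) = Nat.card F :=
    Nat.card_congr (Subgroup.subgroupOfEquivOfLe hFV).toEquiv
  have hmemF : ∀ x ∈ V, d * x * d⁻¹ = x → x ∈ F := by
    intro x hx hc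
    rw [hF]
    refine Subgroup.mem_inf.mpr ⟨hx, ?_⟩
    rw [Subgroup.mem_centralizer_iff]
    intro y hy
    rw [Set.mem_singleton_iff] at hy
    subst hy
    calc y * x = (y * x * y⁻¹) * y := by group
      _ = x * y := by rw [hc]
  have hker : φ.ker ≤ F.subgroupOf V := by
    intro w hw
    rw [MonoidHom.mem_ker] at hw
    have h1 : (w : Γ) * (d * w * d⁻¹) = 1 := by
      rw [← hφ, hw]
      rfl
    rw [Subgroup.mem_subgroupOf]
    apply hmemF _ w.2
    have h2 : (w : Γ) * w = 1 := hexp w w.2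
    have h3 : d * (w : Γ) * d⁻¹ = (w : Γ)⁻¹ := eq_inv_of_mul_eq_one_right h1
    rw [h3]
    exact inv_eq_of_mul_eq_one_left h2
  have hrange : φ.range ≤ F.subgroupOf V := by
    rintro _ ⟨w, rfl⟩
    rw [Subgroup.mem_subgroupOf]
    apply hmemF _ (φ w).2
    rw [hφ]
    have h1 : (w : Γ) * (d * w * d⁻¹) = (d * w * d⁻¹) * w := hab _ w.2 _ (hd w w.2)
    calc d * ((w : Γ) * (d * w * d⁻¹)) * d⁻¹ = (d * w * d⁻¹) * ((d * d) * w * (d * d)⁻¹) := by group
      _ = (d * w * d⁻¹) * w := by rw [hd2, one_mul, inv_one, mul_one]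
      _ = (w : Γ) * (d * w * d⁻¹) := h1.symm
  have h1 := Subgroup.card_mul_index φ.ker
  rw [Subgroup.index_ker] at h1
  have h2 : Nat.card φ.ker ≤ Nat.card F := by
    rw [← hcF]
    exact Subgroup.card_le_of_le hker
  have h3 : Nat.card φ.range ≤ Nat.card F := by
    rw [← hcF]
    exact Subgroup.card_le_of_le hrange
  calc Nat.card V = Nat.card φ.ker * Nat.card φ.range := h1.symm
    _ ≤ Nat.card F * Nat.card F := Nat.mul_le_mul h2 h3
    _ = Nat.card F ^ 2 := (sq _).symm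

/-- the subgroup `[N, t] = {n * (t n t⁻¹)}` for an abelian normal subgroup of exponent 2 -/
theorem exists_commSub_12 (N : Subgroup Γ) (hNn : N.Normal)
    (hab : ∀ x ∈ N, ∀ y ∈ N, x * y = y * x) (hexp : ∀ x ∈ N, x * x = 1) (t : Γ) :
    ∃ W : Subgroup Γ, ∀ x, x ∈ W ↔ ∃ n ∈ N, x = n * (t * n * t⁻¹) := by
  refine ⟨{ carrier := {x | ∃ n ∈ N, x = n * (t * n * t⁻¹)}
            mul_mem' := ?_, one_mem' := ?_, inv_mem' := ?_ }, fun x => Iff.rfl⟩
  · rintro x y ⟨n₁, h₁, rfl⟩ ⟨n₂, h₂, rfl⟩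
    refine ⟨n₁ * n₂, N.mul_mem h₁ h₂, ?_⟩
    have hc : (t * n₁ * t⁻¹) * n₂ = n₂ * (t * n₁ * t⁻¹) := hab _ (hNn.conj_mem n₁ h₁ t) _ h₂
    calc n₁ * (t * n₁ * t⁻¹) * (n₂ * (t * n₂ * t⁻¹))
        = n₁ * ((t * n₁ * t⁻¹) * n₂) * (t * n₂ * t⁻¹) := by group
      _ = n₁ * (n₂ * (t * n₁ * t⁻¹)) * (t * n₂ * t⁻¹) := by rw [hc]
      _ = n₁ * n₂ * (t * (n₁ * n₂) * t⁻¹) := by group
  · exact ⟨1, N.one_mem, by group⟩
  · rintro x ⟨n, hn, rfl⟩
    refine ⟨n, hn, ?_⟩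
    have hx : n * (t * n * t⁻¹) ∈ N := N.mul_mem hn (hNn.conj_mem n hn t)
    exact inv_eq_of_mul_eq_one_left (hexp _ hx)

/-- **LEAF 12 (392817).** -/
theorem minNormal_abelian_two [Finite Γ] (a : Γ) (hg : Gen a) (hZ : Subgroup.center Γ = ⊥)
    (N : Subgroup Γ)
    (hN : IsMinNormal N) (hab : ∀ x ∈ N, ∀ y ∈ N, x * y = y * x)
    (hexp : ∀ x ∈ N, x ^ 2 = 1) (m : ℕ) (hm : Nat.card (TG a) ≤ m) :
    Drop a N ∧ Nat.card N ≤ m ^ (2 * m) := by
  obtain ⟨ha, hcl⟩ := hg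
  obtain ⟨hNn, hN1, hNmin⟩ := hN
  have hainv : a⁻¹ = a := inv_eq_of_mul_eq_one_left ha
  have hexp' : ∀ x ∈ N, x * x = 1 := fun x hx => by
    rw [← sq]
    exact hexp x hx
  have hinv : ∀ x ∈ N, x⁻¹ = x := fun x hx => inv_eq_of_mul_eq_one_left (hexp' x hx)
  have hWex := fun t : Γ => exists_commSub_12 N hNn hab hexp' t
  choose W hW using hWex
  have hWN : ∀ t, W t ≤ N := by
    intro t x hx
    obtain ⟨n, hn, rfl⟩ := (hW t x).mp hx
    exact N.mul_mem hn (hNn.conj_mem n hn t)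
  have hdd : ∀ t ∈ TG a, (t * a) * (t * a) = 1 := by
    intro t ht
    have h2 : a * t * a⁻¹ = t⁻¹ := ht.2
    rw [hainv] at h2
    calc t * a * (t * a) = t * (a * t * a) := by group
      _ = t * t⁻¹ := by rw [h2]
      _ = 1 := mul_inv_cancel t
  have hdW : ∀ t ∈ TG a, ∀ x ∈ W t, (t * a) * x * (t * a)⁻¹ ∈ W t := by
    intro t ht x hx
    obtain ⟨n, hn, rfl⟩ := (hW t x).mp hx
    rw [hW t]
    have h2 : a * t * a⁻¹ = t⁻¹ := ht.2
    refine ⟨a * n * a⁻¹, hNn.conj_mem n hn a, ?_⟩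
    have h3 : a * t⁻¹ * a⁻¹ = t := by
      have : a * t⁻¹ * a⁻¹ = (a * t * a⁻¹)⁻¹ := by group
      rw [this, h2, inv_inv]
    have hc : (t * (a * n * a⁻¹) * t⁻¹) * (a * n * a⁻¹) =
        (a * n * a⁻¹) * (t * (a * n * a⁻¹) * t⁻¹) :=
      hab _ (hNn.conj_mem _ (hNn.conj_mem n hn a) t) _ (hNn.conj_mem n hn a)
    calc t * a * (n * (t * n * t⁻¹)) * (t * a)⁻¹
        = t * (a * n * a⁻¹) * (a * t * a⁻¹) * (a * n * a⁻¹) * (a * t⁻¹ * a⁻¹) * t⁻¹ := by group
      _ = t * (a * n * a⁻¹) * t⁻¹ * (a * n * a⁻¹) * t * t⁻¹ := by rw [h2, h3]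
      _ = (t * (a * n * a⁻¹) * t⁻¹) * (a * n * a⁻¹) := by group
      _ = _ := hc
  -- the norm computation
  have hpow : ∀ t : Γ, ∀ n ∈ N, ∀ k : ℕ,
      (n * (t * n * t⁻¹) * t) ^ k = n * (t ^ k * n * (t ^ k)⁻¹) * t ^ k := by
    intro t n hn k
    induction k with
    | zero => simp [hexp' n hn]
    | succ k ih =>
      rw [pow_succ, ih, pow_succ]
      have hc := hexp' _ (hNn.conj_mem n hn (t ^ k))
      generalize t ^ k = T at hc ⊢
      calc n * (T * n * T⁻¹) * T * (n * (t * n * t⁻¹) * t)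
          = n * ((T * n * T⁻¹) * (T * n * T⁻¹)) * ((T * t) * n * (T * t)⁻¹) * (T * t) := by group
        _ = n * ((T * t) * n * (T * t)⁻¹) * (T * t) := by rw [hc, mul_one]
  have hTF : ∀ t ∈ TG a, ∀ w ∈ W t, (t * a) * w = w * (t * a) → w * t ∈ TG a := by
    intro t ht w hw hcomm
    have hwN : w ∈ N := hWN t hw
    refine ⟨?_, ?_⟩
    · obtain ⟨n, hn, rfl⟩ := (hW t w).mp hw
      have h1 := hpow t n hn (orderOf t)
      rw [pow_orderOf_eq_one, one_mul, inv_one, mul_one, mul_one, hexp' n hn] at h1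
      exact Odd.of_dvd_nat ht.1 (orderOf_dvd_of_pow_eq_one h1)
    · have h2 : a * t * a⁻¹ = t⁻¹ := ht.2
      have h4 : a * w * a⁻¹ = t⁻¹ * w * t := by
        calc a * w * a⁻¹ = t⁻¹ * ((t * a) * w) * a⁻¹ := by group
          _ = t⁻¹ * (w * (t * a)) * a⁻¹ := by rw [hcomm]
          _ = t⁻¹ * w * t := by group
      calc a * (w * t) * a⁻¹ = (a * w * a⁻¹) * (a * t * a⁻¹) := by group
        _ = (t⁻¹ * w * t) * t⁻¹ := by rw [h4, h2]
        _ = t⁻¹ * w := by group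
        _ = t⁻¹ * w⁻¹ := by rw [hinv w hwN]
        _ = (w * t)⁻¹ := by group
  have hFm : ∀ t ∈ TG a, Nat.card ↥(W t ⊓ Subgroup.centralizer {t * a}) ≤ m := by
    intro t ht
    refine le_trans ?_ hm
    let f : ↥(W t ⊓ Subgroup.centralizer {t * a}) → ↥(TG a) := fun w =>
      ⟨(w : Γ) * t, hTF t ht w (Subgroup.mem_inf.mp w.2).1
        ((Subgroup.mem_centralizer_iff.mp (Subgroup.mem_inf.mp w.2).2) (t * a) rfl)⟩
    apply Nat.card_le_card_of_injective f
    intro w₁ w₂ h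
    have h1 : (w₁ : Γ) * t = w₂ * t := congrArg Subtype.val h
    exact Subtype.ext (mul_right_cancel h1)
  have hWsq : ∀ t ∈ TG a, Nat.card (W t) ≤ Nat.card ↥(W t ⊓ Subgroup.centralizer {t * a}) ^ 2 := by
    intro t ht
    exact card_le_sq_of_involution_12 (W t) (t * a)
      (fun x hx y hy => hab x (hWN t hx) y (hWN t hy))
      (fun x hx => hexp' x (hWN t hx)) (hdW t ht) (hdd t ht)
  have hWm : ∀ t ∈ TG a, Nat.card (W t) ≤ m ^ 2 := fun t ht =>
    (hWsq t ht).trans (Nat.pow_le_pow_left (hFm t ht) 2)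
  -- some `W t ≠ ⊥`
  have hex : ∃ t ∈ TG a, W t ≠ ⊥ := by
    by_contra hcon
    push Not at hcon
    have hcomT : ∀ t ∈ TG a, ∀ n ∈ N, t * n = n * t := by
      intro t ht n hn
      have h1 : n * (t * n * t⁻¹) ∈ W t := (hW t _).mpr ⟨n, hn, rfl⟩
      rw [hcon t ht, Subgroup.mem_bot] at h1
      have h2 : t * n * t⁻¹ = n := by
        have h3 : t * n * t⁻¹ = n⁻¹ := eq_inv_of_mul_eq_one_right h1
        rw [h3, hinv n hn]
      calc t * n = (t * n * t⁻¹) * t := by group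
        _ = n * t := by rw [h2]
    obtain ⟨n₀, hn₀, hn₀1⟩ : ∃ n ∈ N, n ≠ 1 := by
      by_contra h
      push Not at h
      exact hN1 ((Subgroup.eq_bot_iff_forall N).mpr h)
    obtain ⟨z, hzN, hz1, hza⟩ : ∃ z ∈ N, z ≠ 1 ∧ a * z = z * a := by
      by_cases hc : n₀ * (a * n₀ * a⁻¹) = 1
      · refine ⟨n₀, hn₀, hn₀1, ?_⟩
        have h1 : a * n₀ * a⁻¹ = n₀ := by
          have h := eq_inv_of_mul_eq_one_right hc
          rw [h, hinv n₀ hn₀]
        calc a * n₀ = (a * n₀ * a⁻¹) * a := by group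
          _ = n₀ * a := by rw [h1]
      · refine ⟨n₀ * (a * n₀ * a⁻¹), N.mul_mem hn₀ (hNn.conj_mem n₀ hn₀ a), hc, ?_⟩
        have hcm : (a * n₀ * a⁻¹) * n₀ = n₀ * (a * n₀ * a⁻¹) :=
          hab _ (hNn.conj_mem n₀ hn₀ a) _ hn₀
        calc a * (n₀ * (a * n₀ * a⁻¹)) = (a * n₀ * a⁻¹) * ((a * a) * n₀ * a⁻¹) := by group
          _ = (a * n₀ * a⁻¹) * (n₀ * a⁻¹) := by rw [ha, one_mul]
          _ = ((a * n₀ * a⁻¹) * n₀) * a⁻¹ := by group
          _ = (n₀ * (a * n₀ * a⁻¹)) * a⁻¹ := by rw [hcm]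
          _ = (n₀ * (a * n₀ * a⁻¹)) * a := by rw [hainv]
    have hzc : z ∈ Subgroup.center Γ := by
      rw [Subgroup.mem_center_iff]
      intro g
      have hle : Subgroup.closure (TG a ∪ {a}) ≤ Subgroup.centralizer {z} := by
        rw [Subgroup.closure_le]
        rintro g (hg | hg)
        · rw [SetLike.mem_coe, Subgroup.mem_centralizer_iff]
          intro y hy
          rw [Set.mem_singleton_iff] at hy
          subst hy
          exact (hcomT g hg y hzN).symm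
        · rw [Set.mem_singleton_iff] at hg
          subst hg
          rw [SetLike.mem_coe, Subgroup.mem_centralizer_iff]
          intro y hy
          rw [Set.mem_singleton_iff] at hy
          subst hy
          exact hza.symm
      have hgm : g ∈ Subgroup.centralizer {z} := hle (by rw [hcl]; trivial)
      exact ((Subgroup.mem_centralizer_iff.mp hgm) z rfl).symm
    rw [hZ, Subgroup.mem_bot] at hzc
    exact hz1 hzc
  obtain ⟨t₀, ht₀, hWt₀⟩ := hex
  -- `Drop`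
  have hFne : (W t₀ ⊓ Subgroup.centralizer {t₀ * a}) ≠ ⊥ := by
    intro hbot
    have h1 := hWsq t₀ ht₀
    rw [hbot, Subgroup.card_bot, one_pow] at h1
    exact hWt₀ ((W t₀).eq_bot_of_card_le h1)
  obtain ⟨w, hw1⟩ := (Subgroup.ne_bot_iff_exists_ne_one).mp hFne
  have hwW : (w : Γ) ∈ W t₀ := (Subgroup.mem_inf.mp w.2).1
  have hwc : (t₀ * a) * (w : Γ) = w * (t₀ * a) :=
    (Subgroup.mem_centralizer_iff.mp (Subgroup.mem_inf.mp w.2).2) (t₀ * a) rfl
  have hdrop : Drop a N := by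
    refine ⟨t₀, ht₀, (w : Γ) * t₀, hTF t₀ ht₀ w hwW hwc, ?_, ?_⟩
    · intro h
      apply hw1
      apply Subtype.ext
      have h2 : (w : Γ) * t₀ = 1 * t₀ := by rw [one_mul]; exact h.symm
      exact mul_right_cancel h2
    · have e : t₀⁻¹ * ((w : Γ) * t₀) = t₀⁻¹ * w * t₀⁻¹⁻¹ := by group
      rw [e]
      exact hNn.conj_mem _ (hWN t₀ hwW) t₀⁻¹
  refine ⟨hdrop, ?_⟩
  -- the bound
  have hfin : Fintype ↥(TG a) := Fintype.ofFinite _
  obtain ⟨M, hMdef⟩ : ∃ M : Subgroup Γ, M = ⨆ t : ↥(TG a), W t := ⟨_, rfl⟩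
  have hWM : ∀ t ∈ TG a, W t ≤ M := by
    intro t ht
    rw [hMdef]
    exact le_iSup (fun t : ↥(TG a) => W t) ⟨t, ht⟩
  have hMN : M ≤ N := by
    rw [hMdef]
    exact iSup_le (fun t => hWN t)
  have hMne : M ≠ ⊥ := by
    intro h
    apply hWt₀
    rw [eq_bot_iff, ← h]
    exact hWM t₀ ht₀
  have hPT : ∀ s ∈ TG a, ∀ x ∈ M, s * x * s⁻¹ ∈ M := by
    intro s hs x hx
    rw [hMdef] at hx
    refine Subgroup.iSup_induction (fun t : ↥(TG a) => W t)
      (C := fun x => s * x * s⁻¹ ∈ M) hx ?_ ?_ ?_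
    · intro t y hy
      have hyN : y ∈ N := hWN t hy
      have h1 : s * y * s⁻¹ = y * (y * (s * y * s⁻¹)) := by
        rw [← mul_assoc, hexp' y hyN, one_mul]
      rw [h1]
      exact M.mul_mem (hWM t t.2 hy) (hWM s hs ((hW s _).mpr ⟨y, hyN, rfl⟩))
    · simp only [mul_one, mul_inv_cancel]
      exact M.one_mem
    · intro y z hy hz
      have e : s * (y * z) * s⁻¹ = (s * y * s⁻¹) * (s * z * s⁻¹) := by group
      rw [e]
      exact M.mul_mem hy hz
  have hPa : ∀ x ∈ M, a * x * a⁻¹ ∈ M := by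
    intro x hx
    rw [hMdef] at hx
    refine Subgroup.iSup_induction (fun t : ↥(TG a) => W t)
      (C := fun x => a * x * a⁻¹ ∈ M) hx ?_ ?_ ?_
    · intro t y hy
      obtain ⟨n, hn, rfl⟩ := (hW t y).mp hy
      have h2 : a * (t : Γ) * a⁻¹ = (t : Γ)⁻¹ := t.2.2
      have h3 : a * (t : Γ)⁻¹ * a⁻¹ = t := by
        have e : a * (t : Γ)⁻¹ * a⁻¹ = (a * t * a⁻¹)⁻¹ := by group
        rw [e, h2, inv_inv]
      apply hWM (t : Γ)⁻¹ (inv_mem_TG t.2)
      rw [hW]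
      refine ⟨a * n * a⁻¹, hNn.conj_mem n hn a, ?_⟩
      calc a * (n * ((t : Γ) * n * (t : Γ)⁻¹)) * a⁻¹
          = (a * n * a⁻¹) * ((a * t * a⁻¹) * (a * n * a⁻¹) * (a * (t : Γ)⁻¹ * a⁻¹)) := by group
        _ = (a * n * a⁻¹) * ((t : Γ)⁻¹ * (a * n * a⁻¹) * (t : Γ)⁻¹⁻¹) := by rw [h2, h3, inv_inv]
    · simp only [mul_one, mul_inv_cancel]
      exact M.one_mem
    · intro y z hy hz
      have e : a * (y * z) * a⁻¹ = (a * y * a⁻¹) * (a * z * a⁻¹) := by group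
      rw [e]
      exact M.mul_mem hy hz
  have hMnormal : M.Normal := by
    rw [← Subgroup.normalizer_eq_top_iff, eq_top_iff, ← hcl, Subgroup.closure_le]
    rintro g (hg | hg)
    · rw [SetLike.mem_coe, Subgroup.mem_normalizer_iff]
      intro x
      constructor
      · exact hPT g hg x
      · intro h
        have h1 := hPT g⁻¹ (inv_mem_TG hg) _ h
        have e : g⁻¹ * (g * x * g⁻¹) * g⁻¹⁻¹ = x := by group
        rwa [e] at h1
    · rw [Set.mem_singleton_iff] at hg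
      subst hg
      rw [SetLike.mem_coe, Subgroup.mem_normalizer_iff]
      intro x
      constructor
      · exact hPa x
      · intro h
        have h1 := hPa _ h
        have e : g * (g * x * g⁻¹) * g⁻¹ = (g * g) * x * (g * g)⁻¹ := by group
        rw [e, ha, one_mul, inv_one, mul_one] at h1
        exact h1
  have hMeq : M = N := (hNmin M hMnormal hMN).resolve_left hMne
  have hcommW : Pairwise fun i j : ↥(TG a) => ∀ x y : Γ, x ∈ W i → y ∈ W j → Commute x y := by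
    intro i j _ x y hx hy
    exact hab x (hWN i hx) y (hWN j hy)
  have hcardM : Nat.card M ≤ ∏ t : ↥(TG a), Nat.card (W t) := by
    rw [← Nat.card_pi]
    have hs : Function.Surjective (Subgroup.noncommPiCoprod hcommW).rangeRestrict :=
      MonoidHom.rangeRestrict_surjective _
    have h1 := Nat.card_le_card_of_surjective _ hs
    rw [Subgroup.noncommPiCoprod_range, ← hMdef] at h1
    exact h1
  have hprod : ∏ t : ↥(TG a), Nat.card (W t) ≤ (m ^ 2) ^ Nat.card ↥(TG a) := by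
    rw [Nat.card_eq_fintype_card, ← Finset.card_univ, ← Finset.prod_const]
    exact Finset.prod_le_prod (fun _ _ => Nat.zero_le _) (fun t _ => hWm t t.2)
  have hTpos : 0 < Nat.card ↥(TG a) := by
    have hne : Nonempty ↥(TG a) := ⟨⟨1, one_mem_TG a⟩⟩
    exact Nat.card_pos
  have hmpos : 0 < m := lt_of_lt_of_le hTpos hm
  calc Nat.card N = Nat.card M := by rw [hMeq]
    _ ≤ (m ^ 2) ^ Nat.card ↥(TG a) := hcardM.trans hprod
    _ ≤ (m ^ 2) ^ m := Nat.pow_le_pow_right (Nat.pow_pos hmpos) hm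
    _ = m ^ (2 * m) := (pow_mul m 2 m).symm

end Cfsg.Agent.Lib.Helper01.InvB
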