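import Mathlib
import Cfsg.Agent.Lib.Helper41.InvBDefs
import Cfsg.Agent.Lib.Helper97.InvBGenQuot
import Cfsg.Agent.Lib.Helper56.InvBLift

/-!
# K-IB-4c (keystone 392806, pack of helper41 for S3928): passing to `Γ ⧸ N` loses members of `TG` under `Drop`
-/

set_option autoImplicit false
set_option linter.unusedSectionVars false

namespace Cfsg.Agent.Lib.Helper01.InvB

open Cfsg.Agent.Lib.Helper41.InvB

variable {Γ : Type*} [Group Γ] [Finite Γ]

/-- hypothesis form (leaf 3 as a hypothesis) -/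
theorem card_TG_quot_lt_of (a : Γ) (N : Subgroup Γ) [N.Normal]
    (hlift : ∀ y ∈ TG (QuotientGroup.mk a : Γ ⧸ N), ∃ g ∈ TG a, (QuotientGroup.mk g : Γ ⧸ N) = y)
    (hd : Drop a N) :
    Nat.card (TG (QuotientGroup.mk a : Γ ⧸ N)) < Nat.card (TG a) := by
  classical
  have hf1 : Fintype ↥(TG a) := Fintype.ofFinite _
  have hf2 : Fintype ↥(TG (QuotientGroup.mk a : Γ ⧸ N)) := Fintype.ofFinite _
  rw [Nat.card_eq_fintype_card, Nat.card_eq_fintype_card]
  let f : ↥(TG a) → ↥(TG (QuotientGroup.mk a : Γ ⧸ N)) :=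
    fun g => ⟨QuotientGroup.mk (g : Γ), Cfsg.Agent.Lib.Helper97.InvB.mk_mem_TG a N g.2⟩
  apply Fintype.card_lt_of_surjective_not_injective f
  · rintro ⟨y, hy⟩
    obtain ⟨g, hg, hgy⟩ := hlift y hy
    exact ⟨⟨g, hg⟩, Subtype.ext hgy⟩
  · intro hinj
    obtain ⟨t, ht, t', ht', hne, hN⟩ := hd
    have h1 : f ⟨t, ht⟩ = f ⟨t', ht'⟩ := by
      apply Subtype.ext
      show (QuotientGroup.mk t : Γ ⧸ N) = QuotientGroup.mk t'
      exact QuotientGroup.eq.mpr hN
    have h2 := hinj h1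
    exact hne (congrArg Subtype.val h2)

/-- **LEAF 4c (392806).** -/
theorem card_TG_quot_lt (a : Γ) (ha : a * a = 1) (N : Subgroup Γ) [N.Normal] (hd : Drop a N) :
    Nat.card (TG (QuotientGroup.mk a : Γ ⧸ N)) < Nat.card (TG a) :=
  card_TG_quot_lt_of a N (fun y hy => Cfsg.Agent.Lib.Helper56.InvB.exists_lift a ha N y hy) hd

end Cfsg.Agent.Lib.Helper01.InvB
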