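import Mathlib
import Cfsg.Prelude.Def_Local
import Cfsg.Agent.Lib.Helper12.LBDefs
import Cfsg.Agent.Lib.Helper29.LBalance
import Cfsg.Agent.Lib.Helper29.CompCore
import Cfsg.Agent.Lib.Helper38.PGroup

/-!
Keystone K-S1301-LB-SYL (helper12's S1301 pack): a `P`-invariant Sylow `2`-subgroup of `E(G)` and the
subgroup `Zh` (second centre modulo `Z(E(G))`).
-/

set_option autoImplicit false
set_option linter.style.haveILetI false
universe u

namespace Cfsg.Agent.Lib.Helper01.LB

open Cfsg Cfsg.Agent.Lib.Helper12.LB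

variable {G : Type u} [Group G] [Finite G]

/-- The index of a Sylow subgroup in a normal subgroup (relative) is prime to `p`. -/
theorem not_dvd_relIndex_of_normal {p : ℕ} [Fact p.Prime] (T : Sylow p G) (E : Subgroup G)
    [E.Normal] : ¬ p ∣ (T : Subgroup G).relIndex E := by
  have h1 : ((T : Subgroup G) ⊓ E).relIndex T * (T : Subgroup G).relIndex ((T : Subgroup G) ⊔ E) =
      ((T : Subgroup G) ⊓ E).relIndex ((T : Subgroup G) ⊔ E) :=
    Subgroup.relIndex_mul_relIndex _ _ _ inf_le_left le_sup_left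
  have h2 : ((T : Subgroup G) ⊓ E).relIndex E * E.relIndex ((T : Subgroup G) ⊔ E) =
      ((T : Subgroup G) ⊓ E).relIndex ((T : Subgroup G) ⊔ E) :=
    Subgroup.relIndex_mul_relIndex _ _ _ inf_le_right le_sup_right
  have h3 : E.relIndex ((T : Subgroup G) ⊔ E) = E.relIndex T := Subgroup.relIndex_sup_right _ _
  have h4 : ((T : Subgroup G) ⊓ E).relIndex T = E.relIndex T := Subgroup.inf_relIndex_left _ _
  have h5 : ((T : Subgroup G) ⊓ E).relIndex E = (T : Subgroup G).relIndex E :=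
    Subgroup.inf_relIndex_right _ _
  have h0 : E.relIndex T ≠ 0 := by
    have : (E.subgroupOf T).FiniteIndex := inferInstance
    exact Subgroup.FiniteIndex.index_ne_zero
  have h6 : (T : Subgroup G).relIndex ((T : Subgroup G) ⊔ E) = (T : Subgroup G).relIndex E := by
    rw [h4] at h1
    rw [h3, h5, ← h1, mul_comm] at h2
    exact (Nat.eq_of_mul_eq_mul_left (Nat.pos_of_ne_zero h0) h2).symm
  intro hdvd
  rw [← h6] at hdvd
  exact T.not_dvd_index (hdvd.trans (Subgroup.relIndex_dvd_index_of_le le_sup_left))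

theorem exists_sylow_and_Zhat (hO : pPrimeCore 2 G = ⊥) (hE : layer G ≠ ⊥) (P : Subgroup G)
    (hP : IsPGroup 2 P)
    (hZP : layer G ⊓ Subgroup.centralizer (layer G : Set G) ≤ P)
    (S₁ : Sylow 2 ↥(layer G ⊓ Subgroup.normalizer (P : Set G))) :
    ∃ (S : Sylow 2 ↥(layer G)) (Zh : Subgroup G), IsPGroup 2 Zh ∧
      Zh ≤ (S₁ : Subgroup ↥(layer G ⊓ Subgroup.normalizer (P : Set G))).map
        (layer G ⊓ Subgroup.normalizer (P : Set G)).subtype ∧
      (S : Subgroup ↥(layer G)).map (layer G).subtype ≤ Subgroup.normalizer (Zh : Set G) ∧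
      P ≤ Subgroup.normalizer (Zh : Set G) ∧ Subgroup.normalizer (Zh : Set G) ≠ ⊤ := by
  haveI : Fact (Nat.Prime 2) := ⟨Nat.prime_two⟩
  haveI hEn : (layer G).Normal := Cfsg.Agent.Lib.Helper30.layer_normal
  haveI hCn : (Subgroup.centralizer (layer G : Set G)).Normal := Subgroup.normal_centralizer
  set S₁' : Subgroup G := (S₁ : Subgroup _).map
    (layer G ⊓ Subgroup.normalizer (P : Set G)).subtype with hS₁'
  have hS₁'M : S₁' ≤ layer G ⊓ Subgroup.normalizer (P : Set G) := Subgroup.map_subtype_le _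
  have hS₁'p : IsPGroup 2 S₁' := S₁.isPGroup'.map _
  have hT₀ : IsPGroup 2 (P ⊔ S₁' : Subgroup G) :=
    IsPGroup.to_sup_of_normal_left' hP hS₁'p (hS₁'M.trans inf_le_right)
  obtain ⟨T, hT⟩ := hT₀.exists_le_sylow
  have hPT : P ≤ T := le_sup_left.trans hT
  have hS₁'T : S₁' ≤ T := le_sup_right.trans hT
  set Z : Subgroup G := layer G ⊓ Subgroup.centralizer (layer G : Set G) with hZ
  haveI hZn : Z.Normal := Subgroup.normal_inf_normal _ _
  set S' : Subgroup G := (T : Subgroup G) ⊓ layer G with hS'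
  have hZS' : Z ≤ S' := le_inf (hZP.trans hPT) inf_le_left
  have hS'p : IsPGroup 2 S' := T.isPGroup'.to_le inf_le_left
  -- (2)
  have h2 : S' ⊓ Subgroup.normalizer (P : Set G) ≤ S₁' := by
    have hle : S' ⊓ Subgroup.normalizer (P : Set G) ≤
        layer G ⊓ Subgroup.normalizer (P : Set G) := fun x hx => ⟨hx.1.2, hx.2⟩
    have hp : IsPGroup 2 ((S' ⊓ Subgroup.normalizer (P : Set G)).subgroupOf
        (layer G ⊓ Subgroup.normalizer (P : Set G))) :=
      (hS'p.to_le inf_le_left).comap_subtype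
    have hge : (S₁ : Subgroup ↥(layer G ⊓ Subgroup.normalizer (P : Set G))) ≤
        (S' ⊓ Subgroup.normalizer (P : Set G)).subgroupOf
          (layer G ⊓ Subgroup.normalizer (P : Set G)) := by
      intro x hx
      rw [Subgroup.mem_subgroupOf]
      have hx' : (x : G) ∈ S₁' := Subgroup.mem_map_of_mem _ hx
      exact ⟨⟨hS₁'T hx', x.2.1⟩, x.2.2⟩
    have heq := S₁.is_maximal' hp hge
    intro x hx
    have : (⟨x, hle hx⟩ : ↥(layer G ⊓ Subgroup.normalizer (P : Set G))) ∈
        (S₁ : Subgroup ↥(layer G ⊓ Subgroup.normalizer (P : Set G))) := by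
      rw [← heq, Subgroup.mem_subgroupOf]; exact hx
    exact ⟨⟨x, hle hx⟩, this, rfl⟩
  -- (3)
  set T' : Subgroup G := S' ⊔ P with hT'
  have hT'T : T' ≤ T := sup_le inf_le_left hPT
  have hT'S' : ∀ t ∈ T', ∀ x ∈ S', t * x * t⁻¹ ∈ S' := by
    intro t ht x hx
    exact ⟨(T : Subgroup G).mul_mem ((T : Subgroup G).mul_mem (hT'T ht) hx.1)
      ((T : Subgroup G).inv_mem (hT'T ht)), hEn.conj_mem x hx.2 t⟩
  set Zh : Subgroup G := S' ⊓ (Subgroup.centralizer
    ((T'.map (QuotientGroup.mk' Z) : Subgroup (G ⧸ Z)) : Set (G ⧸ Z))).comap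
      (QuotientGroup.mk' Z) with hZh
  have hmemZh : ∀ x, x ∈ Zh ↔ x ∈ S' ∧ ∀ t ∈ T',
      QuotientGroup.mk' Z t * QuotientGroup.mk' Z x =
        QuotientGroup.mk' Z x * QuotientGroup.mk' Z t := by
    intro x
    rw [hZh, Subgroup.mem_inf, Subgroup.mem_comap, Subgroup.mem_centralizer_iff]
    constructor
    · rintro ⟨h1, h2⟩
      exact ⟨h1, fun t ht => h2 _ (Subgroup.mem_map_of_mem _ ht)⟩
    · rintro ⟨h1, h2⟩
      refine ⟨h1, ?_⟩
      rintro _ ⟨t, ht, rfl⟩
      exact h2 t ht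
  have hconj : ∀ t ∈ T', ∀ x ∈ Zh, t * x * t⁻¹ ∈ Zh := by
    intro t ht x hx
    rw [hmemZh] at hx ⊢
    refine ⟨hT'S' t ht x hx.1, ?_⟩
    intro s hs
    have e1 : QuotientGroup.mk' Z (t * x * t⁻¹) = QuotientGroup.mk' Z x := by
      rw [map_mul, map_mul, hx.2 t ht, map_inv, mul_inv_cancel_right]
    rw [e1]; exact hx.2 s hs
  have hT'N : T' ≤ Subgroup.normalizer (Zh : Set G) := by
    intro t ht
    rw [Subgroup.mem_normalizer_iff]
    intro x
    constructor
    · exact hconj t ht x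
    · intro h
      have := hconj t⁻¹ (T'.inv_mem ht) _ h
      simpa [mul_assoc] using this
  have hZhS' : Zh ≤ S' := fun x hx => ((hmemZh x).1 hx).1
  have hZhp : IsPGroup 2 Zh := hS'p.to_le hZhS'
  -- (4)
  have hZhS₁' : Zh ≤ S₁' := by
    have key : ∀ y ∈ Zh, ∀ p ∈ P, y * p * y⁻¹ ∈ P := by
      intro y hy p hp
      have hy' := ((hmemZh y).1 hy).2 p ((le_sup_right : P ≤ T') hp)
      have hz : (y * p * y⁻¹ * p⁻¹) ∈ Z := by
        rw [← QuotientGroup.eq_one_iff, ← QuotientGroup.mk'_apply, map_mul, map_mul, map_mul,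
          ← hy', map_inv, map_inv]
        group
      have : y * p * y⁻¹ = (y * p * y⁻¹ * p⁻¹) * p := by group
      rw [this]
      exact P.mul_mem (hZP hz) hp
    intro x hx
    apply h2
    refine ⟨hZhS' hx, ?_⟩
    show x ∈ Subgroup.normalizer (P : Set G)
    rw [Subgroup.mem_normalizer_iff]
    intro p
    constructor
    · exact key x hx p
    · intro h
      have := key x⁻¹ (Zh.inv_mem hx) _ h
      simpa [mul_assoc] using this
  -- (5)
  have h5 : ¬ S' ≤ Z := by
    intro hle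
    obtain ⟨L, hL⟩ : ∃ L : Subgroup G, IsComponent L := by
      by_contra hne
      push Not at hne
      apply hE
      unfold layer
      rw [eq_bot_iff]
      exact sSup_le (fun K hK => absurd hK (hne K))
    apply Cfsg.Agent.Lib.Helper29.component_pElements_not_central 2 hO L hL
    rintro s hsL ⟨k, hk⟩
    have hsE : s ∈ layer G := Cfsg.Agent.Lib.Helper30.component_le_layer hL hsL
    have hzp : IsPGroup 2 (Subgroup.zpowers s) := by
      obtain ⟨j, -, hj⟩ := (Nat.dvd_prime_pow Nat.prime_two).1 (orderOf_dvd_of_pow_eq_one hk)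
      exact IsPGroup.of_card (n := j) (by rw [Nat.card_zpowers, hj])
    obtain ⟨T₂, hT₂⟩ := hzp.exists_le_sylow
    obtain ⟨g, rfl⟩ := MulAction.exists_smul_eq G T T₂
    have hs : s ∈ ((g • T : Sylow 2 G) : Subgroup G) := hT₂ (Subgroup.mem_zpowers s)
    rw [Sylow.coe_subgroup_smul, Subgroup.mem_pointwise_smul_iff_inv_smul_mem] at hs
    have hs' : g⁻¹ * s * g ∈ (T : Subgroup G) := by
      simpa [MulAut.smul_def] using hs
    have hsE' : g⁻¹ * s * g ∈ layer G := by
      have := hEn.conj_mem s hsE g⁻¹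
      simpa using this
    have hsZ' : g⁻¹ * s * g ∈ Z := hle ⟨hs', hsE'⟩
    have hsZ : s ∈ Z := by
      have := hZn.conj_mem _ hsZ' g
      simpa [mul_assoc] using this
    exact Subgroup.centralizer_le (Cfsg.Agent.Lib.Helper30.component_le_layer hL) hsZ.2
  -- (6)
  obtain ⟨x, hxZh, hxZ⟩ : ∃ x ∈ Zh, x ∉ Z := by
    have hT'p : IsPGroup 2 T' := T.isPGroup'.to_le hT'T
    have hN₁n : (S'.subgroupOf T').Normal := by
      constructor
      intro n hn g
      exact hT'S' g g.2 n hn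
    haveI hNbarn : ((S'.subgroupOf T').map (QuotientGroup.mk' (Z.subgroupOf T'))).Normal :=
      hN₁n.map _ (QuotientGroup.mk'_surjective _)
    have hNbar : (S'.subgroupOf T').map (QuotientGroup.mk' (Z.subgroupOf T')) ≠ ⊥ := by
      intro h
      apply h5
      intro s hs
      have hsT' : s ∈ T' := (le_sup_left : S' ≤ T') hs
      have hmem : QuotientGroup.mk' (Z.subgroupOf T') ⟨s, hsT'⟩ ∈
          (S'.subgroupOf T').map (QuotientGroup.mk' (Z.subgroupOf T')) :=
        Subgroup.mem_map_of_mem _ (by rw [Subgroup.mem_subgroupOf]; exact hs)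
      rw [h, Subgroup.mem_bot, QuotientGroup.mk'_apply, QuotientGroup.eq_one_iff,
        Subgroup.mem_subgroupOf] at hmem
      exact hmem
    have hQp : IsPGroup 2 (↥T' ⧸ Z.subgroupOf T') := hT'p.to_quotient _
    obtain ⟨z, hzN, hzc, hz1⟩ :=
      Cfsg.Agent.Lib.Helper38.normal_inf_center_ne_bot 2 hQp _ hNbar
    obtain ⟨⟨x, hxT'⟩, hxN₁, rfl⟩ := hzN
    refine ⟨x, ?_, ?_⟩
    · rw [hmemZh]
      refine ⟨hxN₁, ?_⟩
      intro t ht
      have hc := Subgroup.mem_center_iff.mp hzc (QuotientGroup.mk' (Z.subgroupOf T') ⟨t, ht⟩)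
      rw [← map_mul, ← map_mul, QuotientGroup.mk'_apply, QuotientGroup.mk'_apply,
        QuotientGroup.eq, Subgroup.mem_subgroupOf] at hc
      rw [← map_mul, ← map_mul, QuotientGroup.mk'_apply, QuotientGroup.mk'_apply,
        QuotientGroup.eq]
      exact hc
    · intro hx
      apply hz1
      rw [QuotientGroup.mk'_apply, QuotientGroup.eq_one_iff, Subgroup.mem_subgroupOf]
      exact hx
  -- (7)
  have h7 : Subgroup.normalizer (Zh : Set G) ≠ ⊤ := by
    intro htop
    have hZhn : Zh.Normal := Subgroup.normalizer_eq_top_iff.mp htop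
    have h1 : Zh ≤ pCore 2 G := le_sSup ⟨hZhn, hZhp⟩
    have h2' : ⁅layer G, pCore 2 G⁆ = ⊥ :=
      Cfsg.Agent.Lib.Helper30.layer_commute
        (fun K hK => Cfsg.Agent.Lib.Helper28.component_centralizes_pCore 2 hK)
    have h3 : pCore 2 G ≤ Subgroup.centralizer (layer G : Set G) := by
      rw [Subgroup.commutator_comm] at h2'
      exact Subgroup.commutator_eq_bot_iff_le_centralizer.mp h2'
    exact hxZ ⟨(hZhS' hxZh).2, h3 (h1 hxZh)⟩
  -- the Sylow subgroup of `E(G)`
  have hidx : ¬ 2 ∣ ((T : Subgroup G).subgroupOf (layer G)).index :=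
    not_dvd_relIndex_of_normal T (layer G)
  have hTEp : IsPGroup 2 ((T : Subgroup G).subgroupOf (layer G)) := T.isPGroup'.comap_subtype
  refine ⟨hTEp.toSylow hidx, Zh, hZhp, hZhS₁', ?_, (le_sup_right : P ≤ T').trans hT'N, h7⟩
  rw [IsPGroup.toSylow_coe, Subgroup.subgroupOf_map_subtype]
  exact (le_sup_left : S' ≤ T').trans hT'N

end Cfsg.Agent.Lib.Helper01.LB
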