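import Mathlib
import Cfsg.Agent.Lib.Helper05.N3Defs

/-!
Pack K-N3 (statement S4004), leaf C4c `normalizer_zpowers_le` (norm trick 2).

All element orders lie in `{1, r, r'}`, `V` is a nontrivial abelian normal `r`-subgroup, Sylow
`r'`-subgroups have order `r'`, and `c` has order `r'`.  Then `N(⟨c⟩) ≤ ⟨c⟩`.

For `x ∈ N(⟨c⟩)` of order `r` not commuting with `c` we use the conjugates `h x h⁻¹`, `h ∈ ⟨c⟩`:
each has order `r`, so `∏_{i<r} (h x^i h⁻¹) v (h x^i h⁻¹)⁻¹ = 1` for `v ∈ V`; exchanging the two
products, the inner product over `h` for fixed `0 < i < r` is a product over the whole of `⟨c⟩`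
of conjugates of `x^i v x^-i`, which is centralised by `c`, hence trivial; only `i = 0` survives
and gives `v ^ r' = 1`.
-/

set_option autoImplicit false

namespace Cfsg.Agent.Lib.Helper01.N3

open Finset

/-- abstract exchange of products (the heart of the norm trick). -/
theorem pow_card_eq_one_of_norms {G W : Type*} [Group G] [CommGroup W] (φ : G →* MulAut W)
    (x : G) (C : Finset G) (n : ℕ)
    (h1 : ∀ w : W, ∏ h ∈ C, φ h w = 1)
    (h2 : ∀ h ∈ C, ∀ w : W, ∏ i ∈ range (n + 1), φ (h * x ^ i * h⁻¹) w = 1)
    (h3 : ∀ i, 0 < i → i < n + 1 → ∀ h ∈ C, h * x ^ i * h⁻¹ * (x ^ i)⁻¹ ∈ C)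
    (h4 : ∀ i, 0 < i → i < n + 1 → ∀ h ∈ C, ∀ h' ∈ C,
      h * x ^ i * h⁻¹ = h' * x ^ i * h'⁻¹ → h = h')
    (w : W) : w ^ C.card = 1 := by
  classical
  have hA : ∏ h ∈ C, ∏ i ∈ range (n + 1), φ (h * x ^ i * h⁻¹) w = 1 :=
    Finset.prod_eq_one (fun h hh => h2 h hh w)
  rw [Finset.prod_comm, Finset.prod_range_succ'] at hA
  have hB : ∏ i ∈ range n, ∏ h ∈ C, φ (h * x ^ (i + 1) * h⁻¹) w = 1 := by
    apply Finset.prod_eq_one
    intro i hi
    rw [Finset.mem_range] at hi
    set σ : G → G := fun h => h * x ^ (i + 1) * h⁻¹ * (x ^ (i + 1))⁻¹ with hσ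
    have hσC : ∀ h ∈ C, σ h ∈ C := fun h hh => h3 (i + 1) (Nat.succ_pos i) (by omega) h hh
    have hσinj : Set.InjOn σ (C : Set G) := by
      intro a ha b hb hab
      apply h4 (i + 1) (Nat.succ_pos i) (by omega) a ha b hb
      have := congrArg (fun g => g * x ^ (i + 1)) hab
      simpa [hσ] using this
    have himg : C.image σ = C := by
      apply Finset.eq_of_subset_of_card_le
      · intro g hg
        rw [Finset.mem_image] at hg
        obtain ⟨h, hh, rfl⟩ := hg
        exact hσC h hh
      · rw [Finset.card_image_of_injOn hσinj]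
    have hrew : ∀ h ∈ C, φ (h * x ^ (i + 1) * h⁻¹) w = φ (σ h) (φ (x ^ (i + 1)) w) := by
      intro h _
      rw [← MulAut.mul_apply, ← map_mul]
      congr 2
      simp [hσ]
    rw [Finset.prod_congr rfl hrew]
    have : ∏ h ∈ C, φ (σ h) (φ (x ^ (i + 1)) w) = ∏ g ∈ C.image σ, φ g (φ (x ^ (i + 1)) w) := by
      rw [Finset.prod_image hσinj]
    rw [this, himg]
    exact h1 _
  rw [hB, one_mul] at hA
  have hC : ∏ h ∈ C, φ (h * x ^ 0 * h⁻¹) w = w ^ C.card := by
    rw [← Finset.prod_const]
    apply Finset.prod_congr rfl
    intro h _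
    simp
  rw [← hC]
  exact hA


/-- the commutative group structure on an abelian subgroup. -/
@[reducible] def commGroupOfComm {G : Type*} [Group G] (V : Subgroup G)
    (hVc : ∀ a ∈ V, ∀ b ∈ V, a * b = b * a) : CommGroup V :=
  { (inferInstance : Group V) with
    mul_comm := fun a b => Subtype.ext (hVc a a.2 b b.2) }

/-- `(v y)^n = (∏_{i<n} y^i v y^-i) y^n`. -/
theorem coe_mul_pow_eq {G : Type*} [Group G] (V : Subgroup G) [V.Normal]
    (hVc : ∀ a ∈ V, ∀ b ∈ V, a * b = b * a) (v : V) (y : G) (n : ℕ) :
    ((v : G) * y) ^ n =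
      ((letI := commGroupOfComm V hVc
        (∏ i ∈ range n, (MulAut.conjNormal (y ^ i) : MulAut V) v : V)) : G) * y ^ n := by
  letI := commGroupOfComm V hVc
  induction n with
  | zero => simp
  | succ n ih =>
    rw [pow_succ, ih, Finset.prod_range_succ, Subgroup.coe_mul, MulAut.conjNormal_apply, pow_succ]
    group


/-- LEAF C4c. -/
theorem normalizer_zpowers_le {G : Type*} [Group G] [Finite G] (r r' : ℕ) (hr : r.Prime)
    [Fact r'.Prime] (hrr : r ≠ r')
    (hord : ∀ g : G, orderOf g = 1 ∨ orderOf g = r ∨ orderOf g = r')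
    (V : Subgroup G) (hVn : V.Normal) (hV : V ≠ ⊥) (hVr : IsPGroup r V)
    (hVc : ∀ a ∈ V, ∀ b ∈ V, a * b = b * a)
    (hQ : ∀ Q : Sylow r' G, Nat.card Q = r') (c : G) (hc : orderOf c = r') :
    Subgroup.normalizer ((Subgroup.zpowers c : Subgroup G) : Set G) ≤ Subgroup.zpowers c := by
  classical
  have hr' : r'.Prime := Fact.out
  have hcop : Nat.Coprime r r' := (Nat.coprime_primes hr hr').2 hrr
  -- no commuting pair of orders `r`, `r'`
  have hno : ∀ g h : G, Commute g h → orderOf g = r → orderOf h = r' → False := by
    intro g h hgh hg hh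
    have := hgh.orderOf_mul_eq_mul_orderOf_of_coprime (by rw [hg, hh]; exact hcop)
    rw [hg, hh] at this
    have h2 := hr.two_le
    have h2' := hr'.two_le
    rcases hord (g * h) with h | h | h <;> rw [this] at h <;> nlinarith
  -- elements of `V` have order `1` or `r`
  have hVord : ∀ v : V, v ≠ 1 → orderOf (v : G) = r := by
    intro v hv
    have hv' : (v : G) ≠ 1 := fun h => hv (Subtype.ext h)
    obtain ⟨k, hk⟩ := hVr v
    have hk' : (v : G) ^ r ^ k = 1 := by
      have := congrArg (Subtype.val) hk
      simpa using this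
    rcases hord (v : G) with h | h | h
    · exact absurd (orderOf_eq_one_iff.1 h) hv'
    · exact h
    · exfalso
      have hd : r' ∣ r ^ k := h ▸ orderOf_dvd_of_pow_eq_one hk'
      exact hrr ((Nat.prime_dvd_prime_iff_eq hr' hr).1 (hr'.dvd_of_dvd_pow hd)).symm
  intro x hx
  rcases hord x with hx1 | hxr | hxr'
  · rw [orderOf_eq_one_iff] at hx1
    subst hx1
    exact one_mem _
  · exfalso
    by_cases hcomm : Commute x c
    · exact hno x c hcomm hxr hc
    · -- the norm trick
      have := hVn
      letI := commGroupOfComm V hVc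
      set φ : G →* MulAut V := MulAut.conjNormal with hφ
      set C : Finset G := (Finset.range (orderOf c)).image (c ^ ·) with hC
      have hmemC : ∀ g : G, g ∈ C ↔ g ∈ Subgroup.zpowers c := fun g =>
        (mem_zpowers_iff_mem_range_orderOf).symm
      have hCcard : C.card = r' := by
        rw [hC, Finset.card_image_of_injOn, Finset.card_range, hc]
        rw [Finset.coe_range]
        exact pow_injOn_Iio_orderOf
      have hr1 : r = (r - 1) + 1 := by have := hr.two_le; omega
      -- (h1)
      have h1 : ∀ w : V, ∏ h ∈ C, φ h w = 1 := by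
        intro w
        by_contra hne
        set t : V := ∏ h ∈ C, φ h w with ht
        have hfix : φ c t = t := by
          rw [ht, map_prod]
          have hinj : Set.InjOn (fun h : G => c * h) (C : Set G) :=
            fun a _ b _ hab => mul_left_cancel hab
          have himg : C.image (fun h : G => c * h) = C := by
            apply Finset.eq_of_subset_of_card_le
            · intro g hg
              rw [Finset.mem_image] at hg
              obtain ⟨h, hh, rfl⟩ := hg
              rw [hmemC] at hh ⊢
              exact mul_mem (Subgroup.mem_zpowers c) hh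
            · rw [Finset.card_image_of_injOn hinj]
          calc ∏ h ∈ C, φ c (φ h w) = ∏ h ∈ C, φ (c * h) w := by
                apply Finset.prod_congr rfl
                intro h _
                rw [map_mul, MulAut.mul_apply]
            _ = ∏ g ∈ C.image (fun h : G => c * h), φ g w := by
                rw [Finset.prod_image hinj]
            _ = ∏ h ∈ C, φ h w := by rw [himg]
        have hcomm' : Commute (t : G) c := by
          have h := congrArg (Subtype.val) hfix
          rw [hφ, MulAut.conjNormal_apply] at h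
          have : c * (t : G) = (t : G) * c := by
            calc c * (t : G) = c * (t : G) * c⁻¹ * c := by group
              _ = (t : G) * c := by rw [h]
          exact this.symm
        exact hno (t : G) c hcomm' (hVord t hne) hc
      -- (h2)
      have h2 : ∀ h ∈ C, ∀ w : V, ∏ i ∈ range ((r - 1) + 1), φ (h * x ^ i * h⁻¹) w = 1 := by
        intro h _ w
        rw [← hr1]
        set y : G := h * x * h⁻¹ with hy
        have hyord : orderOf y = r := by
          have := orderOf_injective (MulAut.conj h).toMonoidHom (MulAut.conj h).injective x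
          rw [← hxr, ← this]
          rfl
        have hpow : ∀ i : ℕ, h * x ^ i * h⁻¹ = y ^ i := fun i => by rw [hy, conj_pow]
        have hrw : ∏ i ∈ range r, φ (h * x ^ i * h⁻¹) w = ∏ i ∈ range r, φ (y ^ i) w :=
          Finset.prod_congr rfl (fun i _ => by rw [hpow i])
        rw [hrw]
        set P : V := ∏ i ∈ range r, φ (y ^ i) w with hP
        have hmain : ((w : G) * y) ^ r = (P : G) := by
          have h0 := coe_mul_pow_eq V hVc w y r
          have hyr : y ^ r = 1 := by rw [← hyord]; exact pow_orderOf_eq_one y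
          rw [h0, hyr, mul_one]
        by_contra hne
        have hPord := hVord P hne
        -- the order of `w * y`
        rcases hord ((w : G) * y) with h | h | h
        · rw [orderOf_eq_one_iff] at h
          rw [h, one_pow] at hmain
          exact hne (Subtype.ext hmain.symm)
        · have : ((w : G) * y) ^ r = 1 := by rw [← h]; exact pow_orderOf_eq_one _
          rw [this] at hmain
          exact hne (Subtype.ext hmain.symm)
        · have : (P : G) ^ r' = 1 := by
            rw [← hmain, ← pow_mul, mul_comm, pow_mul, ← h, pow_orderOf_eq_one, one_pow]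
          have hd : r ∣ r' := hPord ▸ orderOf_dvd_of_pow_eq_one this
          exact hrr ((Nat.prime_dvd_prime_iff_eq hr hr').1 hd)
      -- powers of `x` normalize `⟨c⟩`
      have hxi : ∀ i : ℕ, x ^ i ∈
          Subgroup.normalizer ((Subgroup.zpowers c : Subgroup G) : Set G) := fun i => pow_mem hx i
      -- (h3)
      have h3 : ∀ i, 0 < i → i < (r - 1) + 1 → ∀ h ∈ C, h * x ^ i * h⁻¹ * (x ^ i)⁻¹ ∈ C := by
        intro i _ _ h hh
        rw [hmemC] at hh ⊢
        have := (Subgroup.mem_normalizer_iff.1 (hxi i) h⁻¹).1 (inv_mem hh)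
        have h' := mul_mem hh this
        have e : h * x ^ i * h⁻¹ * (x ^ i)⁻¹ = h * (x ^ i * h⁻¹ * (x ^ i)⁻¹) := by group
        rw [e]
        exact h'
      -- (h4)
      have h4 : ∀ i, 0 < i → i < (r - 1) + 1 → ∀ h ∈ C, ∀ h' ∈ C,
          h * x ^ i * h⁻¹ = h' * x ^ i * h'⁻¹ → h = h' := by
        intro i hi0 hir h hh h' hh' heq
        rw [← hr1] at hir
        rw [hmemC] at hh hh'
        set d : G := h'⁻¹ * h with hd
        have hdmem : d ∈ Subgroup.zpowers c := mul_mem (inv_mem hh') hh
        have hdc : Commute d (x ^ i) := by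
          have : d * x ^ i = x ^ i * d := by
            calc d * x ^ i = h'⁻¹ * (h * x ^ i * h⁻¹) * h := by rw [hd]; group
              _ = h'⁻¹ * (h' * x ^ i * h'⁻¹) * h := by rw [heq]
              _ = x ^ i * d := by rw [hd]; group
          exact this
        have hcopi : Nat.Coprime i r := by
          rw [Nat.coprime_comm, Nat.Prime.coprime_iff_not_dvd hr]
          exact Nat.not_dvd_of_pos_of_lt hi0 hir
        obtain ⟨e, -, he⟩ := Nat.exists_mul_mod_eq_one_of_coprime hcopi hr.one_lt
        have hxe : (x ^ i) ^ e = x := by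
          rw [← pow_mul, ← pow_mod_orderOf, hxr, he, pow_one]
        have hdx : Commute d x := by
          have := hdc.pow_right e
          rwa [hxe] at this
        by_contra hne
        have hd1 : d ≠ 1 := by
          intro h1
          apply hne
          have : h'⁻¹ * h = 1 := h1
          calc h = h' * (h'⁻¹ * h) := by group
            _ = h' := by rw [this, mul_one]
        have hcardc : Nat.card (Subgroup.zpowers c) = r' := by rw [Nat.card_zpowers, hc]
        have hmem := mem_zpowers_of_prime_card (G := Subgroup.zpowers c) hcardc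
          (g := ⟨d, hdmem⟩) (g' := ⟨c, Subgroup.mem_zpowers c⟩)
          (fun h => hd1 (congrArg Subtype.val h))
        obtain ⟨k, hk⟩ := Subgroup.mem_zpowers_iff.1 hmem
        have hk' : d ^ k = c := by
          have := congrArg Subtype.val hk
          simpa using this
        apply hcomm
        rw [← hk']
        exact (hdx.zpow_left k).symm
      have key := pow_card_eq_one_of_norms φ x C (r - 1) h1 h2 h3 h4
      apply hV
      rw [Subgroup.eq_bot_iff_forall]
      intro g hg
      by_contra hne
      have hne' : (⟨g, hg⟩ : V) ≠ 1 := fun h => hne (congrArg Subtype.val h)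
      have ho := hVord ⟨g, hg⟩ hne'
      have hk := key ⟨g, hg⟩
      rw [hCcard] at hk
      have hk' : g ^ r' = 1 := by
        have := congrArg Subtype.val hk
        simpa using this
      have hd : r ∣ r' := by
        have := orderOf_dvd_of_pow_eq_one hk'
        simpa [ho] using this
      exact hrr ((Nat.prime_dvd_prime_iff_eq hr hr').1 hd)
  · -- `x` is an `r'`-element normalizing the Sylow subgroup `⟨c⟩`
    have hPp : IsPGroup r' (Subgroup.zpowers c) :=
      IsPGroup.of_card (n := 1) (by rw [Nat.card_zpowers, hc, pow_one])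
    have hXp : IsPGroup r' (Subgroup.zpowers x) :=
      IsPGroup.of_card (n := 1) (by rw [Nat.card_zpowers, hxr', pow_one])
    have hle : Subgroup.zpowers x ≤
        Subgroup.normalizer ((Subgroup.zpowers c : Subgroup G) : Set G) := by
      rw [Subgroup.zpowers_le]
      exact hx
    have hsup := IsPGroup.to_sup_of_normal_left' hPp hXp hle
    obtain ⟨Q, hQle⟩ := hsup.exists_le_sylow
    have hcard : Nat.card (Subgroup.zpowers c ⊔ Subgroup.zpowers x : Subgroup G) ≤ r' := by
      rw [← hQ Q]
      exact Subgroup.card_le_of_le hQle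
    have heq : Subgroup.zpowers c = Subgroup.zpowers c ⊔ Subgroup.zpowers x := by
      apply Subgroup.eq_of_le_of_card_ge le_sup_left
      rw [Nat.card_zpowers, hc]
      exact hcard
    rw [heq]
    exact Subgroup.mem_sup_right (Subgroup.mem_zpowers x)

end Cfsg.Agent.Lib.Helper01.N3
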