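import Mathlib
import Cfsg.Agent.Lib.Helper56.NSE3Defs

/-!
Pack K-NSE3 (statement S3996), leaf L01 `pair`: for a prime `p` not dividing `k` with
`p * k ∣ |G|`, the prime `p` divides `s_k + s_{pk}` (`s_j` = number of elements of order `j`).
Strong induction on `k` from the Frobenius congruence at `p * k`.
-/

set_option autoImplicit false

namespace Cfsg.Agent.Lib.Helper01.NSE3

open Cfsg.Agent.S3995 (s)

/-- divisor sum over `p * k` for a prime `p` not dividing `k`. -/
theorem sum_divisors_prime_mul {p k : ℕ} (hp : p.Prime) (hpk : ¬ p ∣ k) (F : ℕ → ℕ) :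
    ∑ d ∈ (p * k).divisors, F d = ∑ j ∈ k.divisors, (F j + F (p * j)) := by
  have hk0 : k ≠ 0 := fun h => hpk (h ▸ dvd_zero p)
  have hset : (p * k).divisors = k.divisors ∪ k.divisors.image (fun j => p * j) := by
    ext d
    simp only [Nat.mem_divisors, Finset.mem_union, Finset.mem_image]
    constructor
    · rintro ⟨hd, _⟩
      by_cases hpd : p ∣ d
      · obtain ⟨j, rfl⟩ := hpd
        right
        exact ⟨j, ⟨(Nat.mul_dvd_mul_iff_left hp.pos).1 hd, hk0⟩, rfl⟩
      · left
        have hcop : Nat.Coprime d p := ((Nat.Prime.coprime_iff_not_dvd hp).2 hpd).symm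
        exact ⟨hcop.dvd_of_dvd_mul_left hd, hk0⟩
    · rintro (⟨hd, _⟩ | ⟨j, ⟨hj, _⟩, rfl⟩)
      · exact ⟨Dvd.dvd.mul_left hd p, Nat.mul_ne_zero hp.ne_zero hk0⟩
      · exact ⟨Nat.mul_dvd_mul_left p hj, Nat.mul_ne_zero hp.ne_zero hk0⟩
  have hdisj : Disjoint k.divisors (k.divisors.image (fun j => p * j)) := by
    rw [Finset.disjoint_left]
    intro d hd hd'
    rw [Finset.mem_image] at hd'
    obtain ⟨j, _, rfl⟩ := hd'
    exact hpk (dvd_trans (dvd_mul_right p j) (Nat.dvd_of_mem_divisors hd))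
  rw [hset, Finset.sum_union hdisj, Finset.sum_image, Finset.sum_add_distrib]
  intro a _ b _ hab
  exact Nat.eq_of_mul_eq_mul_left hp.pos hab

variable {G : Type*} [Group G] [Finite G]

/-- L01 PAIR. -/
theorem pair {p k : ℕ} (hp : p.Prime) (hpk : ¬ p ∣ k) (hdvd : p * k ∣ Nat.card G) :
    p ∣ s G k + s G (p * k) := by
  induction k using Nat.strong_induction_on with
  | _ k ih =>
    have hk0 : k ≠ 0 := fun h => hpk (h ▸ dvd_zero p)
    have hF := Cfsg.Agent.S3995.frob_s (G := G) (p * k) hdvd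
    rw [sum_divisors_prime_mul hp hpk, ← Nat.cons_self_properDivisors hk0, Finset.sum_cons,
      add_comm] at hF
    have hp_tot : p ∣ ∑ j ∈ k.properDivisors, (s G j + s G (p * j)) + (s G k + s G (p * k)) :=
      dvd_trans (dvd_mul_right p k) hF
    have hp_proper : p ∣ ∑ j ∈ k.properDivisors, (s G j + s G (p * j)) := by
      apply Finset.dvd_sum
      intro j hj
      rw [Nat.mem_properDivisors] at hj
      exact ih j hj.2 (fun h => hpk (dvd_trans h hj.1))
        (dvd_trans (Nat.mul_dvd_mul_left p hj.1) hdvd)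
    exact (Nat.dvd_add_right hp_proper).1 hp_tot

end Cfsg.Agent.Lib.Helper01.NSE3
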