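import Mathlib
import Cfsg.Agent.S3995
import Cfsg.Agent.S0497
import Cfsg.Agent.Lib.Helper07.Order60

/-!
# Pack K-NSE (S3431), leaves D5 / D6 (parallel hand): recognition of `A_5`, `A_6` from the numbers of
elements of order `3`, `5` and a spectrum bounded by `5`.

All by counting: a normal subgroup `K` whose order is prime to `5` is acted on fixed-point-freely by an
element of order `5` (no elements of order `10`, `15`, `20`), so `5` divides the number of elements of `K` of
each order `m > 1`; a normal subgroup of order divisible by `5` contains all elements of order `5`.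
-/

set_option autoImplicit false

namespace Cfsg.Agent.Lib.Helper01.Nse

open Cfsg.Agent.S3995 (s)

variable {G : Type*} [Group G] [Finite G]

/-- conjugation by `g` as a permutation of the elements of order `m` of a normal subgroup -/
noncomputable def conjPerm (K : Subgroup G) [hK : K.Normal] (g : G) (m : ℕ) :
    Equiv.Perm {k : K // orderOf k = m} where
  toFun k := ⟨⟨g * (k.1 : G) * g⁻¹, hK.conj_mem _ k.1.2 g⟩, by
    have h1 : orderOf (g * (k.1 : G) * g⁻¹) = orderOf (k.1 : G) :=
      orderOf_injective (MulAut.conj g).toMonoidHom (MulAut.conj g).injective (k.1 : G)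
    have h2 : orderOf (⟨g * (k.1 : G) * g⁻¹, hK.conj_mem _ k.1.2 g⟩ : K)
        = orderOf (g * (k.1 : G) * g⁻¹) := (Subgroup.orderOf_coe _).symm
    rw [h2, h1, Subgroup.orderOf_coe]
    exact k.2⟩
  invFun k := ⟨⟨g⁻¹ * (k.1 : G) * g, by
      have := hK.conj_mem _ k.1.2 g⁻¹
      rwa [inv_inv] at this⟩, by
    have h1 : orderOf (g⁻¹ * (k.1 : G) * g) = orderOf (k.1 : G) := by
      have := orderOf_injective (MulAut.conj g⁻¹).toMonoidHom (MulAut.conj g⁻¹).injective (k.1 : G)
      simpa using this
    have h2 : orderOf (⟨g⁻¹ * (k.1 : G) * g, by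
        have := hK.conj_mem _ k.1.2 g⁻¹
        rwa [inv_inv] at this⟩ : K) = orderOf (g⁻¹ * (k.1 : G) * g) := (Subgroup.orderOf_coe _).symm
    rw [h2, h1, Subgroup.orderOf_coe]
    exact k.2⟩
  left_inv k := by
    apply Subtype.ext; apply Subtype.ext
    simp only
    group
  right_inv k := by
    apply Subtype.ext; apply Subtype.ext
    simp only
    group

theorem conjPerm_iterate (K : Subgroup G) [hK : K.Normal] (g : G) (m : ℕ) (n : ℕ)
    (k : {k : K // orderOf k = m}) :
    ((((⇑(conjPerm K g m))^[n] k).1 : K) : G) = g ^ n * (k.1 : G) * (g ^ n)⁻¹ := by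
  induction n with
  | zero => simp
  | succ n ih =>
    rw [Function.iterate_succ_apply']
    show g * ((((⇑(conjPerm K g m))^[n] k).1 : K) : G) * g⁻¹ = _
    rw [ih, pow_succ']
    group

/-- fixed-point-free counting -/
theorem five_dvd_s (K : Subgroup G) [hK : K.Normal] (g : G) (hg : orderOf g = 5)
    (h5K : ¬ 5 ∣ Nat.card K) (hsp : ∀ x : G, orderOf x ≤ 5) (m : ℕ) (hm : 1 < m) :
    5 ∣ s K m := by
  classical
  have : Fact (Nat.Prime 5) := ⟨by norm_num⟩
  letI : Fintype {k : K // orderOf k = m} := Fintype.ofFinite _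
  have hσ : (show Function.End {k : K // orderOf k = m} from ⇑(conjPerm K g m)) ^ 5 ^ 1 = 1 := by
    rw [pow_one]
    have h5 := hom_coe_pow (fun f : Function.End {k : K // orderOf k = m} ↦ f) rfl (fun f h ↦ rfl)
      (show Function.End {k : K // orderOf k = m} from ⇑(conjPerm K g m)) 5
    funext k
    have h6 := congrFun h5 k
    simp only at h6
    rw [h6]
    apply Subtype.ext; apply Subtype.ext
    rw [conjPerm_iterate]
    have : g ^ 5 = 1 := by rw [← hg]; exact pow_orderOf_eq_one g
    rw [this]; simp; rfl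
  have h := Equiv.Perm.card_fixedPoints_modEq (p := 5) (n := 1) hσ
  have hempty : IsEmpty (Function.fixedPoints
      (show Function.End {k : K // orderOf k = m} from ⇑(conjPerm K g m))) := by
    constructor
    rintro ⟨k, hk⟩
    have hk' : g * (k.1 : G) * g⁻¹ = (k.1 : G) := by
      have := congrArg (fun x : {k : K // orderOf k = m} => ((x.1 : K) : G)) hk
      exact this
    have hcomm : Commute g (k.1 : G) := by
      have : g * (k.1 : G) = (k.1 : G) * g := by
        calc g * (k.1 : G) = g * (k.1 : G) * g⁻¹ * g := by group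
          _ = (k.1 : G) * g := by rw [hk']
      exact this
    have hord : orderOf (k.1 : G) = m := by rw [Subgroup.orderOf_coe]; exact k.2
    have hdvd : m ∣ Nat.card K := by
      rw [← k.2]; exact orderOf_dvd_natCard _
    have hcop : Nat.Coprime (orderOf g) (orderOf (k.1 : G)) := by
      rw [hg, hord]
      refine (Nat.Prime.coprime_iff_not_dvd (by norm_num)).2 ?_
      intro h5
      exact h5K (dvd_trans h5 hdvd)
    have := hcomm.orderOf_mul_eq_mul_orderOf_of_coprime hcop
    have h2 := hsp (g * (k.1 : G))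
    rw [this, hg, hord] at h2
    omega
  rw [Fintype.card_eq_zero_iff.2 hempty] at h
  unfold s
  rw [Nat.card_eq_fintype_card]
  exact (Nat.modEq_zero_iff_dvd.1 h)

/-- total count for a group all of whose element orders are at most `5` -/
theorem card_eq_sum_s (K : Type*) [Group K] [Finite K] (hsp : ∀ x : K, orderOf x ≤ 5) :
    Nat.card K = s K 1 + s K 2 + s K 3 + s K 4 + s K 5 := by
  classical
  letI : Fintype K := Fintype.ofFinite K
  have h := Finset.card_eq_sum_card_fiberwise (s := (Finset.univ : Finset K))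
    (t := Finset.range 6) (f := fun x : K => orderOf x)
    (fun x _ => Finset.mem_range.2 (by show orderOf x < 6; have := hsp x; omega))
  rw [Finset.card_univ] at h
  rw [Nat.card_eq_fintype_card, h]
  have hs : ∀ m, (Finset.univ.filter (fun x : K => orderOf x = m)).card = s K m := by
    intro m
    unfold s
    rw [Nat.card_eq_fintype_card, Fintype.card_subtype]
  simp only [Finset.sum_range_succ, Finset.sum_range_zero, hs]
  have h0 : s K 0 = 0 := by
    by_contra hne
    obtain ⟨x, hx⟩ := (Cfsg.Agent.S3995.s_ne_zero_iff 0).1 hne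
    have := orderOf_pos x
    omega
  rw [h0]; ring

/-- elements whose order is prime to the index lie in a normal subgroup -/
theorem mem_of_coprime_index (K : Subgroup G) [hK : K.Normal] (g : G)
    (h : Nat.Coprime (orderOf g) K.index) : g ∈ K := by
  have h1 : orderOf (g : G ⧸ K) ∣ orderOf g := orderOf_dvd_of_pow_eq_one (by
    rw [← QuotientGroup.mk_pow, pow_orderOf_eq_one]; rfl)
  have h2 : orderOf (g : G ⧸ K) ∣ K.index := by
    rw [Subgroup.index_eq_card]; exact orderOf_dvd_natCard _
  have h3 : orderOf (g : G ⧸ K) = 1 := Nat.eq_one_of_dvd_coprimes h h1 h2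
  rw [orderOf_eq_one_iff] at h3
  exact (QuotientGroup.eq_one_iff g).1 h3

/-- if all elements of order `m` of `G` lie in `K` then `K` has as many of them as `G` -/
theorem s_subgroup_eq (K : Subgroup G) (m : ℕ) (h : ∀ g : G, orderOf g = m → g ∈ K) :
    s K m = s G m := by
  unfold s
  refine Nat.card_congr ?_
  exact
    { toFun := fun k => ⟨(k.1 : G), by rw [Subgroup.orderOf_coe]; exact k.2⟩
      invFun := fun g => ⟨⟨g.1, h g.1 g.2⟩, by rw [← Subgroup.orderOf_coe]; exact g.2⟩
      left_inv := fun k => by apply Subtype.ext; apply Subtype.ext; rfl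
      right_inv := fun g => by apply Subtype.ext; rfl }

theorem one_le_s_of_prime_dvd (K : Type*) [Group K] [Finite K] (p : ℕ) (hp : p.Prime)
    (h : p ∣ Nat.card K) : 1 ≤ s K p := by
  have := Fact.mk hp
  obtain ⟨x, hx⟩ := exists_prime_orderOf_dvd_card' p h
  exact Nat.one_le_iff_ne_zero.2 ((Cfsg.Agent.S3995.s_ne_zero_iff p).2 ⟨x, hx⟩)


/-- common part: a proper nontrivial normal subgroup is impossible.  `N = 2 * h`, `5 ∣ h`, `25 ∤ N`. -/
theorem no_normal (N n3 n5 : ℕ) (hN : Nat.card G = N) (h3 : s G 3 = n3) (h5 : s G 5 = n5)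
    (hsp : ∀ m, s G m ≠ 0 → m ≤ 5) (hn5 : n5 ≠ 0)
    (h25 : ¬ 25 ∣ N) (hbig : N < 3 * (n5 + 1)) (hodd : N < 2 * (1 + n3 + n5))
    (hsmall : ∀ c : ℕ, c ∣ N → ¬ 5 ∣ c → c % 5 = 1 → c = 1 ∨ c = 6 ∨ c = 36)
    (K : Subgroup G) (hK : K.Normal) : K = ⊥ ∨ K = ⊤ := by
  by_contra hcon
  push Not at hcon
  obtain ⟨hbot, htop⟩ := hcon
  have hsp' : ∀ x : G, orderOf x ≤ 5 :=
    fun x => hsp _ ((Cfsg.Agent.S3995.s_ne_zero_iff _).2 ⟨x, rfl⟩)
  have hidx : Nat.card K * K.index = N := by rw [← hN]; exact K.card_mul_index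
  have hK1 : 1 < Nat.card K := (Subgroup.one_lt_card_iff_ne_bot K).2 hbot
  have hidx1 : 1 < K.index := by
    have h1 : K.index ≠ 1 := fun h => htop (Subgroup.index_eq_one.1 h)
    have h0 : K.index ≠ 0 := Subgroup.index_ne_zero_of_finite
    omega
  have hspK : ∀ x : K, orderOf x ≤ 5 := fun x => by
    rw [← Subgroup.orderOf_coe]; exact hsp' x
  have htot := card_eq_sum_s K hspK
  have hs1 : s K 1 = 1 := Cfsg.Agent.S3995.s_one
  obtain ⟨g, hg⟩ : ∃ g : G, orderOf g = 5 :=
    (Cfsg.Agent.S3995.s_ne_zero_iff 5).1 (by rw [h5]; exact hn5)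
  by_cases h5K : 5 ∣ Nat.card K
  · have hcop5 : Nat.Coprime 5 K.index := by
      refine (Nat.Prime.coprime_iff_not_dvd (by norm_num)).2 ?_
      intro h
      obtain ⟨a, ha⟩ := h5K
      obtain ⟨b, hb⟩ := h
      apply h25
      refine ⟨a * b, ?_⟩
      rw [← hidx, ha, hb]; ring
    have h5in : ∀ x : G, orderOf x = 5 → x ∈ K :=
      fun x hx => mem_of_coprime_index K x (by rw [hx]; exact hcop5)
    have hs5 : s K 5 = n5 := by rw [s_subgroup_eq K 5 h5in, h5]
    have hge : n5 + 1 ≤ Nat.card K := by omega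
    have hidx2 : K.index = 2 := by
      by_contra hne
      have h3le : 3 ≤ K.index := by omega
      have : 3 * (n5 + 1) ≤ Nat.card K * K.index := Nat.mul_comm 3 (n5 + 1) ▸ Nat.mul_le_mul hge h3le
      omega
    have hcop3 : ∀ x : G, orderOf x = 3 → x ∈ K :=
      fun x hx => mem_of_coprime_index K x (by rw [hx, hidx2]; norm_num)
    have hs3 : s K 3 = n3 := by rw [s_subgroup_eq K 3 hcop3, h3]
    rw [hidx2] at hidx
    omega
  · have hd : ∀ m, 1 < m → 5 ∣ s K m := five_dvd_s K g hg h5K hsp'
    have hs5 : s K 5 = 0 := by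
      by_contra hne
      obtain ⟨x, hx⟩ := (Cfsg.Agent.S3995.s_ne_zero_iff 5).1 hne
      exact h5K (hx ▸ orderOf_dvd_natCard x)
    obtain ⟨a, ha⟩ := hd 2 (by norm_num)
    obtain ⟨b, hb⟩ := hd 3 (by norm_num)
    obtain ⟨c, hc⟩ := hd 4 (by norm_num)
    have hmod : Nat.card K % 5 = 1 := by omega
    have hdvd : Nat.card K ∣ N := ⟨K.index, hidx.symm⟩
    rcases hsmall _ hdvd h5K hmod with h1 | h6 | h36
    · omega
    · have h2 := one_le_s_of_prime_dvd K 2 Nat.prime_two (by rw [h6]; norm_num)
      have h3' := one_le_s_of_prime_dvd K 3 Nat.prime_three (by rw [h6]; norm_num)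
      omega
    · have h2 := one_le_s_of_prime_dvd K 2 Nat.prime_two (by rw [h36]; norm_num)
      have hf := Cfsg.Agent.S3995.frob_s (G := K) 9 (by rw [h36]; norm_num)
      have h9 : s K 9 = 0 := by
        by_contra hne
        obtain ⟨x, hx⟩ := (Cfsg.Agent.S3995.s_ne_zero_iff 9).1 hne
        have := hspK x
        omega
      have hdiv : (9 : ℕ).divisors = {1, 3, 9} := by decide
      rw [hdiv, Finset.sum_insert (by decide), Finset.sum_insert (by decide),
        Finset.sum_singleton] at hf
      omega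

/-- 343115 K-NSE-D6 -/
theorem recog_A6 {G : Type*} [Group G] [Finite G] (hN : Nat.card G = 360)
    (h3 : Cfsg.Agent.S3995.s G 3 = 80) (h5 : Cfsg.Agent.S3995.s G 5 = 144)
    (hsp : ∀ m, Cfsg.Agent.S3995.s G m ≠ 0 → m ≤ 5) :
    Nonempty (G ≃* ↥(alternatingGroup (Fin 6))) := by
  have hnt : Nontrivial G := (Finite.one_lt_card_iff_nontrivial).1 (by rw [hN]; norm_num)
  have hsimple : IsSimpleGroup G :=
    { exists_pair_ne := hnt.exists_pair_ne
      eq_bot_or_eq_top_of_normal := fun K hK =>
        no_normal 360 80 144 hN h3 h5 hsp (by norm_num) (by norm_num) (by norm_num) (by norm_num)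
          (by
            intro c hc h5c hmod
            have hle : c ≤ 360 := Nat.le_of_dvd (by norm_num) hc
            interval_cases c <;> omega) K hK }
  exact Cfsg.Agent.S0497.result hN

/-- 343114 K-NSE-D5 -/
theorem recog_A5 {G : Type*} [Group G] [Finite G] (hN : Nat.card G = 60)
    (h3 : Cfsg.Agent.S3995.s G 3 = 20) (h5 : Cfsg.Agent.S3995.s G 5 = 24)
    (hsp : ∀ m, Cfsg.Agent.S3995.s G m ≠ 0 → m ≤ 5) :
    Nonempty (G ≃* ↥(alternatingGroup (Fin 5))) := by
  have hnt : Nontrivial G := (Finite.one_lt_card_iff_nontrivial).1 (by rw [hN]; norm_num)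
  have hsimple : IsSimpleGroup G :=
    { exists_pair_ne := hnt.exists_pair_ne
      eq_bot_or_eq_top_of_normal := fun K hK =>
        no_normal 60 20 24 hN h3 h5 hsp (by norm_num) (by norm_num) (by norm_num) (by norm_num)
          (by
            intro c hc h5c hmod
            have hle : c ≤ 60 := Nat.le_of_dvd (by norm_num) hc
            interval_cases c <;> omega) K hK }
  exact Cfsg.Agent.Lib.Helper07.nonempty_mulEquiv_alternatingGroup_five_of_card_eq_sixty hN

end Cfsg.Agent.Lib.Helper01.Nse
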