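import Cfsg.Agent.S0791
import Cfsg.Agent.Lib.Helper50.GeoBridge

/-!
# K-OMb-3 (keystone 599103, S5991 pack of helper32)

`x ∈ Ω⁻`, `x * x = -1`  ⟹  `d` odd and `q ≡ 3 (mod 4)`.
Route: `x * x = -1` lies in `Ω⁻`, so `q ^ d ≡ 3 (mod 4)` by `Cfsg.Agent.S0791.result`.
-/

set_option autoImplicit false

namespace Cfsg.Agent.Lib.Helper01.OMb

open scoped MatrixGroups

universe u
variable {F : Type u} [Field F]

theorem odd_and_mod_four_of_pow_mod_four {q d : ℕ} (h : q ^ d % 4 = 3) : Odd d ∧ q % 4 = 3 := by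
  have h1 : q ^ d % 4 = (q % 4) ^ d % 4 := Nat.pow_mod q d 4
  rw [h1] at h
  have hlt : q % 4 < 4 := Nat.mod_lt _ (by norm_num)
  rcases Nat.even_or_odd d with ⟨k, hk⟩ | hd
  · exfalso
    rw [hk, ← two_mul, pow_mul] at h
    have h2 : ((q % 4) ^ 2) ^ k % 4 = ((q % 4) ^ 2 % 4) ^ k % 4 := Nat.pow_mod _ _ _
    rw [h2] at h
    interval_cases (q % 4)
    · rcases Nat.eq_zero_or_pos k with rfl | hk0
      · simp at h
      · simp [zero_pow hk0.ne'] at h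
    · simp at h
    · rcases Nat.eq_zero_or_pos k with rfl | hk0
      · simp at h
      · simp [zero_pow hk0.ne'] at h
    · simp at h
  · refine ⟨hd, ?_⟩
    obtain ⟨k, hk⟩ := hd
    interval_cases hq : (q % 4)
    · exfalso
      rw [hk, pow_succ] at h
      simp at h
    · exfalso
      simp at h
    · exfalso
      rw [hk, pow_succ, pow_mul] at h
      have h2 : (2 ^ 2) ^ k * 2 % 4 = ((2 ^ 2) ^ k % 4) * (2 % 4) % 4 := Nat.mul_mod _ _ _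
      rw [h2, Nat.pow_mod] at h
      rcases Nat.eq_zero_or_pos k with rfl | hk0
      · simp at h
      · simp [zero_pow hk0.ne'] at h
    · rfl

theorem odd_and_mod_four_of_sq_neg_one_minus [Fintype F] (hodd : Odd (Fintype.card F)) (d : ℕ) (hd : 1 ≤ d) (a b : F) (hab : ∀ x y : F, x ^ 2 + a * x * y + b * y ^ 2 = 0 → x = 0 ∧ y = 0)
    (x : GL ((Fin (d - 1) ⊕ Fin (d - 1)) ⊕ Fin 2) F) (hxΩ : x ∈ Cfsg.Geo.omegaGL (Cfsg.quadFormMinus (d - 1) F a b)) (hx : (x : Matrix ((Fin (d - 1) ⊕ Fin (d - 1)) ⊕ Fin 2) ((Fin (d - 1) ⊕ Fin (d - 1)) ⊕ Fin 2) F) * (x : Matrix ((Fin (d - 1) ⊕ Fin (d - 1)) ⊕ Fin 2) ((Fin (d - 1) ⊕ Fin (d - 1)) ⊕ Fin 2) F) = -1) :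
    Odd d ∧ Fintype.card F % 4 = 3 := by
  obtain ⟨hxiso, hxO⟩ := (Cfsg.Agent.Lib.Helper50.mem_omegaGL_iff _ x).mp hxΩ
  have key := (Cfsg.Agent.S0791.result (F := F) (q := Fintype.card F) rfl hodd d hd a b hab).mp
    ⟨(⟨x, hxiso⟩ : ↥(Cfsg.isometryGroup F (Cfsg.quadFormMinus (d - 1) F a b))) * ⟨x, hxiso⟩,
      mul_mem hxO hxO, by
        rw [← hx]
        rfl⟩
  exact odd_and_mod_four_of_pow_mod_four key

end Cfsg.Agent.Lib.Helper01.OMb
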