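import Mathlib
import Cfsg.Prelude.Def_GeometricClasses
import Cfsg.Agent.Lib.Helper48.ODec.Main

/-!
Keystone K-OOddMax-N2a (helper8's OOddMax pack): `Ω_{2m+1}(q)` does not lie in the stabiliser of an
orthogonal decomposition into isometric lines.
-/

set_option autoImplicit false
set_option linter.unusedSectionVars false
set_option linter.unusedVariables false

namespace Cfsg.Agent.Lib.Helper01.OOddMax

open Cfsg Cfsg.Geo
open scoped Matrix
open Matrix Module Cfsg.Agent.Lib.Helper48.OSub Cfsg.Agent.Lib.Helper48.ODec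
open Cfsg.Agent.Lib.Helper43 hiding Q_add Q_smul

variable {F : Type*} [Field F] [Fintype F] {m : ℕ}

theorem omega_not_le_decompositionStabilizer_one (hodd : Odd (Fintype.card F)) (hm : 3 ≤ m) {t : ℕ}
    (D : Fin t → Submodule F (Unit ⊕ (Fin m ⊕ Fin m) → F))
    (hD : IsOrthogonalMDecomposition (quadFormOdd m F) 1 D) :
    ¬ omegaGL (quadFormOdd m F) ≤ decompositionStabilizer D := by
  have h2 : (2 : F) ≠ 0 := Cfsg.Agent.Lib.Helper43.two_ne_zero_of_odd_card43 hodd
  have hdec : Dec D := dec_of hD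
  have htk : t * 1 = 2 * m + 1 := card_mul_eq hD
  have ht : 7 ≤ t := by omega
  intro hle
  set i0 : Fin t := ⟨0, by omega⟩ with hi0
  set i1 : Fin t := ⟨1, by omega⟩ with hi1
  set i2 : Fin t := ⟨2, by omega⟩ with hi2
  set i3 : Fin t := ⟨3, by omega⟩ with hi3
  set i4 : Fin t := ⟨4, by omega⟩ with hi4
  have h01 : i0 ≠ i1 := by intro h; simpa [hi0, hi1] using congrArg Fin.val h
  have h02 : i0 ≠ i2 := by intro h; simpa [hi0, hi2] using congrArg Fin.val h
  have h03 : i0 ≠ i3 := by intro h; simpa [hi0, hi3] using congrArg Fin.val h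
  have h04 : i0 ≠ i4 := by intro h; simpa [hi0, hi4] using congrArg Fin.val h
  have h12 : i1 ≠ i2 := by intro h; simpa [hi1, hi2] using congrArg Fin.val h
  have h13 : i1 ≠ i3 := by intro h; simpa [hi1, hi3] using congrArg Fin.val h
  have h23 : i2 ≠ i3 := by intro h; simpa [hi2, hi3] using congrArg Fin.val h
  -- a nonzero vector of the first line
  have hfr : finrank F (D i0) = 1 := hD.decomp.decomp.finrank_eq i0
  obtain ⟨v0, hv0, hv0ne⟩ : ∃ v ∈ D i0, v ≠ 0 := by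
    have hpos : 0 < finrank F (D i0) := by omega
    obtain ⟨w, hw⟩ := (Module.finrank_pos_iff_exists_ne_zero).mp hpos
    exact ⟨w.1, w.2, fun h => hw (Subtype.ext h)⟩
  have hiso : ∀ i, ∃ v ∈ D i, quadFormOdd m F v = quadFormOdd m F v0 := by
    intro i
    obtain ⟨e, he⟩ := hD.isometric i0 i
    exact ⟨(e ⟨v0, hv0⟩ : D i).1, (e ⟨v0, hv0⟩).2, he ⟨v0, hv0⟩⟩
  choose v hvD hvQ using hiso
  set c : F := quadFormOdd m F v0 with hc
  have hc0 : c ≠ 0 := by
    intro h0
    apply hv0ne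
    apply hdec.nd i0 v0 hv0
    intro y hy
    obtain ⟨a, ha⟩ := (finrank_eq_one_iff_of_nonzero' (⟨v0, hv0⟩ : D i0)
      (fun h => hv0ne (congrArg Subtype.val h))).mp hfr ⟨y, hy⟩
    have hy' : y = a • v0 := by
      have := congrArg Subtype.val ha
      simpa using this.symm
    rw [hy', bf_smul_right, bf_self, ← hc, h0]; ring
  have horth : ∀ i j, i ≠ j → bf (v i) (v j) = 0 := fun i j hij =>
    hdec.orth i j hij _ (hvD i) _ (hvD j)
  have hself : ∀ i, bf (v i) (v i) = 2 * c := fun i => by rw [bf_self, hvQ i]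
  set a : Idx m → F := v i0 + v i1 + v i2 + v i3 with ha
  set b : Idx m → F := (2 : F) • v i4 with hb
  have hQa : quadFormOdd m F a = 2 * 2 * c := by
    rw [ha, Cfsg.Agent.Lib.Helper48.OSub.Q_add, Cfsg.Agent.Lib.Helper48.OSub.Q_add, Cfsg.Agent.Lib.Helper48.OSub.Q_add, bf_add_left, bf_add_left, bf_add_left,
      hvQ, hvQ, hvQ, hvQ, horth i0 i1 h01, horth i0 i2 h02, horth i1 i2 h12, horth i0 i3 h03,
      horth i1 i3 h13, horth i2 i3 h23]
    ring
  have hQb : quadFormOdd m F b = 2 * 2 * c := by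
    rw [hb, Cfsg.Agent.Lib.Helper48.OSub.Q_smul, hvQ]
  have hQa0 : quadFormOdd m F a ≠ 0 := by
    rw [hQa]; exact mul_ne_zero (mul_ne_zero h2 h2) hc0
  have hQb0 : quadFormOdd m F b ≠ 0 := by
    rw [hQb]; exact mul_ne_zero (mul_ne_zero h2 h2) hc0
  have hgΩ : rf h2 a * rf h2 b ∈ Cfsg.Omega F ⇑(Qf m h2) :=
    rf_mul_rf_mem_Omega (h2 := h2) hQa0 (hQa.trans hQb.symm)
  have hmem : ((rf h2 a * rf h2 b : OG m h2) : GL (Idx m) F) ∈
      omegaGL (quadFormOdd m F) :=
    (mem_omegaGL_iff h2 _).mpr ⟨rf h2 a * rf h2 b, hgΩ, rfl⟩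
  obtain ⟨σ, hσ⟩ := (stabD_iff_mem h2 hdec _).mpr (hle hmem)
  have h1 := hσ i0 (v i0) (hvD i0)
  have hb0 : bf (v i0) b = 0 := by rw [hb, bf_smul_right, horth i0 i4 h04, mul_zero]
  have ha0 : bf (v i0) a = 2 * c := by
    rw [ha, bf_add_right, bf_add_right, bf_add_right, hself, horth i0 i1 h01, horth i0 i2 h02,
      horth i0 i3 h03]
    ring
  rw [act_mul, rf_fix hQb0 hb0, rf_act hQa0, ha0] at h1
  set μ : F := (quadFormOdd m F a)⁻¹ * (2 * c) with hμ
  have hμ0 : μ ≠ 0 := mul_ne_zero (inv_ne_zero hQa0) (mul_ne_zero h2 hc0)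
  have ha1 : bf a (v i1) = 2 * c := by
    rw [ha, bf_add_left, bf_add_left, bf_add_left, hself, horth i0 i1 h01, horth i2 i1 h12.symm,
      horth i3 i1 h13.symm]
    ring
  have ha2 : bf a (v i2) = 2 * c := by
    rw [ha, bf_add_left, bf_add_left, bf_add_left, hself, horth i0 i2 h02, horth i1 i2 h12,
      horth i3 i2 h23.symm]
    ring
  have hw1 : bf (v i0 - μ • a) (v i1) ≠ 0 := by
    rw [bf_sub_left, bf_smul_left, horth i0 i1 h01, ha1, zero_sub, neg_ne_zero]
    exact mul_ne_zero hμ0 (mul_ne_zero h2 hc0)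
  have hw2 : bf (v i0 - μ • a) (v i2) ≠ 0 := by
    rw [bf_sub_left, bf_smul_left, horth i0 i2 h02, ha2, zero_sub, neg_ne_zero]
    exact mul_ne_zero hμ0 (mul_ne_zero h2 hc0)
  have hs1 : σ i0 = i1 := by
    by_contra h
    exact hw1 (hdec.orth (σ i0) i1 h _ h1 _ (hvD i1))
  have hs2 : σ i0 = i2 := by
    by_contra h
    exact hw2 (hdec.orth (σ i0) i2 h _ h1 _ (hvD i2))
  exact h12 (hs1.symm.trans hs2)

end Cfsg.Agent.Lib.Helper01.OOddMax
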