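import Mathlib
import Cfsg.Prelude.Def_GeometricClasses

/-!
# K-OPlus10-X9a (`planes_two`): `q = 2`, an odd number of hyperbolic planes

Each hyperbolic plane over the field with two elements has exactly one non-singular vector; an
isometry permuting the planes permutes these vectors, hence fixes their sum `v`, and `Q v = t = 1`.
-/

set_option autoImplicit false

namespace Cfsg.Agent.Lib.Helper01.OPlus10

open Cfsg Cfsg.Geo
open scoped Matrix

variable {F : Type*} [Field F] [Fintype F] {n : ℕ}

/-- in the field with two elements every non-zero element is `1` -/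
theorem eq_one_of_ne_zero (hq : Fintype.card F = 2) (a : F) (ha : a ≠ 0) : a = 1 := by
  classical
  have h1 : Fintype.card Fˣ = 1 := by rw [Fintype.card_units, hq]
  have hsub : Subsingleton Fˣ := Fintype.card_le_one_iff_subsingleton.mp (le_of_eq h1)
  have := hsub.elim (Units.mk0 a ha) 1
  simpa using congrArg Units.val this

theorem eq_zero_or_eq_one (hq : Fintype.card F = 2) (a : F) : a = 0 ∨ a = 1 := by
  by_cases ha : a = 0
  · exact Or.inl ha
  · exact Or.inr (eq_one_of_ne_zero hq a ha)

theorem one_add_one_eq_zero (hq : Fintype.card F = 2) : (1 : F) + 1 = 0 := by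
  by_contra h
  have := eq_one_of_ne_zero hq _ h
  have h0 : (1 : F) = 0 := by
    have h2 : (1 : F) + 1 - 1 = 1 - 1 := by rw [this]
    simp at h2
  exact one_ne_zero h0

theorem natCast_odd (hq : Fintype.card F = 2) {t : ℕ} (ht : Odd t) : (t : F) = 1 := by
  obtain ⟨k, rfl⟩ := ht
  have h2 : (2 : F) = 0 := by
    rw [← one_add_one_eq_two]; exact one_add_one_eq_zero hq
  push_cast
  rw [h2, zero_mul, zero_add]

section Form

variable (Q : (Fin n → F) → F) (hQ : IsNondegenerateQuadraticForm Q)

omit [Fintype F] in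
include hQ in
theorem Q_zero : Q 0 = 0 := by
  have := hQ.smul 0 0
  simpa using this

omit [Fintype F] in
theorem Q_add' (u v : Fin n → F) : Q (u + v) = Q u + Q v + QuadraticMap.polar Q u v := by
  unfold QuadraticMap.polar
  ring

omit [Fintype F] in
include hQ in
theorem polar_zero_right (u : Fin n → F) : QuadraticMap.polar Q u 0 = 0 := by
  have := hQ.polar_bilinear.smul_right 0 u 0
  simpa using this

omit [Fintype F] in
include hQ in
theorem polar_sum_right {κ : Type*} (s : Finset κ) (u : Fin n → F) (w : κ → Fin n → F) :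
    QuadraticMap.polar Q u (∑ j ∈ s, w j) = ∑ j ∈ s, QuadraticMap.polar Q u (w j) := by
  classical
  induction s using Finset.induction_on with
  | empty => simp [polar_zero_right Q hQ]
  | insert a s ha ih =>
    rw [Finset.sum_insert ha, Finset.sum_insert ha, hQ.polar_bilinear.add_right, ih]

include hQ in
/-- `Q` of a sum of pairwise orthogonal vectors of norm `1` is the number of vectors. -/
theorem Q_sum_orth {κ : Type*} (s : Finset κ) (w : κ → Fin n → F) (hw : ∀ j ∈ s, Q (w j) = 1)
    (horth : ∀ i ∈ s, ∀ j ∈ s, i ≠ j → QuadraticMap.polar Q (w i) (w j) = 0) :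
    Q (∑ j ∈ s, w j) = (s.card : F) := by
  classical
  induction s using Finset.induction_on with
  | empty => simp [Q_zero Q hQ]
  | insert a s ha ih =>
    rw [Finset.sum_insert ha, Q_add' Q, polar_sum_right Q hQ, Finset.card_insert_of_notMem ha,
      hw a (Finset.mem_insert_self a s),
      ih (fun j hj => hw j (Finset.mem_insert_of_mem hj))
        (fun i hi j hj hij => horth i (Finset.mem_insert_of_mem hi) j (Finset.mem_insert_of_mem hj) hij)]
    have : ∑ j ∈ s, QuadraticMap.polar Q (w a) (w j) = 0 := by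
      apply Finset.sum_eq_zero
      intro j hj
      apply horth a (Finset.mem_insert_self a s) j (Finset.mem_insert_of_mem hj)
      rintro rfl
      exact ha hj
    rw [this]
    push_cast
    ring

include hQ in
/-- A hyperbolic plane over the field with two elements has exactly one non-singular vector. -/
theorem exists_unique_nonsingular (hq : Fintype.card F = 2) (W : Submodule F (Fin n → F))
    (hdim : Module.finrank F W = 2) (hnd : IsNondegenerateOn (QuadraticMap.polar Q) W)
    (hplus : IsPlusTypeOn Q W) :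
    ∃ w₀ ∈ W, Q w₀ = 1 ∧ ∀ w ∈ W, Q w ≠ 0 → w = w₀ := by
  classical
  obtain ⟨U, hUW, hUts, hUdim⟩ := hplus
  have hU1 : Module.finrank F U = 1 := by omega
  have hUne : U ≠ ⊥ := by
    intro h
    rw [h, finrank_bot] at hU1
    omega
  obtain ⟨e, heU, he0⟩ := Submodule.exists_mem_ne_zero_of_ne_bot hUne
  have heW : e ∈ W := hUW heU
  have hQe : Q e = 0 := hUts e heU
  obtain ⟨⟨x, hxW, hxe⟩, -⟩ := hnd e heW he0
  have hB1 : QuadraticMap.polar Q x e = 1 := eq_one_of_ne_zero hq _ hxe
  have hB1' : QuadraticMap.polar Q e x = 1 := by rw [QuadraticMap.polar_comm]; exact hB1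
  have hbil := hQ.polar_bilinear
  have hBee : QuadraticMap.polar Q e e = 0 := by
    unfold QuadraticMap.polar
    have h1 : e + e = ((1 : F) + 1) • e := by rw [add_smul, one_smul]
    rw [h1, hQ.smul, hQe]
    ring
  -- `e, x` linearly independent
  have hli : LinearIndependent F ![e, x] := by
    rw [LinearIndependent.pair_iff]
    intro s t hst
    have h1 : QuadraticMap.polar Q (s • e + t • x) e = 0 := by
      rw [hst]
      have := hbil.smul_left 0 0 e
      simpa using this
    rw [hbil.add_left, hbil.smul_left, hbil.smul_left, hBee, hB1, mul_zero, zero_add, mul_one] at h1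
    subst h1
    rw [zero_smul, add_zero] at hst
    rcases smul_eq_zero.mp hst with h | h
    · exact ⟨h, rfl⟩
    · exact absurd h he0
  have hspan : Submodule.span F (Set.range ![e, x]) = W := by
    apply Submodule.eq_of_le_of_finrank_eq
    · rw [Submodule.span_le]
      rintro _ ⟨i, rfl⟩
      fin_cases i
      · exact heW
      · exact hxW
    · rw [finrank_span_eq_card hli, hdim]
      simp
  have hrep : ∀ w ∈ W, ∃ a b : F, w = a • e + b • x := by
    intro w hw
    rw [← hspan, Submodule.mem_span_range_iff_exists_fun] at hw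
    obtain ⟨c, hc⟩ := hw
    rw [Fin.sum_univ_two] at hc
    exact ⟨c 0, c 1, hc.symm⟩
  have hQrep : ∀ a b : F, Q (a • e + b • x) = b ^ 2 * Q x + a * b := by
    intro a b
    rw [Q_add' Q, hQ.smul, hQ.smul, hQe, hbil.smul_left, hbil.smul_right, hB1']
    ring
  have h11 : (1 : F) + 1 = 0 := one_add_one_eq_zero hq
  refine ⟨(1 + Q x) • e + x, W.add_mem (W.smul_mem _ heW) hxW, ?_, ?_⟩
  · have := hQrep (1 + Q x) 1
    rw [one_smul] at this
    rw [this]
    have : (1 : F) ^ 2 * Q x + (1 + Q x) * 1 = 1 + (1 + 1) * Q x := by ring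
    rw [this, h11, zero_mul, add_zero]
  · intro w hw hQw
    obtain ⟨a, b, rfl⟩ := hrep w hw
    rw [hQrep] at hQw
    rcases eq_zero_or_eq_one hq b with hb | hb
    · exfalso; apply hQw; rw [hb]; ring
    · subst hb
      rw [one_smul]
      congr 2
      rcases eq_zero_or_eq_one hq (Q x) with hc | hc <;> rcases eq_zero_or_eq_one hq a with ha | ha
      · exfalso; apply hQw; rw [hc, ha]; ring
      · rw [hc, ha, add_zero]
      · rw [hc, ha, h11]
      · exfalso; apply hQw; rw [hc, ha]
        have : (1 : F) ^ 2 * 1 + 1 * 1 = 1 + 1 := by ring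
        rw [this, h11]

end Form

/-- **K-OPlus10-X9a** (584704). -/
theorem planes_two (hq : Fintype.card F = 2) (Q : (Fin n → F) → F) (hQ : IsNondegenerateQuadraticForm Q)
    {t : ℕ} (ht : Odd t) (D : Fin t → Submodule F (Fin n → F)) (hD : IsOrthogonalMDecomposition Q 2 D)
    (hplus : ∀ i, IsPlusTypeOn Q (D i)) :
    ∃ v : Fin n → F, Q v ≠ 0 ∧
      decompositionStabilizer D ⊓ isometryGroup F Q ≤ subspaceStabilizer (Submodule.span F {v}) := by
  classical
  have hex : ∀ i, ∃ w₀ ∈ D i, Q w₀ = 1 ∧ ∀ w ∈ D i, Q w ≠ 0 → w = w₀ := fun i =>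
    exists_unique_nonsingular Q hQ hq (D i) (hD.decomp.decomp.finrank_eq i)
      (hD.decomp.nondegenerate i) (hplus i)
  choose nv hnD hnQ hnu using hex
  refine ⟨∑ i, nv i, ?_, ?_⟩
  · rw [Q_sum_orth Q hQ Finset.univ nv (fun j _ => hnQ j)
      (fun i _ j _ hij => hD.decomp.orthogonal i j hij _ (hnD i) _ (hnD j))]
    rw [Finset.card_univ, Fintype.card_fin, natCast_odd hq ht]
    exact one_ne_zero
  · rintro g ⟨hgD, hgI⟩
    obtain ⟨σ, hσ⟩ := hgD
    have hiso : ∀ u, Q ((g : Matrix (Fin n) (Fin n) F) *ᵥ u) = Q u := fun u => hgI u u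
    have hgn : ∀ i, (g : Matrix (Fin n) (Fin n) F) *ᵥ nv i = nv (σ i) := by
      intro i
      apply hnu (σ i)
      · rw [← hσ i, ← Matrix.toLin'_apply]
        exact Submodule.mem_map_of_mem (hnD i)
      · rw [hiso, hnQ]
        exact one_ne_zero
    have hgv : (g : Matrix (Fin n) (Fin n) F) *ᵥ (∑ i, nv i) = ∑ i, nv i := by
      rw [← Matrix.mulVecLin_apply, map_sum]
      simp only [Matrix.mulVecLin_apply, hgn]
      exact Equiv.sum_comp σ nv
    have hgiv : ((g⁻¹ : GL (Fin n) F) : Matrix (Fin n) (Fin n) F) *ᵥ (∑ i, nv i) = ∑ i, nv i := by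
      conv_lhs => rw [← hgv]
      rw [Matrix.mulVec_mulVec, ← Units.val_mul, inv_mul_cancel, Units.val_one, Matrix.one_mulVec]
    show ∀ u, u ∈ ((Submodule.span F {∑ i, nv i} : Submodule F (Fin n → F)) : Set (Fin n → F)) ↔
      (g : Matrix (Fin n) (Fin n) F) *ᵥ u ∈
        ((Submodule.span F {∑ i, nv i} : Submodule F (Fin n → F)) : Set (Fin n → F))
    intro u
    simp only [SetLike.mem_coe, Submodule.mem_span_singleton]
    constructor
    · rintro ⟨c, rfl⟩
      exact ⟨c, by rw [Matrix.mulVec_smul, hgv]⟩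
    · rintro ⟨c, hc⟩
      refine ⟨c, ?_⟩
      have h1 : u = ((g⁻¹ : GL (Fin n) F) : Matrix (Fin n) (Fin n) F) *ᵥ
          ((g : Matrix (Fin n) (Fin n) F) *ᵥ u) := by
        rw [Matrix.mulVec_mulVec, ← Units.val_mul, inv_mul_cancel, Units.val_one, Matrix.one_mulVec]
      rw [h1, ← hc, Matrix.mulVec_smul, hgiv]

end Cfsg.Agent.Lib.Helper01.OPlus10
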