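import Mathlib
import Cfsg.Prelude.Def_Local
import Cfsg.Prelude.Def_Balance
import Cfsg.Agent.Lib.Helper29.PComponent
import Cfsg.Agent.Lib.Helper12.DLayerB

/-!
# K-S1305-K3: under the B-property and `O(G) = 1`, a 2-component of `C_G(b)` is a component
-/

set_option autoImplicit false

namespace Cfsg.Agent.Lib.Helper01.S1305K

open Cfsg

/-- **K3**. B-property and `O(G) = 1`: a 2-component of `C_G(b)` is a component. -/
theorem isComponent_of_isPComponent {G : Type*} [Group G] [Finite G] (hO : oddCore G = ⊥)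
    (hB : HasBProperty G) (b : G) (hb : orderOf b = 2)
    (J : Subgroup ↥(Subgroup.centralizer ({b} : Set G))) (hJ : IsPComponent 2 J) :
    IsComponent J := by
  have hp2 : Fact (Nat.Prime 2) := ⟨Nat.prime_two⟩
  have h1 := hB b hb
  rw [hO, le_bot_iff,
    Subgroup.map_eq_bot_iff_of_injective _ (Subgroup.subtype_injective _)] at h1
  have hJL : J ≤ pLayer 2 ↥(Subgroup.centralizer ({b} : Set G)) := le_sSup hJ
  have hc : ⁅J, pPrimeCore 2 ↥(Subgroup.centralizer ({b} : Set G))⁆ = ⊥ :=
    le_bot_iff.mp ((Subgroup.commutator_mono hJL le_rfl).trans (le_of_eq h1))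
  have hperf : commutator ↥J = ⊤ :=
    Cfsg.Agent.Lib.Helper12.DL.commutator_eq_top_of_perf
      (Cfsg.Agent.Lib.Helper29.pcomp_perfect 2 J hJ)
  exact Cfsg.Agent.Lib.Helper12.DL.isComponent_of_comp_mod_core J hJ.2.1 hperf hc

end Cfsg.Agent.Lib.Helper01.S1305K
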