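import Cfsg.Agent.Lib.Helper63.S2718A
import Cfsg.Agent.Lib.Helper07.OrthT

set_option autoImplicit false

/-! K-S2719-A: there is no similarity `t` of the minus-type form with `t² = c²` and multiplier
`-c²` (odd characteristic): both eigenspaces would be totally singular of dimension `≤ m`, but
they span the whole space of dimension `2m+2`. -/

namespace Cfsg.Agent.Lib.Helper01.S2719K

open Module Matrix Cfsg.Agent.Lib.Helper43 Cfsg.Agent.Lib.Helper08 Cfsg.Agent.Lib.Helper50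
  Cfsg.Agent.Lib.Helper07.OG Cfsg.Agent.Lib.Helper63.S2718K

universe u

variable {F : Type u} [Field F] [Fintype F] {m : ℕ}

theorem false_of_anti_minus (h2 : (2 : F) ≠ 0) (a b : F)
    (hab : ∀ z₁ z₂ : F, z₁ ^ 2 + a * z₁ * z₂ + b * z₂ ^ 2 = 0 → z₁ = 0 ∧ z₂ = 0)
    (t : Matrix ((Fin m ⊕ Fin m) ⊕ Fin 2) ((Fin m ⊕ Fin m) ⊕ Fin 2) F) (c : F) (hc : c ≠ 0)
    (ht : t * t = (c * c) • 1)
    (hμ : ∀ v, Cfsg.quadFormMinus m F a b (t *ᵥ v) = -(c * c) * Cfsg.quadFormMinus m F a b v) :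
    False := by
  have hμ' : ∀ v, (qdataMinus43 m a b hab).qf (t *ᵥ v)
      = -(c * c) * (qdataMinus43 m a b hab).qf v := hμ
  have hne : ∀ x : F, x * x = c * c → x * x - -(c * c) ≠ 0 := by
    intro x hx
    rw [hx, sub_neg_eq_add, ← two_mul]
    exact mul_ne_zero h2 (mul_ne_zero hc hc)
  have hfr : finrank F ((Fin m ⊕ Fin m) ⊕ Fin 2 → F) = 2 * m + 2 := by
    rw [Module.finrank_fintype_fun_eq_card]
    simp only [Fintype.card_sum, Fintype.card_fin]
    omega
  have hP : ∀ v ∈ eigSp t c, (qdataMinus43 m a b hab).qf v = 0 :=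
    eigSp_singular (qdataMinus43 m a b hab).qf t c (-(c * c)) (hne c rfl) hμ'
  have hM : ∀ v ∈ eigSp t (-c), (qdataMinus43 m a b hab).qf v = 0 :=
    eigSp_singular (qdataMinus43 m a b hab).qf t (-c) (-(c * c)) (hne (-c) (by ring)) hμ'
  have hPd : finrank F ↥(eigSp t c) ≤ m := ts_finrank_le_minus m a b hab (eigSp t c) hP
  have hMd : finrank F ↥(eigSp t (-c)) ≤ m := ts_finrank_le_minus m a b hab (eigSp t (-c)) hM
  have hsup := eigSp_sup_eq_top h2 t c hc ht
  have hdim := Submodule.finrank_sup_add_finrank_inf_eq (eigSp t c) (eigSp t (-c))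
  rw [hsup, finrank_top, hfr] at hdim
  omega

end Cfsg.Agent.Lib.Helper01.S2719K
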