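import Mathlib

namespace Cfsg.Agent.Lib.Helper01.SNC

theorem card_modEq_one_of_free {G : Type*} [Group G] [Finite G] (D : Subgroup G) (m : G) (s : ℕ)
    [hs : Fact s.Prime] (hms : orderOf m = s) (hmD : m ∈ Subgroup.normalizer (D : Set G))
    (hfree : ∀ d ∈ D, d ≠ 1 → m * d * m⁻¹ ≠ d) : Nat.card D ≡ 1 [MOD s] := by
  classical
  have hK : Subgroup.zpowers m ≤ Subgroup.normalizer (D : Set G) := (Subgroup.zpowers_le).mpr hmD
  letI act : MulAction (Subgroup.zpowers m) D :=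
    { smul := fun k d => ⟨(k : G) * d * (k : G)⁻¹, (Subgroup.mem_normalizer_iff.mp (hK k.2) d).mp d.2⟩
      one_smul := fun d => by
        apply Subtype.ext
        change ((1 : Subgroup.zpowers m) : G) * d * ((1 : Subgroup.zpowers m) : G)⁻¹ = d
        simp
      mul_smul := fun k k' d => by
        apply Subtype.ext
        change ((k * k' : Subgroup.zpowers m) : G) * d * ((k * k' : Subgroup.zpowers m) : G)⁻¹ =
          (k : G) * ((k' : G) * d * (k' : G)⁻¹) * (k : G)⁻¹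
        simp [mul_assoc] }
  have hsm : ∀ (k : Subgroup.zpowers m) (d : D), ((k • d : D) : G) = (k : G) * d * (k : G)⁻¹ := fun _ _ => rfl
  have hp : IsPGroup s (Subgroup.zpowers m) :=
    IsPGroup.of_card (n := 1) (by rw [Nat.card_zpowers, hms, pow_one])
  have h := hp.card_modEq_card_fixedPoints D
  have hfix : Nat.card (MulAction.fixedPoints (Subgroup.zpowers m) D) = 1 := by
    rw [Nat.card_eq_one_iff_unique]
    refine ⟨⟨?_⟩, ⟨⟨1, ?_⟩⟩⟩
    · rintro ⟨a, ha⟩ ⟨b, hb⟩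
      have key : ∀ d : D, d ∈ MulAction.fixedPoints (Subgroup.zpowers m) D → d = 1 := by
        intro d hd
        by_contra hne
        have h1 := hd ⟨m, Subgroup.mem_zpowers m⟩
        have h2 := congrArg (fun x : D => (x : G)) h1
        simp only [hsm] at h2
        exact hfree d d.2 (fun h => hne (Subtype.ext h)) h2
      apply Subtype.ext
      simp only
      rw [key a ha, key b hb]
    · intro k
      apply Subtype.ext
      rw [hsm]
      simp
  rw [hfix] at h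
  exact h


theorem borel_abstract {G : Type*} [Group G] [Finite G] (C : Subgroup G) (r : ℕ) (hr : r.Prime)
    (hCcomm : ∀ a ∈ C, ∀ b ∈ C, a * b = b * a) (hC2 : IsPGroup 2 C) (hcard : Nat.card C = r + 1)
    (hodd : ∀ n ∈ Subgroup.normalizer (C : Set G), n ∉ C → ¬ 2 ∣ orderOf n)
    (hcyc : ∃ n0 ∈ Subgroup.normalizer (C : Set G), ∀ n ∈ Subgroup.normalizer (C : Set G),
      ∃ i : ℕ, n * n0 ^ i ∈ C)
    (hfree : ∀ n ∈ Subgroup.normalizer (C : Set G), n ∉ C → ∀ c ∈ C, c ≠ 1 → n * c * n⁻¹ ≠ c)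
    (H : Subgroup G) (hHN : H ≤ Subgroup.normalizer (C : Set G)) (hH : ¬ IsMulCommutative H) :
    Subgroup.normalizer (C : Set G) ≤ H := by
  classical
  obtain ⟨n0, hn0, hcyc⟩ := hcyc
  have hconj : ∀ n ∈ Subgroup.normalizer (C : Set G), ∀ c ∈ C, n * c * n⁻¹ ∈ C := fun n hn c hc =>
    (Subgroup.mem_normalizer_iff.mp hn c).mp hc
  have hconj' : ∀ n ∈ Subgroup.normalizer (C : Set G), ∀ c ∈ C, n⁻¹ * c * n ∈ C := fun n hn c hc => by
    have := hconj n⁻¹ (inv_mem hn) c hc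
    simpa using this
  -- step 1: a nontrivial element of H ⊓ C
  obtain ⟨c0, hc0H, hc0C, hc0⟩ : ∃ c0 ∈ H, c0 ∈ C ∧ c0 ≠ 1 := by
    have : ∃ x ∈ H, ∃ y ∈ H, x * y ≠ y * x := by
      by_contra hcon
      push_neg at hcon
      exact hH ⟨⟨fun a b => Subtype.ext (hcon a a.2 b b.2)⟩⟩
    obtain ⟨x, hx, y, hy, hxy⟩ := this
    obtain ⟨i, hi⟩ := hcyc x (hHN hx)
    obtain ⟨j, hj⟩ := hcyc y (hHN hy)
    refine ⟨x * y * x⁻¹ * y⁻¹, H.mul_mem (H.mul_mem (H.mul_mem hx hy) (H.inv_mem hx)) (H.inv_mem hy), ?_, ?_⟩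
    · have hni : n0 ^ i ∈ Subgroup.normalizer (C : Set G) := pow_mem hn0 i
      have hnj : n0 ^ j ∈ Subgroup.normalizer (C : Set G) := pow_mem hn0 j
      have e : x * y * x⁻¹ * y⁻¹ = (x * n0 ^ i) * ((n0 ^ i)⁻¹ * (y * n0 ^ j) * n0 ^ i) *
          ((n0 ^ j)⁻¹ * (x * n0 ^ i)⁻¹ * n0 ^ j) * (y * n0 ^ j)⁻¹ := by
        group
      rw [e]
      exact C.mul_mem (C.mul_mem (C.mul_mem hi (hconj' _ hni _ hj)) (hconj' _ hnj _ (C.inv_mem hi)))
        (C.inv_mem hj)
    · intro h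
      apply hxy
      have : x * y * x⁻¹ * y⁻¹ * (y * x) = y * x := by rw [h, one_mul]
      rw [← this]; group
  -- step 2: an element of prime order in H outside C
  obtain ⟨h, hhH, hhC⟩ : ∃ h ∈ H, h ∉ C := by
    by_contra hcon
    push_neg at hcon
    exact hH ⟨⟨fun a b => Subtype.ext (hCcomm a (hcon a a.2) b (hcon b b.2))⟩⟩
  have hhodd := hodd h (hHN hhH) hhC
  have hh1 : orderOf h ≠ 1 := by
    intro h1
    rw [orderOf_eq_one_iff] at h1
    exact hhC (h1 ▸ C.one_mem)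
  have hh0 : orderOf h ≠ 0 := (orderOf_pos h).ne'
  set s := (orderOf h).minFac with hsdef
  have hsp : s.Prime := Nat.minFac_prime hh1
  have hsd : s ∣ orderOf h := Nat.minFac_dvd _
  set m := h ^ (orderOf h / s) with hmdef
  have hms : orderOf m = s := orderOf_pow_orderOf_div hh0 hsd
  have hmH : m ∈ H := pow_mem hhH _
  have hmN : m ∈ Subgroup.normalizer (C : Set G) := hHN hmH
  have hs2 : s ≠ 2 := fun h2 => hhodd (h2 ▸ hsd)
  have hmC : m ∉ C := by
    intro hm
    obtain ⟨k, hk⟩ := hC2 ⟨m, hm⟩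
    have hk' : m ^ (2 ^ k) = 1 := by
      have := congrArg (fun x : C => (x : G)) hk
      simpa using this
    have hdvd : s ∣ 2 ^ k := hms ▸ orderOf_dvd_of_pow_eq_one hk'
    have := (Nat.prime_dvd_prime_iff_eq hsp Nat.prime_two).mp (hsp.dvd_of_dvd_pow hdvd)
    exact hs2 this
  -- step 3: s = r
  haveI : Fact s.Prime := ⟨hsp⟩
  have hcong := card_modEq_one_of_free C m s hms hmN (fun d hd hd1 => hfree m hmN hmC d hd hd1)
  have hsr : s = r := by
    rw [hcard] at hcong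
    have : s ∣ r + 1 - 1 := (Nat.modEq_iff_dvd' (by omega)).mp hcong.symm
    rw [Nat.add_sub_cancel] at this
    exact (Nat.prime_dvd_prime_iff_eq hsp hr).mp this
  have hmr : orderOf m = r := hms.trans hsr
  -- centralizing c0 forces membership in C
  have hcen : ∀ n ∈ Subgroup.normalizer (C : Set G), n * c0 * n⁻¹ = c0 → n ∈ C := by
    intro n hn hfix
    by_contra hnC
    exact hfree n hn hnC c0 hc0C hc0 hfix
  -- step 4: transitivity of the powers of m on the nonidentity elements of C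
  let T := {g : G // g ∈ C ∧ g ≠ 1}
  have hTcard : Nat.card T = r := by
    have e : T ≃ {c : C // c ≠ 1} :=
      { toFun := fun g => ⟨⟨g.1, g.2.1⟩, fun h => g.2.2 (congrArg Subtype.val h)⟩
        invFun := fun c => ⟨c.1.1, c.1.2, fun h => c.2 (Subtype.ext h)⟩
        left_inv := fun g => rfl
        right_inv := fun c => rfl }
    rw [Nat.card_congr e]
    have : Nat.card {c : C // c ≠ 1} = Nat.card C - 1 := by
      have h1 : Nat.card {c : C // c ≠ 1} + Nat.card {c : C // ¬ c ≠ 1} = Nat.card C := by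
        have := Nat.card_congr (Equiv.sumCompl (fun c : C => c ≠ 1))
        rw [Nat.card_sum] at this
        exact this
      have h2 : Nat.card {c : C // ¬ c ≠ 1} = 1 := by
        rw [Nat.card_eq_one_iff_unique]
        refine ⟨⟨fun a b => ?_⟩, ⟨⟨1, by simp⟩⟩⟩
        apply Subtype.ext
        have ha := a.2; have hb := b.2
        push_neg at ha hb
        rw [ha, hb]
      omega
    rw [this, hcard]; omega
  have hmk : ∀ k : ℕ, m ^ k ∈ Subgroup.normalizer (C : Set G) := fun k => pow_mem hmN k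
  let f : Fin r → T := fun k => ⟨m ^ (k : ℕ) * c0 * (m ^ (k : ℕ))⁻¹, hconj _ (hmk k) c0 hc0C, by
    intro h
    apply hc0
    have : c0 = (m ^ (k : ℕ))⁻¹ * (m ^ (k : ℕ) * c0 * (m ^ (k : ℕ))⁻¹) * m ^ (k : ℕ) := by group
    rw [this, h]; group⟩
  have hfinj : Function.Injective f := by
    intro a b hab
    have hab' : m ^ (a : ℕ) * c0 * (m ^ (a : ℕ))⁻¹ = m ^ (b : ℕ) * c0 * (m ^ (b : ℕ))⁻¹ :=
      congrArg (fun t : T => (t : G)) hab
    -- wlog a ≤ b
    have key : ∀ a b : ℕ, a ≤ b → a < r → b < r →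
        m ^ a * c0 * (m ^ a)⁻¹ = m ^ b * c0 * (m ^ b)⁻¹ → a = b := by
      intro a b hle ha hb he
      have h1 : m ^ (b - a) * c0 * (m ^ (b - a))⁻¹ = c0 := by
        have hb' : m ^ b = m ^ a * m ^ (b - a) := by rw [← pow_add]; congr 1; omega
        rw [hb'] at he
        have : m ^ (b - a) * c0 * (m ^ (b - a))⁻¹ =
            (m ^ a)⁻¹ * (m ^ a * m ^ (b - a) * c0 * (m ^ a * m ^ (b - a))⁻¹) * m ^ a := by group
        rw [this, ← he]; group
      have h2 : m ^ (b - a) ∈ C := hcen _ (hmk _) h1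
      by_contra hne
      have hlt : 0 < b - a := by omega
      have hlt' : b - a < r := by omega
      -- m is a power of m ^ (b - a)
      have hcop : Nat.Coprime (b - a) r := by
        rw [Nat.coprime_comm]
        exact (Nat.Prime.coprime_iff_not_dvd hr).mpr (fun hd => by
          have := Nat.le_of_dvd hlt hd; omega)
      obtain ⟨t, -, ht⟩ := Nat.exists_mul_mod_eq_one_of_coprime hcop (hr.one_lt)
      have : m = (m ^ (b - a)) ^ t := by
        rw [← pow_mul, ← pow_mod_orderOf, hmr, ht, pow_one]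
      exact hmC (this ▸ pow_mem h2 t)
    rcases le_total (a : ℕ) (b : ℕ) with hle | hle
    · exact Fin.ext (key a b hle a.2 b.2 hab')
    · exact Fin.ext (key b a hle b.2 a.2 hab'.symm).symm
  have hfsurj : Function.Surjective f := by
    have hfin : Finite T := by
      apply Nat.finite_of_card_ne_zero
      rw [hTcard]; exact hr.ne_zero
    have := Function.Injective.bijective_of_nat_card_le hfinj (by rw [hTcard, Nat.card_fin])
    exact this.2
  -- step 5: C ≤ H
  have hCH : ∀ c ∈ C, c ∈ H := by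
    intro c hc
    by_cases h1 : c = 1
    · rw [h1]; exact H.one_mem
    · obtain ⟨k, hk⟩ := hfsurj ⟨c, hc, h1⟩
      have : m ^ (k : ℕ) * c0 * (m ^ (k : ℕ))⁻¹ = c := congrArg (fun t : T => (t : G)) hk
      rw [← this]
      exact H.mul_mem (H.mul_mem (pow_mem hmH _) hc0H) (H.inv_mem (pow_mem hmH _))
  -- step 6
  intro n hn
  have hne : n * c0 * n⁻¹ ≠ 1 := by
    intro h
    apply hc0
    have : c0 = n⁻¹ * (n * c0 * n⁻¹) * n := by group
    rw [this, h]; group
  obtain ⟨k, hk⟩ := hfsurj ⟨n * c0 * n⁻¹, hconj n hn c0 hc0C, hne⟩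
  have hk' : m ^ (k : ℕ) * c0 * (m ^ (k : ℕ))⁻¹ = n * c0 * n⁻¹ := congrArg (fun t : T => (t : G)) hk
  have h3 : ((m ^ (k : ℕ))⁻¹ * n) * c0 * ((m ^ (k : ℕ))⁻¹ * n)⁻¹ = c0 := by
    have : ((m ^ (k : ℕ))⁻¹ * n) * c0 * ((m ^ (k : ℕ))⁻¹ * n)⁻¹ =
        (m ^ (k : ℕ))⁻¹ * (n * c0 * n⁻¹) * m ^ (k : ℕ) := by group
    rw [this, ← hk']; group
  have h4 : (m ^ (k : ℕ))⁻¹ * n ∈ C :=
    hcen _ (Subgroup.mul_mem _ (inv_mem (hmk _)) hn) h3
  have : n = m ^ (k : ℕ) * ((m ^ (k : ℕ))⁻¹ * n) := by group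
  rw [this]
  exact H.mul_mem (pow_mem hmH _) (hCH _ h4)

end Cfsg.Agent.Lib.Helper01.SNC
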