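import Mathlib
import Cfsg.Prelude.Def_JordanBlocks
import Cfsg.Agent.Lib.Helper73.UCDefs
import Cfsg.Agent.Lib.Helper73.SPCDefs
import Cfsg.Agent.Lib.Helper85.UCK6

/-!
# K-SPC-D4 (keystone 267629, pack of helper73 for S2676): `(A - 1)^r = 0` iff all parts of the Jordan type are `≤ r`
-/

set_option autoImplicit false

namespace Cfsg.Agent.Lib.Helper01.SPC

open Matrix Cfsg.Agent.Lib.Helper73.UC Cfsg.Agent.Lib.Helper73.SPC

variable {F : Type*} [Field F]

/-- the nilpotent Jordan matrix: `N^r = 0` iff all block sizes are `≤ r` -/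
theorem nilM_pow_eq_zero_iff_d4 {t : ℕ} (d : Fin t → ℕ) (r : ℕ) :
    (nilM d F) ^ r = 0 ↔ ∀ k, d k ≤ r := by
  constructor
  · intro h k
    by_contra hlt
    push Not at hlt
    have h1 := Cfsg.Agent.Lib.Helper85.UC.k6_nilM_pow_apply (K := F) d r
      (⟨k, ⟨r, hlt⟩⟩ : JI d) (⟨k, ⟨0, by omega⟩⟩ : JI d)
    rw [h, Matrix.zero_apply, if_pos ⟨rfl, by simp⟩] at h1
    exact zero_ne_one h1
  · intro h
    ext x y
    rw [Cfsg.Agent.Lib.Helper85.UC.k6_nilM_pow_apply, Matrix.zero_apply, if_neg]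
    rintro ⟨h1, h2⟩
    have h3 := x.2.2
    have h4 := h x.1
    omega

/-- **K-SPC-D4** (267629). -/
theorem matHasType_pow_eq_zero_iff {ι : Type*} [Fintype ι] [DecidableEq ι] {n : ℕ}
    (A : Matrix ι ι F) (μ : Nat.Partition n) (h : MatHasType A μ) (r : ℕ) :
    (A - 1) ^ r = 0 ↔ ∀ a ∈ μ.parts, a ≤ r := by
  obtain ⟨t, d, e, hd, hμ, hconj⟩ := h
  have h2 : (∀ a ∈ μ.parts, a ≤ r) ↔ ∀ k, d k ≤ r := by
    rw [← hμ]
    constructor
    · intro h k
      exact h _ (Multiset.mem_map.mpr ⟨k, Finset.mem_univ_val k, rfl⟩)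
    · intro h a ha
      obtain ⟨k, -, rfl⟩ := Multiset.mem_map.mp ha
      exact h k
  rw [h2, ← nilM_pow_eq_zero_iff_d4 (F := F) d r]
  obtain ⟨c, hc'⟩ := hconj
  have hc : (c : Matrix ι ι F) * Matrix.reindex e e (Cfsg.jordanTypeMatrix d F) *
      ((c⁻¹ : (Matrix ι ι F)ˣ) : Matrix ι ι F) = A := by
    rw [hc'.eq, mul_assoc, Units.mul_inv, mul_one]
  -- `A = c B c⁻¹`
  have hA : A - 1 = (c : Matrix ι ι F) * (Matrix.reindexAlgEquiv F F e (nilM d F)) *
      ((c⁻¹ : (Matrix ι ι F)ˣ) : Matrix ι ι F) := by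
    rw [← hc]
    have h1 : Matrix.reindexAlgEquiv F F e (nilM d F) =
        Matrix.reindex e e (Cfsg.jordanTypeMatrix d F) - 1 := by
      unfold nilM
      rw [map_sub, map_one, Matrix.reindexAlgEquiv_apply]
    rw [h1, mul_sub, sub_mul, mul_one, Units.mul_inv]
  rw [hA, Units.conj_pow, ← map_pow]
  constructor
  · intro h
    have h3 : Matrix.reindexAlgEquiv F F e (nilM d F ^ r) = 0 := by
      have h4 := congrArg (fun M => ((c⁻¹ : (Matrix ι ι F)ˣ) : Matrix ι ι F) * M * (c : Matrix ι ι F)) h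
      simp only [mul_zero, zero_mul] at h4
      rw [← h4]
      simp only [mul_assoc, Units.mul_inv, Units.inv_mul, mul_one]
      rw [← mul_assoc, Units.inv_mul, one_mul]
    exact (map_eq_zero_iff _ (Matrix.reindexAlgEquiv F F e).injective).mp h3
  · intro h
    rw [h, map_zero, mul_zero, zero_mul]

end Cfsg.Agent.Lib.Helper01.SPC
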