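import Mathlib
import Cfsg.Prelude.Def_Solvable
import Cfsg.Prelude.Def_Local
import Cfsg.Prelude.Def_SolvableStructure
import Cfsg.Agent.Lib.Helper41.SchmidtPLDefs

/-!
# K-SPL-SA4c (keystone 439408, S4394 pack of helper41)

`p = 2`, `|P| = 8`, `|Z(P)| = 2`, `r = 3`: every `x ∈ P ∖ Z(P)` has `x ^ 2 ≠ 1`.
Counting route: the set `I` of involutions of `P` outside `Z` is acted on by `K` (conjugation) and
by `Z` (multiplication), both without fixed points; so `6 ∣ |I|`, while `|I| < 6`.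
-/

set_option autoImplicit false

namespace Cfsg.Agent.Lib.Helper01.SPL

open Cfsg Cfsg.Agent.Lib.Helper41.SchmidtPL
open scoped commutatorElement

theorem opData_two {X : Type*} [Group X] [Finite X] {P K : Subgroup X}
    (h : OpData 2 3 P K) (hnab : ∃ x ∈ P, ∃ y ∈ P, x * y ≠ y * x)
    (hfix : ∀ x ∈ P, (∀ k ∈ K, k * x = x * k) ↔ x ∈ zIn P)
    (hcl : ∀ x ∈ P, ∀ y ∈ P, ⁅x, y⁆ ∈ zIn P)
    (hcard : Nat.card P = 8) (hZ : Nat.card (zIn P) = 2) :
    ∀ x ∈ P, x ∉ zIn P → x ^ 2 ≠ 1 := by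
  classical
  have h3 : Fact (Nat.Prime 3) := ⟨by norm_num⟩
  have h2 : Fact (Nat.Prime 2) := ⟨by norm_num⟩
  -- squares in Z are trivial
  have hz2 : ∀ z ∈ zIn P, z ^ 2 = 1 := by
    intro z hz
    have h1 := pow_card_eq_one' (G := ↥(zIn P)) (x := ⟨z, hz⟩)
    rw [hZ] at h1
    have h4 := congrArg Subtype.val h1
    simpa using h4
  have hZP : ∀ z ∈ zIn P, z ∈ P := fun z hz => (mem_zIn.mp hz).1
  -- the set of non-central involutions
  let I : Set X := {y | y ∈ P ∧ y ∉ zIn P ∧ y ^ 2 = 1}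
  have hImem : ∀ y, y ∈ I ↔ (y ∈ P ∧ y ∉ zIn P ∧ y ^ 2 = 1) := fun y => Iff.rfl
  -- an element outside Z with nontrivial square
  have hy0 : ∃ y0 ∈ P, y0 ∉ zIn P ∧ y0 ^ 2 ≠ 1 := by
    by_contra hcon
    push Not at hcon
    have hall : ∀ y ∈ P, y ^ 2 = 1 := by
      intro y hy
      by_cases hyz : y ∈ zIn P
      · exact hz2 y hyz
      · exact hcon y hy hyz
    obtain ⟨a, ha, b, hb, hab⟩ := hnab
    apply hab
    have e1 := hall a ha
    have e2 := hall b hb
    have e3 := hall (a * b) (P.mul_mem ha hb)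
    have ia : a⁻¹ = a := by
      rw [inv_eq_iff_mul_eq_one, ← pow_two]; exact e1
    have ib : b⁻¹ = b := by
      rw [inv_eq_iff_mul_eq_one, ← pow_two]; exact e2
    have iab : (a * b)⁻¹ = a * b := by
      rw [inv_eq_iff_mul_eq_one, ← pow_two]; exact e3
    rw [mul_inv_rev, ia, ib] at iab
    exact iab.symm
  -- action of K
  let actK : MulAction ↥K ↥I :=
    { smul := fun k y => ⟨(k : X) * (y : X) * (k : X)⁻¹, by
        refine ⟨h.norm k k.2 y y.2.1, ?_, ?_⟩
        · intro hz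
          have hc := (hfix _ (hZP _ hz)).mpr hz (k : X)⁻¹ (K.inv_mem k.2)
          have : (y : X) = (k : X) * (y : X) * (k : X)⁻¹ := by
            calc (y : X) = (k : X)⁻¹ * ((k : X) * (y : X) * (k : X)⁻¹) * (k : X) := by group
              _ = ((k : X) * (y : X) * (k : X)⁻¹) * (k : X)⁻¹ * (k : X) := by rw [hc]
              _ = (k : X) * (y : X) * (k : X)⁻¹ := by group
          exact y.2.2.1 (this ▸ hz)
        · rw [conj_pow, y.2.2.2]; simp⟩
      one_smul := fun y => by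
        apply Subtype.ext
        show ((1 : ↥K) : X) * y * ((1 : ↥K) : X)⁻¹ = y
        simp
      mul_smul := fun a b y => by
        apply Subtype.ext
        show ((a * b : ↥K) : X) * y * ((a * b : ↥K) : X)⁻¹
          = (a : X) * ((b : X) * y * (b : X)⁻¹) * (a : X)⁻¹
        simp [mul_assoc] }
  have hsmK : ∀ (k : ↥K) (y : ↥I), ((k • y : ↥I) : X) = (k : X) * y * (k : X)⁻¹ := fun _ _ => rfl
  have hK1 := h.hK.card_modEq_card_fixedPoints ↥I
  have hK2 : Nat.card (MulAction.fixedPoints ↥K ↥I) = 0 := by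
    have : IsEmpty ↥(MulAction.fixedPoints ↥K ↥I) := by
      refine ⟨fun y => ?_⟩
      apply (y : ↥I).2.2.1
      rw [← hfix _ (y : ↥I).2.1]
      intro k hk
      have h5 := y.2 ⟨k, hk⟩
      have h6 := congrArg (fun t : ↥I => (t : X)) h5
      simp only [hsmK] at h6
      calc k * ((y : ↥I) : X) = (k * ((y : ↥I) : X) * k⁻¹) * k := by group
        _ = ((y : ↥I) : X) * k := by rw [h6]
    exact Nat.card_of_isEmpty
  -- action of Z
  have hZp : IsPGroup 2 ↥(zIn P) := IsPGroup.of_card (n := 1) (by rw [hZ]; norm_num)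
  let actZ : MulAction ↥(zIn P) ↥I :=
    { smul := fun z y => ⟨(z : X) * (y : X), by
        refine ⟨P.mul_mem (hZP _ z.2) y.2.1, ?_, ?_⟩
        · intro hz
          have : (y : X) ∈ zIn P := by
            have := (zIn P).mul_mem ((zIn P).inv_mem z.2) hz
            simpa using this
          exact y.2.2.1 this
        · have hc : Commute (z : X) (y : X) := ((mem_zIn.mp z.2).2 y y.2.1).symm
          rw [hc.mul_pow, hz2 _ z.2, y.2.2.2, one_mul]⟩
      one_smul := fun y => by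
        apply Subtype.ext
        show ((1 : ↥(zIn P)) : X) * y = y
        simp
      mul_smul := fun a b y => by
        apply Subtype.ext
        show ((a * b : ↥(zIn P)) : X) * y = (a : X) * ((b : X) * y)
        simp [mul_assoc] }
  have hsmZ : ∀ (z : ↥(zIn P)) (y : ↥I), ((z • y : ↥I) : X) = (z : X) * y := fun _ _ => rfl
  have hZ1 := hZp.card_modEq_card_fixedPoints ↥I
  have hZ2 : Nat.card (MulAction.fixedPoints ↥(zIn P) ↥I) = 0 := by
    have hne : zIn P ≠ ⊥ := by
      intro hb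
      rw [hb, Subgroup.card_bot] at hZ
      omega
    obtain ⟨z0, hz0⟩ := (Subgroup.ne_bot_iff_exists_ne_one).mp hne
    have : IsEmpty ↥(MulAction.fixedPoints ↥(zIn P) ↥I) := by
      refine ⟨fun y => ?_⟩
      apply hz0
      have h5 := y.2 z0
      have h6 := congrArg (fun t : ↥I => (t : X)) h5
      simp only [hsmZ] at h6
      apply Subtype.ext
      simpa using h6
    exact Nat.card_of_isEmpty
  rw [hK2] at hK1
  rw [hZ2] at hZ1
  -- |I| < 6
  have hlt : Nat.card ↥I < 6 := by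
    obtain ⟨y0, hy0P, hy0Z, hy0sq⟩ := hy0
    have hsub : I ⊂ ((P : Set X) \ (zIn P : Set X)) := by
      refine ⟨fun y hy => ⟨hy.1, hy.2.1⟩, fun hcon => ?_⟩
      exact hy0sq (hcon ⟨hy0P, hy0Z⟩).2.2
    have h7 := Set.ncard_lt_ncard hsub (Set.toFinite _)
    have h8 : ((P : Set X) \ (zIn P : Set X)).ncard = 6 := by
      rw [Set.ncard_sdiff (fun z hz => hZP z hz) (Set.toFinite _)]
      have e1 : (P : Set X).ncard = 8 := by
        rw [← hcard]; rfl
      have e2 : (zIn P : Set X).ncard = 2 := by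
        rw [← hZ]; rfl
      rw [e1, e2]
    rw [h8] at h7
    have h9 : Nat.card ↥I = I.ncard := rfl
    omega
  have h0 : Nat.card ↥I = 0 := by
    have d3 : 3 ∣ Nat.card ↥I := (Nat.modEq_zero_iff_dvd).mp hK1
    have d2 : 2 ∣ Nat.card ↥I := (Nat.modEq_zero_iff_dvd).mp hZ1
    omega
  intro x hxP hxZ hx2
  have hxI : x ∈ I := ⟨hxP, hxZ, hx2⟩
  have : Nonempty ↥I := ⟨⟨x, hxI⟩⟩
  have hpos : 0 < Nat.card ↥I := Nat.card_pos
  omega

end Cfsg.Agent.Lib.Helper01.SPL
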