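import Mathlib
import Cfsg.Prelude.Def_GeometricClasses
import Cfsg.Agent.Lib.Helper10.SU3KDefs
import Cfsg.Agent.Lib.Helper92.SU3FC

/-!
# K-SU3F-B (keystone 577812): `N(K) ∩ SU_3(q)` normalises `⟨c⟩` (`c ∈ K` of order 7), `q = 3, 5`

`c` and `d = g c g⁻¹` lie in the commutative algebra `K`, so they generate an abelian group `H`;
`49 ∤ |GL_3(F)|`, so by Sylow in `H` the subgroups `⟨c⟩`, `⟨d⟩` are conjugate in `H`, i.e. equal.
-/

set_option autoImplicit false
set_option linter.unusedSectionVars false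

namespace Cfsg.Agent.Lib.Helper01.SU3F

open Cfsg Cfsg.Geo Matrix Cfsg.Agent.Lib.Helper10.SU3K
open scoped Matrix MatrixGroups

variable {F : Type*} [Field F] [Fintype F] {q : ℕ}

/-- two commuting elements of order `7` in a finite group of order not divisible by `49` generate
the same cyclic subgroup -/
theorem mem_zpowers_of_commute_of_order_seven {S : Type*} [Group S] [Finite S]
    (h49 : ¬ 49 ∣ Nat.card S) (c d : S) (hc : orderOf c = 7) (hd : orderOf d = 7)
    (hcd : c * d = d * c) : d ∈ Subgroup.zpowers c := by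
  classical
  set H : Subgroup S := Subgroup.closure {c, d} with hH
  have hcommS : ∀ x ∈ ({c, d} : Set S), ∀ y ∈ ({c, d} : Set S), x * y = y * x := by
    intro x hx y hy
    rcases hx with rfl | rfl <;> rcases hy with rfl | rfl
    · rfl
    · exact hcd
    · exact hcd.symm
    · rfl
  have hHc : IsMulCommutative H := Subgroup.isMulCommutative_closure hcommS
  have hcH : c ∈ H := Subgroup.subset_closure (by simp)
  have hdH : d ∈ H := Subgroup.subset_closure (by simp)
  have h49H : ¬ 49 ∣ Nat.card H := fun h => h49 (h.trans (Subgroup.card_subgroup_dvd_card H))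
  have hc' : orderOf (⟨c, hcH⟩ : H) = 7 := by rw [← hc]; exact Subgroup.orderOf_mk c hcH
  have hd' : orderOf (⟨d, hdH⟩ : H) = 7 := by rw [← hd]; exact Subgroup.orderOf_mk d hdH
  obtain ⟨g, hg⟩ := Cfsg.Agent.Lib.Helper92.SU3F.exists_conj_of_order_seven_aux h49H
    (⟨d, hdH⟩ : H) ⟨c, hcH⟩ hd' hc'
  have hgd : g * (⟨d, hdH⟩ : H) * g⁻¹ = ⟨d, hdH⟩ := by
    have := hHc.is_comm.comm g ⟨d, hdH⟩
    rw [this, mul_inv_cancel_right]
  rw [hgd] at hg
  obtain ⟨k, hk⟩ := Subgroup.mem_zpowers_iff.mp hg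
  refine Subgroup.mem_zpowers_iff.mpr ⟨k, ?_⟩
  have := congrArg Subtype.val hk
  simpa using this

/-- K-SU3F-B -/
theorem normalizer_le (hF : Fintype.card F = q ^ 2) (hq : q = 3 ∨ q = 5)
    (K : Subalgebra F (Matrix (Fin 3) (Fin 3) F)) (hK : IsFieldSubalgebra 3 K)
    (c : GL (Fin 3) F) (hcK : (c : Matrix (Fin 3) (Fin 3) F) ∈ K) (hc7 : orderOf c = 7)
    (hcSU : c ∈ SUg 3 F q) :
    ∀ g ∈ subalgebraNormalizer K ⊓ SUg 3 F q, g * c * g⁻¹ ∈ Subgroup.zpowers c := by
  classical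
  intro g hg
  have hgK : ((g * c * g⁻¹ : GL (Fin 3) F) : Matrix (Fin 3) (Fin 3) F) ∈ K := by
    have := (hg.1 (c : Matrix (Fin 3) (Fin 3) F)).mp hcK
    simpa [Units.val_mul] using this
  have hd7 : orderOf (g * c * g⁻¹) = 7 := by
    have := MulEquiv.orderOf_eq (MulAut.conj g) c
    rw [← hc7, ← this]
    rfl
  have hcd : c * (g * c * g⁻¹) = (g * c * g⁻¹) * c := by
    apply Units.ext
    rw [Units.val_mul, Units.val_mul]
    exact hK.comm _ hcK _ hgK
  exact mem_zpowers_of_commute_of_order_seven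
    (Cfsg.Agent.Lib.Helper92.SU3F.not_dvd_card_GL hF hq) c (g * c * g⁻¹) hc7 hd7 hcd

end Cfsg.Agent.Lib.Helper01.SU3F
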