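import Mathlib
import Cfsg.Prelude.Def_GeometricClasses
import Cfsg.Prelude.Def_ClassicalGeometry
import Cfsg.Agent.Lib.Helper79.SpUDefs
import Cfsg.Agent.Lib.Helper49.SpSemiConj
import Cfsg.Agent.Lib.Helper49.SemisimpleConj

/-!
# K-SpU-H0 (keystone 597606): elements of `Sp` with square `-1` are `Sp`-conjugate into `N(K0)`
-/

set_option autoImplicit false

namespace Cfsg.Agent.Lib.Helper01.SpU

open Cfsg Cfsg.Geo Cfsg.Agent.Lib.Helper79.SpU Polynomial
open scoped Matrix MatrixGroups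

variable {F : Type*} [Field F] {d : ℕ}

local notation "II" => (Fin d ⊕ Fin d)
local notation "Mat" => Matrix (Fin d ⊕ Fin d) (Fin d ⊕ Fin d) F
local notation "JJ" => Matrix.J (Fin d) F

theorem sympForm_mulVec (A : Mat) (u v : II → F) :
    sympForm d F (A *ᵥ u) (A *ᵥ v) = u ⬝ᵥ ((Aᵀ * JJ * A) *ᵥ v) := by
  unfold sympForm
  rw [← Matrix.mulVec_mulVec, ← Matrix.mulVec_mulVec, Matrix.dotProduct_mulVec u,
    Matrix.vecMul_transpose]

theorem mem_spGL_of_eq (g : GL II F) (h : (g : Mat)ᵀ * JJ * (g : Mat) = JJ) : g ∈ spGL d F := by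
  intro u v
  show sympForm d F ((g : Mat) *ᵥ u) ((g : Mat) *ᵥ v) = sympForm d F u v
  rw [sympForm_mulVec, h]
  rfl

theorem eq_of_mem_spGL [Finite F] (g : GL II F) (hg : g ∈ spGL d F) :
    (g : Mat)ᵀ * JJ * (g : Mat) = JJ := by
  apply Cfsg.Agent.Lib.Helper49.transpose_mul_mul_eq_of_forall
  intro u v
  exact hg u v

theorem J_mul_J : JJ * JJ = -1 := Matrix.J_squared (Fin d) F

/-- the characteristic polynomial of a symplectic matrix with square `-1` -/
theorem charpoly_of_sq_neg_one (h2 : (2 : F) ≠ 0) (M : Mat) (hM : Mᵀ * JJ * M = JJ)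
    (hsq : M * M = -1) : M.charpoly = (X ^ 2 + 1) ^ d := by
  -- (i) `(-M).charpoly = M.charpoly`
  have h1 : Mᵀ * JJ = JJ * (-M) := by
    have : Mᵀ * JJ * M * (-M) = JJ * (-M) := by rw [hM]
    rw [Matrix.mul_assoc (Mᵀ * JJ), Matrix.mul_neg, hsq, neg_neg, Matrix.mul_one] at this
    exact this
  have h3 : Mᵀ = JJ * ((-M) * (-JJ)) := by
    rw [← Matrix.mul_assoc, ← h1, Matrix.mul_assoc, Matrix.mul_neg, J_mul_J, neg_neg,
      Matrix.mul_one]
  have h4 : ((-M) * (-JJ)) * JJ = -M := by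
    calc ((-M) * (-JJ)) * JJ = M * (JJ * JJ) := by
          rw [neg_mul_neg, Matrix.mul_assoc]
      _ = -M := by rw [J_mul_J, Matrix.mul_neg, Matrix.mul_one]
  have hneg : (-M).charpoly = M.charpoly := by
    rw [← Matrix.charpoly_transpose M, h3, Matrix.charpoly_mul_comm, h4]
  -- (ii) the product
  have hprod : M.charpoly * (-M).charpoly = ((X ^ 2 + 1) ^ d) ^ 2 := by
    unfold Matrix.charpoly
    rw [← Matrix.det_mul]
    have hN : (C : F →+* F[X]).mapMatrix M * (C : F →+* F[X]).mapMatrix M = -1 := by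
      rw [← map_mul, hsq, map_neg, map_one]
    have hcm : Matrix.charmatrix M * Matrix.charmatrix (-M) =
        Matrix.scalar II ((X : F[X]) ^ 2 + 1) := by
      unfold Matrix.charmatrix
      rw [map_neg, sub_neg_eq_add, Matrix.sub_mul, Matrix.mul_add, Matrix.mul_add, hN]
      have hc : (C : F →+* F[X]).mapMatrix M * Matrix.scalar II (X : F[X]) =
          Matrix.scalar II (X : F[X]) * (C : F →+* F[X]).mapMatrix M :=
        ((Matrix.scalar_commute (X : F[X]) (fun r' => Commute.all _ _)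
          ((C : F →+* F[X]).mapMatrix M))).symm.eq
      rw [hc, ← map_mul, map_add, map_one, pow_two]
      abel
    rw [hcm, Matrix.scalar_apply, Matrix.det_diagonal]
    simp only [Finset.prod_const, Finset.card_univ, Fintype.card_sum, Fintype.card_fin]
    rw [← pow_mul]
    congr 1
    ring
  rw [hneg] at hprod
  have hfac : (M.charpoly - (X ^ 2 + 1) ^ d) * (M.charpoly + (X ^ 2 + 1) ^ d) = 0 := by
    have : (M.charpoly - (X ^ 2 + 1) ^ d) * (M.charpoly + (X ^ 2 + 1) ^ d) =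
        M.charpoly * M.charpoly - ((X ^ 2 + 1) ^ d) ^ 2 := by ring
    rw [this, hprod, sub_self]
  rcases mul_eq_zero.mp hfac with h | h
  · exact sub_eq_zero.mp h
  · exfalso
    have hmon : (M.charpoly).Monic := Matrix.charpoly_monic M
    have hmon2 : (((X : F[X]) ^ 2 + 1) ^ d).Monic := by
      apply Monic.pow
      have := monic_X_pow_add_C (R := F) (1 : F) (n := 2) (by norm_num)
      simpa using this
    have hdeg : (M.charpoly).natDegree = (((X : F[X]) ^ 2 + 1) ^ d).natDegree := by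
      have e : M.charpoly = -((X ^ 2 + 1) ^ d) := eq_neg_of_add_eq_zero_left h
      rw [e, natDegree_neg]
    have hc := congrArg (fun p : F[X] => p.coeff (M.charpoly).natDegree) h
    simp only [coeff_add, coeff_zero] at hc
    have c1 : (M.charpoly).coeff (M.charpoly).natDegree = 1 := hmon.coeff_natDegree
    have c2 : (((X : F[X]) ^ 2 + 1) ^ d).coeff (M.charpoly).natDegree = 1 := by
      rw [hdeg]
      exact hmon2.coeff_natDegree
    rw [c1, c2] at hc
    apply h2
    rw [← hc]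
    norm_num

theorem squarefree_X_sq_add_one (h2 : (2 : F) ≠ 0) : Squarefree ((X : F[X]) ^ 2 + 1) := by
  apply Polynomial.Separable.squarefree
  rw [Polynomial.separable_def]
  have hd : derivative ((X : F[X]) ^ 2 + 1) = C 2 * X := by
    rw [derivative_add, derivative_one, add_zero, derivative_X_pow]
    simp
  rw [hd]
  refine ⟨1, -(C (2⁻¹ : F)) * X, ?_⟩
  have : (C (2⁻¹ : F) : F[X]) * C 2 = 1 := by
    rw [← C_mul, inv_mul_cancel₀ h2, C_1]
  linear_combination (-(X : F[X]) ^ 2) * this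

/-- a unit `g` with `g θ₀ = ε θ₀ g`, `ε² = 1`, normalises `K0` -/
theorem mem_normalizer_of_theta (δ : F) (g : GL II F) (ε : F) (hε : ε * ε = 1)
    (h : (g : Mat) * theta d δ = ε • (theta d δ * (g : Mat))) :
    g ∈ subalgebraNormalizer (K0 d δ) := by
  have hg1 : (g : Mat) * ((g⁻¹ : GL II F) : Mat) = 1 := by
    rw [← Units.val_mul, mul_inv_cancel, Units.val_one]
  have hg2 : ((g⁻¹ : GL II F) : Mat) * (g : Mat) = 1 := by
    rw [← Units.val_mul, inv_mul_cancel, Units.val_one]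
  have key : (g : Mat) * theta d δ * ((g⁻¹ : GL II F) : Mat) = ε • theta d δ := by
    rw [h, Matrix.smul_mul, Matrix.mul_assoc, hg1, Matrix.mul_one]
  have key2 : ((g⁻¹ : GL II F) : Mat) * theta d δ * (g : Mat) = ε • theta d δ := by
    have e1 : ((g⁻¹ : GL II F) : Mat) * ((g : Mat) * theta d δ) =
        ((g⁻¹ : GL II F) : Mat) * (ε • (theta d δ * (g : Mat))) := by rw [h]
    rw [← Matrix.mul_assoc, hg2, Matrix.one_mul, Matrix.mul_smul, ← Matrix.mul_assoc] at e1
    have e2 : ε • theta d δ =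
        ε • (ε • (((g⁻¹ : GL II F) : Mat) * theta d δ * (g : Mat))) := by rw [← e1]
    rw [smul_smul, hε, one_smul] at e2
    exact e2.symm
  intro k
  show k ∈ K0 d δ ↔ (g : Mat) * k * ((g⁻¹ : GL II F) : Mat) ∈ K0 d δ
  rw [mem_K0_iff, mem_K0_iff]
  constructor
  · rintro ⟨a, b, rfl⟩
    refine ⟨a, b * ε, ?_⟩
    rw [Matrix.mul_add, Matrix.add_mul, Matrix.mul_smul, Matrix.smul_mul, Matrix.mul_one, hg1,
      Matrix.mul_smul, Matrix.smul_mul, key, smul_smul]
  · rintro ⟨a, b, hab⟩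
    refine ⟨a, b * ε, ?_⟩
    have e1 : k = ((g⁻¹ : GL II F) : Mat) * ((g : Mat) * k * ((g⁻¹ : GL II F) : Mat)) *
        (g : Mat) := by
      rw [Matrix.mul_assoc (g : Mat) k, ← Matrix.mul_assoc ((g⁻¹ : GL II F) : Mat), hg2,
        Matrix.one_mul, Matrix.mul_assoc, hg2, Matrix.mul_one]
    rw [e1, hab, Matrix.mul_add, Matrix.add_mul, Matrix.mul_smul, Matrix.smul_mul, Matrix.mul_one,
      hg2, Matrix.mul_smul, Matrix.smul_mul, key2, smul_smul]

/-- the data of the model element `y` -/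
theorem exists_model [Fintype F] (hodd : Odd (Fintype.card F)) (δ : F) (hδ : ¬ IsSquare δ) :
    ∃ (y : Mat) (ε : F), yᵀ * JJ * y = JJ ∧ y * y = -1 ∧ ε * ε = 1 ∧
      y * theta d δ = ε • (theta d δ * y) := by
  classical
  by_cases hm1 : IsSquare (-1 : F)
  · obtain ⟨i, hi⟩ := hm1
    refine ⟨i • Matrix.fromBlocks 1 0 0 (-1), -1, ?_, ?_, by ring, ?_⟩
    · rw [Matrix.transpose_smul, Matrix.fromBlocks_transpose, Matrix.smul_mul, Matrix.smul_mul,
        Matrix.mul_smul, smul_smul, ← hi]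
      unfold Matrix.J
      rw [Matrix.fromBlocks_multiply, Matrix.fromBlocks_multiply]
      simp [Matrix.fromBlocks_neg, Matrix.fromBlocks_smul]
    · rw [Matrix.smul_mul, Matrix.mul_smul, smul_smul, ← hi, Matrix.fromBlocks_multiply]
      simp [Matrix.fromBlocks_neg, Matrix.fromBlocks_smul, ← Matrix.fromBlocks_one]
    · unfold theta
      rw [Matrix.smul_mul, Matrix.mul_smul, Matrix.fromBlocks_multiply,
        Matrix.fromBlocks_multiply]
      simp [Matrix.fromBlocks_neg, Matrix.fromBlocks_smul]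
  · -- `-1 = c² δ`
    have hq : IsSquare ((-1 : F) * δ) := by
      have h0 : (-1 : F) ≠ 0 := by simp
      have hδ0 : δ ≠ 0 := fun h => hδ (h ▸ IsSquare.zero)
      rw [← quadraticChar_one_iff_isSquare (mul_ne_zero h0 hδ0), map_mul,
        quadraticChar_neg_one_iff_not_isSquare.mpr hm1,
        quadraticChar_neg_one_iff_not_isSquare.mpr hδ]
      norm_num
    obtain ⟨e, he⟩ := hq
    have hδ0 : δ ≠ 0 := fun h => hδ (h ▸ IsSquare.zero)
    -- c := e / δ : c² δ = e² / δ = -1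
    set c : F := e / δ with hc
    have hc2 : c * c * δ = -1 := by
      rw [hc]
      field_simp
      rw [pow_two, ← he]
      ring
    refine ⟨c • theta d δ, 1, ?_, ?_, by ring, ?_⟩
    · rw [Matrix.transpose_smul, Matrix.smul_mul, Matrix.smul_mul, Matrix.mul_smul, smul_smul]
      unfold theta Matrix.J
      rw [Matrix.fromBlocks_transpose, Matrix.fromBlocks_multiply, Matrix.fromBlocks_multiply]
      simp only [Matrix.transpose_zero, Matrix.transpose_one, Matrix.transpose_smul, zero_mul,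
        mul_zero, Matrix.mul_one, Matrix.one_mul, add_zero, zero_add, Matrix.mul_neg,
        Matrix.smul_mul, Matrix.mul_smul, Matrix.fromBlocks_smul, smul_zero, smul_neg, smul_smul]
      rw [hc2]
      simp
    · rw [Matrix.smul_mul, Matrix.mul_smul, smul_smul, theta_mul_self, smul_smul, hc2]
      simp
    · rw [one_smul, Matrix.smul_mul, Matrix.mul_smul]

/-- **K-SpU-H0 (597606).** -/
theorem invol_neg [Fintype F] (hodd : Odd (Fintype.card F)) (d : ℕ) (hd : 1 ≤ d) (δ : F) (hδ : ¬ IsSquare δ)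
    (x : GL (Fin d ⊕ Fin d) F) (hx : x ∈ spGL d F)
    (hx2 : (x : Matrix (Fin d ⊕ Fin d) (Fin d ⊕ Fin d) F) * (x : Matrix (Fin d ⊕ Fin d) (Fin d ⊕ Fin d) F) = -1) :
    ∃ g ∈ spGL d F, g⁻¹ * x * g ∈ subalgebraNormalizer (K0 d δ) := by
  classical
  have h2 : (2 : F) ≠ 0 := by
    intro h
    have hchar : ringChar F = 2 := by
      have : ringChar F ∣ 2 := by
        apply (ringChar.spec F 2).mp
        exact_mod_cast h
      rcases (Nat.dvd_prime Nat.prime_two).mp this with h1 | h1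
      · exfalso
        have := CharP.ringChar_ne_one (R := F)
        exact this h1
      · exact h1
    have := FiniteField.even_card_of_char_two hchar
    exact (Nat.not_even_iff_odd.mpr hodd) (Nat.even_iff.mpr this)
  obtain ⟨y, ε, hyJ, hy2, hε, hyθ⟩ := exists_model (d := d) hodd δ hδ
  have hxJ := eq_of_mem_spGL x hx
  have hcx := charpoly_of_sq_neg_one h2 (x : Matrix (Fin d ⊕ Fin d) (Fin d ⊕ Fin d) F) hxJ hx2
  have hcy := charpoly_of_sq_neg_one h2 y hyJ hy2
  have hax : aeval (x : Matrix (Fin d ⊕ Fin d) (Fin d ⊕ Fin d) F) ((X : F[X]) ^ 2 + 1) = 0 := by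
    rw [map_add, map_pow, aeval_X, map_one, pow_two, hx2]
    simp
  have hay : aeval y ((X : F[X]) ^ 2 + 1) = 0 := by
    rw [map_add, map_pow, aeval_X, map_one, pow_two, hy2]
    simp
  obtain ⟨P, hP⟩ := Cfsg.Agent.Lib.Helper49.exists_GL_conj_of_charpoly_eq
    (x : Matrix (Fin d ⊕ Fin d) (Fin d ⊕ Fin d) F) y _ (squarefree_X_sq_add_one h2) hax hay
    (hcx.trans hcy.symm)
  let A : Matrix.symplecticGroup (Fin d) F :=
    ⟨(x : Matrix (Fin d ⊕ Fin d) (Fin d ⊕ Fin d) F), SymplecticGroup.mem_iff'.mpr hxJ⟩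
  let B : Matrix.symplecticGroup (Fin d) F := ⟨y, SymplecticGroup.mem_iff'.mpr hyJ⟩
  have h4 : ((4 : ℕ) : F) ≠ 0 := by
    have : ((4 : ℕ) : F) = 2 * 2 := by norm_num
    rw [this]
    exact mul_ne_zero h2 h2
  have hA4 : A ^ 4 = 1 := by
    apply Subtype.ext
    show (x : Matrix (Fin d ⊕ Fin d) (Fin d ⊕ Fin d) F) ^ 4 = 1
    have : (x : Matrix (Fin d ⊕ Fin d) (Fin d ⊕ Fin d) F) ^ 4 =
        ((x : Matrix (Fin d ⊕ Fin d) (Fin d ⊕ Fin d) F) * (x : Matrix (Fin d ⊕ Fin d) (Fin d ⊕ Fin d) F)) *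
        ((x : Matrix (Fin d ⊕ Fin d) (Fin d ⊕ Fin d) F) * (x : Matrix (Fin d ⊕ Fin d) (Fin d ⊕ Fin d) F)) := by
      noncomm_ring
    rw [this, hx2]
    simp
  have hconj : IsConj A B :=
    Cfsg.Agent.Lib.Helper49.sp_conj_of_matrix_conj A B 4 h4 hA4 (P : Matrix _ _ F)
      ((Matrix.isUnit_iff_isUnit_det _).mp P.isUnit) hP
  obtain ⟨c, hc⟩ := isConj_iff.mp hconj
  -- GL elements
  have hcc1 : c.1 * (c⁻¹ : Matrix.symplecticGroup (Fin d) F).1 = 1 := by
    show (c * c⁻¹).1 = 1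
    rw [mul_inv_cancel]
    rfl
  have hcc2 : (c⁻¹ : Matrix.symplecticGroup (Fin d) F).1 * c.1 = 1 := by
    show (c⁻¹ * c).1 = 1
    rw [inv_mul_cancel]
    rfl
  let gC : GL (Fin d ⊕ Fin d) F := ⟨c.1, (c⁻¹ : Matrix.symplecticGroup (Fin d) F).1, hcc1, hcc2⟩
  have hgC : gC ∈ spGL d F := mem_spGL_of_eq gC (SymplecticGroup.mem_iff'.mp c.2)
  let yG : GL (Fin d ⊕ Fin d) F := ⟨y, -y, by rw [Matrix.mul_neg, hy2, neg_neg],
    by rw [Matrix.neg_mul, hy2, neg_neg]⟩
  have hyN : yG ∈ subalgebraNormalizer (K0 d δ) := mem_normalizer_of_theta δ yG ε hε hyθ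
  refine ⟨gC⁻¹, Subgroup.inv_mem _ hgC, ?_⟩
  have heq : gC⁻¹⁻¹ * x * gC⁻¹ = yG := by
    rw [inv_inv]
    apply Units.ext
    show c.1 * (x : Matrix (Fin d ⊕ Fin d) (Fin d ⊕ Fin d) F) *
      (c⁻¹ : Matrix.symplecticGroup (Fin d) F).1 = y
    have := congrArg Subtype.val hc
    exact this
  rw [heq]
  exact hyN

end Cfsg.Agent.Lib.Helper01.SpU
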