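import Mathlib
import Cfsg.Agent.Lib.Helper54.Subnormal
import Cfsg.Agent.Lib.Helper01.Basic
import Cfsg.Agent.Lib.Helper01.Coprime

/-!
# Counting the subnormalizer of a `p`-subgroup

`SN p H` is the set of `g` such that some `p`-subgroup containing `H` is normalized by `g`
(equivalently `H` is subnormal in `⟨H, g⟩`).  We prove the two reduction lemmas
(normal `p`-subgroup, normal `p'`-subgroup) behind Casolo's formula for `p`-solvable groups.
-/

set_option autoImplicit false

namespace Cfsg.Agent.Lib.Helper01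

open scoped Pointwise

variable {G : Type*} [Group G]

/-- the subnormalizer set of `H` with respect to the prime `p` -/
def SN (p : ℕ) (H : Subgroup G) : Set G :=
  {g | ∃ U : Subgroup G, IsPGroup p U ∧ H ≤ U ∧ g ∈ Subgroup.normalizer (U : Set G)}

theorem mem_SN {p : ℕ} {H : Subgroup G} {g : G} :
    g ∈ SN p H ↔ ∃ U : Subgroup G, IsPGroup p U ∧ H ≤ U ∧
      g ∈ Subgroup.normalizer (U : Set G) := Iff.rfl

open Cfsg.Agent.Lib.Helper54 in
/-- subnormality of a `p`-subgroup `A` in `⟨A, g⟩` is equivalent to the existence of a `p`-subgroup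
containing `A` and normalized by `g`. -/
theorem isSubnormal_iff_mem_SN [Finite G] (p : ℕ) [Fact p.Prime]
    (A : Subgroup G) (hA : IsPGroup p A) (g : G) :
    ((A).subgroupOf (A ⊔ Subgroup.zpowers g)).IsSubnormal ↔ g ∈ SN p A := by
  obtain ⟨T, hT⟩ : ∃ T : Subgroup G, T = A ⊔ Subgroup.zpowers g := ⟨_, rfl⟩
  rw [← hT]
  have hAT : A ≤ T := hT ▸ le_sup_left
  have hgT : g ∈ T := by
    rw [hT]
    exact (le_sup_right : Subgroup.zpowers g ≤ _) (Subgroup.mem_zpowers g)
  constructor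
  · intro hsub
    have hp' : IsPGroup p (A.subgroupOf T) :=
      hA.comap_of_injective T.subtype T.subtype_injective
    have h1 : A.subgroupOf T ≤ Cfsg.pCore p T := le_pCore_of_isSubnormal_of_isPGroup hsub hp'
    refine ⟨pCoreOf p T, isPGroup_pCoreOf p T, ?_, le_normalizer_pCoreOf p T hgT⟩
    intro a ha
    exact ⟨⟨a, hAT ha⟩, h1 (Subgroup.mem_subgroupOf.2 ha), rfl⟩
  · rintro ⟨K, hK, hAK, hgK⟩
    have hTK : T ≤ Subgroup.normalizer (K : Set G) := by
      rw [hT]
      apply sup_le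
      · exact hAK.trans Subgroup.le_normalizer
      · rw [Subgroup.zpowers_le]; exact hgK
    have hn : (K.subgroupOf T).Normal := Subgroup.normal_subgroupOf_of_le_normalizer hTK
    have hKp : IsPGroup p (K.subgroupOf T) :=
      hK.comap_of_injective T.subtype T.subtype_injective
    have hle : A.subgroupOf T ≤ K.subgroupOf T := by
      intro x hx
      exact Subgroup.mem_subgroupOf.2 (hAK (Subgroup.mem_subgroupOf.1 hx))
    have h2 : ((A.subgroupOf T).subgroupOf (K.subgroupOf T)).IsSubnormal :=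
      isSubnormal_of_isPGroup hKp _
    exact Subgroup.IsSubnormal.trans hle h2 hn.isSubnormal

/-- images of subnormalizer elements are subnormalizer elements -/
theorem map_mem_SN {Q : Type*} [Group Q] {p : ℕ} {H : Subgroup G} (f : G →* Q) {g : G}
    (hg : g ∈ SN p H) : f g ∈ SN p (H.map f) := by
  obtain ⟨U, hU, hHU, hgU⟩ := hg
  exact ⟨U.map f, hU.map f, Subgroup.map_mono hHU,
    Subgroup.le_normalizer_map f (Subgroup.mem_map_of_mem f hgU)⟩

/-- Lemma A: modulo a normal `p`-subgroup the subnormalizer is a full preimage. -/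
theorem SN_eq_preimage_of_isPGroup {p : ℕ} (R : Subgroup G) [R.Normal] (hR : IsPGroup p R)
    (H : Subgroup G) :
    SN p H = (QuotientGroup.mk' R) ⁻¹' (SN p (H.map (QuotientGroup.mk' R))) := by
  ext g
  constructor
  · intro hg
    exact map_mem_SN _ hg
  · rintro ⟨V, hV, hHV, hgV⟩
    refine ⟨V.comap (QuotientGroup.mk' R), ?_, ?_, ?_⟩
    · apply hV.comap_of_ker_isPGroup
      rwa [QuotientGroup.ker_mk']
    · exact Subgroup.map_le_iff_le_comap.1 hHV
    · exact Subgroup.le_normalizer_comap _ (Subgroup.mem_comap.2 hgV)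

theorem card_SN_of_isPGroup {p : ℕ} (R : Subgroup G) [R.Normal] (hR : IsPGroup p R)
    (H : Subgroup G) :
    Nat.card (SN p H) = Nat.card R * Nat.card (SN p (H.map (QuotientGroup.mk' R))) := by
  rw [SN_eq_preimage_of_isPGroup R hR H, ← Nat.card_prod]
  exact Nat.card_congr (QuotientGroup.preimageMkEquivSubgroupProdSet R _)


theorem mem_normalizer_inf {A B : Subgroup G} {g : G}
    (hA : g ∈ Subgroup.normalizer (A : Set G)) (hB : g ∈ Subgroup.normalizer (B : Set G)) :
    g ∈ Subgroup.normalizer ((A ⊓ B : Subgroup G) : Set G) := by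
  rw [Subgroup.mem_normalizer_iff] at hA hB ⊢
  intro h
  rw [Subgroup.mem_inf, Subgroup.mem_inf, hA h, hB h]

section LemmaB

variable [Finite G] {p : ℕ} [Fact p.Prime] (K : Subgroup G) [K.Normal] (H : Subgroup G)

/-- Lemma B, fibre count: over each subnormalizer element of the quotient by a normal
`p'`-subgroup `K` there are exactly `|C_K(H)|` subnormalizer elements. -/
theorem card_SN_fiber (hK : (Nat.card K).Coprime p) (hH : IsPGroup p H)
    (x : G ⧸ K) (hx : x ∈ SN p (H.map (QuotientGroup.mk' K))) :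
    Nat.card {g : G // (QuotientGroup.mk' K) g = x ∧ g ∈ SN p H} =
      Nat.card ↥(K ⊓ Subgroup.centralizer (H : Set G)) := by
  classical
  set π := QuotientGroup.mk' K with hπdef
  have hker : π.ker = K := QuotientGroup.ker_mk' K
  have hπsurj : Function.Surjective π := QuotientGroup.mk'_surjective K
  -- a minimal `p`-subgroup of the quotient containing the image of `H` and normalized by `x`
  obtain ⟨V, hVmin⟩ := exists_minimal_of_wellFoundedLT
    (fun V : Subgroup (G ⧸ K) => IsPGroup p V ∧ H.map π ≤ V ∧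
      x ∈ Subgroup.normalizer (V : Set (G ⧸ K))) hx
  obtain ⟨⟨hVp, hHV, hxV⟩, hVle⟩ := hVmin
  obtain ⟨nV, hnV⟩ := hVp.exists_card_eq
  set T := V.comap π with hT
  have hKT : K ≤ T := by
    have := Subgroup.ker_le_comap π V
    rwa [hker] at this
  have hHT : H ≤ T := Subgroup.map_le_iff_le_comap.1 hHV
  have hTcard : Nat.card T = Nat.card V * Nat.card K := by
    have h1 := card_map_mul_card_ker_of_le π T (by rw [hker]; exact hKT)
    rw [Subgroup.map_comap_eq_self_of_surjective hπsurj, hker] at h1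
    exact h1.symm
  have hcopp : ∀ U : Subgroup G, IsPGroup p U → (Nat.card K).Coprime (Nat.card U) := by
    intro U hU
    obtain ⟨n, hn⟩ := hU.exists_card_eq
    rw [hn]
    exact Nat.Coprime.pow_right n hK
  have hcardmap : ∀ U : Subgroup G, IsPGroup p U → Nat.card (U.map π) = Nat.card U := by
    intro U hU
    apply card_map_of_coprime
    rw [hker]
    exact (hcopp U hU).symm
  have hkey : ∀ (g : G), π g = x → ∀ W : Subgroup G, IsPGroup p W → H ≤ W → W ≤ T →
      g ∈ Subgroup.normalizer (W : Set G) → Nat.card W = Nat.card V := by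
    intro g hg W hW hHW hWT hgW
    have h1 : W.map π ≤ V := by
      rw [Subgroup.map_le_iff_le_comap]; exact hWT
    have h2 : V ≤ W.map π := hVle ⟨hW.map π, Subgroup.map_mono hHW, by
      rw [← hg]; exact Subgroup.le_normalizer_map π (Subgroup.mem_map_of_mem π hgW)⟩ h1
    rw [← hcardmap W hW, le_antisymm h1 h2]
  have hnormT : ∀ g : G, π g = x → g ∈ Subgroup.normalizer (T : Set G) := by
    intro g hg
    apply Subgroup.le_normalizer_comap π
    rw [Subgroup.mem_comap, hg]; exact hxV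
  have hKnorm : ∀ U : Subgroup G, U ≤ Subgroup.normalizer (K : Set G) := by
    intro U
    rw [Subgroup.normalizer_eq_top]; exact le_top
  -- the set of complements containing `H`
  let Q : Type _ := {U : Subgroup G // U ≤ T ∧ H ≤ U ∧ IsPGroup p U ∧ Nat.card U = Nat.card V}
  have hsup : ∀ U : Q, U.1 ⊔ K = T := by
    rintro ⟨U, hUT, hHU, hUp, hUc⟩
    apply Subgroup.eq_of_le_of_card_ge (sup_le hUT hKT)
    rw [card_sup_of_coprime K U (hcopp U hUp), hTcard, hUc, mul_comm]
  have hdisj : ∀ U : Q, K ⊓ U.1 = ⊥ := by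
    rintro ⟨U, hUT, hHU, hUp, hUc⟩
    exact (Subgroup.disjoint_of_coprime_natCard (hcopp U hUp)).eq_bot
  have hsolv : ∀ U : Q, Group.IsSolvable U.1 := by
    rintro ⟨U, hUT, hHU, hUp, hUc⟩
    have := hUp.isNilpotent
    exact IsNilpotent.to_isSolvable
  -- nonemptiness
  have hQne : Nonempty Q := by
    have hHTp : IsPGroup p (H.subgroupOf T) :=
      hH.comap_of_injective T.subtype T.subtype_injective
    obtain ⟨S, hS⟩ := hHTp.exists_le_sylow
    refine ⟨⟨(S : Subgroup T).map T.subtype, ?_, ?_, ?_, ?_⟩⟩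
    · exact Subgroup.map_subtype_le _
    · intro h hh
      exact ⟨⟨h, hHT hh⟩, hS (Subgroup.mem_subgroupOf.2 hh), rfl⟩
    · exact S.2.map _
    · rw [Subgroup.card_map_of_injective T.subtype_injective, S.card_eq_multiplicity, hTcard, hnV,
        Nat.factorization_mul (pow_ne_zero _ (Fact.out : p.Prime).ne_zero) Nat.card_pos.ne',
        Nat.Prime.factorization_pow Fact.out]
      simp only [Finsupp.coe_add, Pi.add_apply, Finsupp.single_eq_same]
      rw [Nat.factorization_eq_zero_of_not_dvd, add_zero]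
      intro hdvd
      exact (Fact.out : p.Prime).one_lt.ne' (Nat.eq_one_of_dvd_coprimes hK hdvd (dvd_refl p))
  -- transitivity of `C_K(H)` on `Q`
  have htrans : ∀ U U' : Q, ∃ c ∈ K ⊓ Subgroup.centralizer (H : Set G),
      MulAut.conj c • U.1 = U'.1 := by
    intro U U'
    obtain ⟨n, hn, hnU⟩ := conj_by_normal_of_card_eq (A := U'.1) (N := K) (B := U.1)
      (hKnorm _) (hcopp _ U'.2.2.2.1) (Or.inr (hsolv U')) (U.2.1.trans (hsup U').ge)
      (U.2.2.2.2.trans U'.2.2.2.2.symm)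
    refine ⟨n, Subgroup.mem_inf.2 ⟨hn, ?_⟩, hnU⟩
    rw [Subgroup.mem_centralizer_iff]
    intro h hh
    have h1 : n * h * n⁻¹ ∈ U'.1 := by
      rw [← hnU]
      exact ⟨h, U.2.2.1 hh, rfl⟩
    have h2 : n * h * n⁻¹ * h⁻¹ ∈ U'.1 := U'.1.mul_mem h1 (U'.1.inv_mem (U'.2.2.1 hh))
    have h3 : n * h * n⁻¹ * h⁻¹ ∈ K := by
      have : h * n⁻¹ * h⁻¹ ∈ K := ‹K.Normal›.conj_mem _ (K.inv_mem hn) h
      have := K.mul_mem hn this
      simpa [mul_assoc] using this
    have h4 : n * h * n⁻¹ * h⁻¹ ∈ K ⊓ U'.1 := ⟨h3, h2⟩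
    rw [hdisj U', Subgroup.mem_bot] at h4
    calc h * n = (n * h * n⁻¹ * h⁻¹)⁻¹ * (n * h) := by group
      _ = n * h := by rw [h4, inv_one, one_mul]
  -- Frattini
  have hfrat : ∀ U : Q, ∀ g : G, π g = x → ∃ n ∈ K, n * g ∈ Subgroup.normalizer (U.1 : Set G) := by
    intro U g hg
    have hB : MulAut.conj g • U.1 ≤ U.1 ⊔ K := by
      rw [hsup U]
      rintro _ ⟨u, hu, rfl⟩
      exact ((Subgroup.mem_normalizer_iff.1 (hnormT g hg)) u).1 (U.2.1 hu)
    obtain ⟨n, hn, hnU⟩ := conj_by_normal_of_card_eq (A := U.1) (N := K) (B := MulAut.conj g • U.1)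
      (hKnorm _) (hcopp _ U.2.2.2.1) (Or.inr (hsolv U)) hB (card_conj_smul _ _)
    refine ⟨n, hn, ?_⟩
    rw [mem_normalizer_iff_conj_smul, ← conj_smul_conj_smul]
    exact hnU
  -- the fibres
  let _ : Fintype Q := Fintype.ofFinite Q
  -- Step 1
  have step1 : Nat.card {g : G // π g = x ∧ g ∈ SN p H} =
      ∑ U : Q, Nat.card {g : G // π g = x ∧ g ∈ Subgroup.normalizer (U.1 : Set G)} := by
    rw [← Nat.card_sigma]
    symm
    refine Nat.card_congr (Equiv.ofBijective
      (fun z : (Σ U : Q, {g : G // π g = x ∧ g ∈ Subgroup.normalizer (U.1 : Set G)}) =>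
        (⟨z.2.1, z.2.2.1, ⟨z.1.1, z.1.2.2.2.1, z.1.2.2.1, z.2.2.2⟩⟩ :
          {g : G // π g = x ∧ g ∈ SN p H})) ⟨?_, ?_⟩)
    · rintro ⟨U, g, hg1, hg2⟩ ⟨U', g', hg1', hg2'⟩ hEq
      have hgg : g = g' := congrArg Subtype.val hEq
      subst hgg
      have hW : Nat.card (U.1 ⊓ U'.1 : Subgroup G) = Nat.card V :=
        hkey g hg1 _ (U.2.2.2.1.to_inf_left) (le_inf U.2.2.1 U'.2.2.1)
          (inf_le_left.trans U.2.1) (mem_normalizer_inf hg2 hg2')
      have e1 : U.1 ⊓ U'.1 = U.1 :=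
        Subgroup.eq_of_le_of_card_ge inf_le_left (by rw [hW, U.2.2.2.2])
      have e2 : U.1 ⊓ U'.1 = U'.1 :=
        Subgroup.eq_of_le_of_card_ge inf_le_right (by rw [hW, U'.2.2.2.2])
      have hUU : U = U' := Subtype.ext (e1.symm.trans e2)
      subst hUU
      rfl
    · rintro ⟨g, hg1, U₁, hU₁, hHU₁, hgU₁⟩
      have hgW : g ∈ Subgroup.normalizer ((U₁ ⊓ T : Subgroup G) : Set G) :=
        mem_normalizer_inf hgU₁ (hnormT g hg1)
      have hW : Nat.card (U₁ ⊓ T : Subgroup G) = Nat.card V :=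
        hkey g hg1 _ hU₁.to_inf_left (le_inf hHU₁ hHT) inf_le_right hgW
      exact ⟨⟨⟨U₁ ⊓ T, inf_le_right, le_inf hHU₁ hHT, hU₁.to_inf_left, hW⟩, ⟨g, hg1, hgW⟩⟩, rfl⟩
  -- Step 2
  have step2 : ∀ U : Q, Nat.card {g : G // π g = x ∧ g ∈ Subgroup.normalizer (U.1 : Set G)} =
      Nat.card ↥(K ⊓ Subgroup.normalizer (U.1 : Set G)) := by
    intro U
    obtain ⟨g₁, hg₁⟩ := hπsurj x
    obtain ⟨n, hn, hng⟩ := hfrat U g₁ hg₁
    set g₀ := n * g₁ with hg₀
    have hg₀x : π g₀ = x := by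
      rw [hg₀, map_mul, hg₁]
      have : π n = 1 := by
        rw [← MonoidHom.mem_ker, hker]; exact hn
      rw [this, one_mul]
    symm
    refine Nat.card_congr (Equiv.ofBijective
      (fun k : ↥(K ⊓ Subgroup.normalizer (U.1 : Set G)) =>
        (⟨g₀ * k.1, by
          have : π k.1 = 1 := by
            rw [← MonoidHom.mem_ker, hker]; exact k.2.1
          rw [map_mul, this, mul_one, hg₀x], Subgroup.mul_mem _ hng k.2.2⟩ :
          {g : G // π g = x ∧ g ∈ Subgroup.normalizer (U.1 : Set G)})) ⟨?_, ?_⟩)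
    · intro k k' hkk
      have : g₀ * k.1 = g₀ * k'.1 := congrArg Subtype.val hkk
      exact Subtype.ext (mul_left_cancel this)
    · rintro ⟨g, hg1, hg2⟩
      refine ⟨⟨g₀⁻¹ * g, Subgroup.mem_inf.2 ⟨?_, ?_⟩⟩, ?_⟩
      · rw [← hker, MonoidHom.mem_ker, map_mul, map_inv, hg₀x, hg1, inv_mul_cancel]
      · exact Subgroup.mul_mem _ (Subgroup.inv_mem _ hng) hg2
      · apply Subtype.ext
        simp
  -- Steps 3 and 4
  obtain ⟨U₀⟩ := hQne
  let f : ↥(K ⊓ Subgroup.centralizer (H : Set G)) → Q := fun c =>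
    ⟨MulAut.conj c.1 • U₀.1, by
      refine ⟨?_, ?_, ?_, ?_⟩
      · rintro _ ⟨u, hu, rfl⟩
        have hcT : c.1 ∈ T := hKT c.2.1
        exact T.mul_mem (T.mul_mem hcT (U₀.2.1 hu)) (T.inv_mem hcT)
      · intro h hh
        refine ⟨h, U₀.2.2.1 hh, ?_⟩
        have := (Subgroup.mem_centralizer_iff.1 c.2.2) h hh
        change c.1 * h * c.1⁻¹ = h
        rw [← this, mul_inv_cancel_right]
      · exact U₀.2.2.2.1.of_equiv (Subgroup.equivSMul (MulAut.conj c.1) U₀.1)
      · rw [card_conj_smul]; exact U₀.2.2.2.2⟩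
  have step3 : Nat.card ↥(K ⊓ Subgroup.centralizer (H : Set G)) =
      ∑ U : Q, Nat.card {c : ↥(K ⊓ Subgroup.centralizer (H : Set G)) // f c = U} := by
    rw [← Nat.card_sigma]
    exact (Nat.card_congr (Equiv.sigmaFiberEquiv f)).symm
  have step4 : ∀ U : Q, Nat.card {c : ↥(K ⊓ Subgroup.centralizer (H : Set G)) // f c = U} =
      Nat.card ↥(K ⊓ Subgroup.normalizer (U.1 : Set G)) := by
    intro U
    obtain ⟨c₀, hc₀, hc₀U⟩ := htrans U₀ U
    have hcent : ∀ k ∈ K ⊓ Subgroup.normalizer (U.1 : Set G),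
        k ∈ Subgroup.centralizer (H : Set G) := by
      intro k hk
      have h1 : k ∈ Subgroup.centralizer (U.1 : Set G) :=
        mem_centralizer_of_conj_smul_eq (hKnorm _) (hdisj U) hk.1
          (mem_normalizer_iff_conj_smul.1 hk.2)
      exact Subgroup.centralizer_le (by exact_mod_cast U.2.2.1) h1
    symm
    refine Nat.card_congr (Equiv.ofBijective
      (fun k : ↥(K ⊓ Subgroup.normalizer (U.1 : Set G)) =>
        (⟨⟨k.1 * c₀, ⟨K.mul_mem k.2.1 hc₀.1,
            Subgroup.mul_mem _ (hcent k.1 k.2) hc₀.2⟩⟩, by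
          apply Subtype.ext
          change MulAut.conj (k.1 * c₀) • U₀.1 = U.1
          rw [← conj_smul_conj_smul, hc₀U]
          exact mem_normalizer_iff_conj_smul.1 k.2.2⟩ :
          {c : ↥(K ⊓ Subgroup.centralizer (H : Set G)) // f c = U})) ⟨?_, ?_⟩)
    · intro k k' hkk
      have : k.1 * c₀ = k'.1 * c₀ := congrArg (fun z => z.1.1) hkk
      exact Subtype.ext (mul_right_cancel this)
    · rintro ⟨⟨c, hc⟩, hcU⟩
      have hcU' : MulAut.conj c • U₀.1 = U.1 := congrArg Subtype.val hcU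
      refine ⟨⟨c * c₀⁻¹, Subgroup.mem_inf.2 ⟨K.mul_mem hc.1 (K.inv_mem hc₀.1), ?_⟩⟩, ?_⟩
      · rw [mem_normalizer_iff_conj_smul, ← hc₀U, conj_smul_conj_smul, inv_mul_cancel_right]
        rw [hc₀U]; exact hcU'
      · apply Subtype.ext
        apply Subtype.ext
        simp
  rw [step1, step3]
  exact Finset.sum_congr rfl (fun U _ => (step2 U).trans (step4 U).symm)

/-- Lemma B: modulo a normal `p'`-subgroup `K` the subnormalizer count is multiplied by
`|C_K(H)|`. -/
theorem card_SN_of_coprime (hK : (Nat.card K).Coprime p) (hH : IsPGroup p H) :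
    Nat.card (SN p H) = Nat.card ↥(K ⊓ Subgroup.centralizer (H : Set G)) *
      Nat.card (SN p (H.map (QuotientGroup.mk' K))) := by
  classical
  have e1 : SN p H ≃ Σ x : SN p (H.map (QuotientGroup.mk' K)),
      {g : G // (QuotientGroup.mk' K) g = x.1 ∧ g ∈ SN p H} :=
    { toFun := fun g => ⟨⟨(QuotientGroup.mk' K) g.1, map_mem_SN _ g.2⟩, ⟨g.1, rfl, g.2⟩⟩
      invFun := fun z => ⟨z.2.1, z.2.2.2⟩
      left_inv := fun g => rfl
      right_inv := by
        rintro ⟨⟨x, hx⟩, g, hg1, hg2⟩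
        exact Sigma.subtype_ext (Subtype.ext hg1) rfl }
  have e2 : ∀ x : SN p (H.map (QuotientGroup.mk' K)),
      {g : G // (QuotientGroup.mk' K) g = x.1 ∧ g ∈ SN p H} ≃
        ↥(K ⊓ Subgroup.centralizer (H : Set G)) := fun x =>
    (Finite.card_eq.1 (card_SN_fiber K H hK hH x.1 x.2)).some
  rw [Nat.card_congr e1, Nat.card_congr (Equiv.sigmaCongrRight e2),
    Nat.card_congr (Equiv.sigmaEquivProd _ _), Nat.card_prod, mul_comm]

end LemmaB

end Cfsg.Agent.Lib.Helper01
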