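import Mathlib
import Cfsg.Agent.Lib.Helper06.SylTwo.Defs

set_option autoImplicit false

/-! K-SylTwo-C' (S2928 pack, architect helper6): the JK structure of `ncl K (klein a b c d)` when
`K ≤ ncl K (klein a b c d)`. -/

namespace Cfsg.Agent.Lib.Helper01.SylTwo

open Equiv Equiv.Perm
open Cfsg.Agent.Lib.Helper06.SylTwo

section Perm
variable {α : Type*} [DecidableEq α]

/-- elements of the Klein group fix every point outside `{a,b,c,d}` -/
theorem klein_apply_of_ne {a b c d y : α} (hya : y ≠ a) (hyb : y ≠ b) (hyc : y ≠ c) (hyd : y ≠ d)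
    {v : Perm α} (hv : v ∈ klein a b c d) : v y = y := by
  unfold klein at hv
  induction hv using Subgroup.closure_induction with
  | mem g hg =>
    rcases hg with rfl | rfl
    · rw [Perm.mul_apply, swap_apply_of_ne_of_ne hyc hyd, swap_apply_of_ne_of_ne hya hyb]
    · rw [Perm.mul_apply, swap_apply_of_ne_of_ne hyb hyd, swap_apply_of_ne_of_ne hya hyc]
  | one => rfl
  | mul g h _ _ ihg ihh => rw [Perm.mul_apply, ihh, ihg]
  | inv g _ ih => rw [Perm.inv_eq_iff_eq]; exact ih.symm

/-- conjugates of Klein four-groups -/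
theorem klein_map_conj (g : Perm α) (a b c d : α) :
    (klein a b c d).map (MulAut.conj g).toMonoidHom = klein (g a) (g b) (g c) (g d) := by
  unfold klein
  rw [MonoidHom.map_closure, Set.image_pair]
  have h1 : (MulAut.conj g).toMonoidHom (swap a b * swap c d)
      = swap (g a) (g b) * swap (g c) (g d) := by
    change g * (swap a b * swap c d) * g⁻¹ = _
    rw [swap_apply_apply, swap_apply_apply]
    group
  have h2 : (MulAut.conj g).toMonoidHom (swap a c * swap b d)
      = swap (g a) (g c) * swap (g b) (g d) := by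
    change g * (swap a c * swap b d) * g⁻¹ = _
    rw [swap_apply_apply, swap_apply_apply]
    group
  rw [h1, h2]

theorem klein_le_ncl (K : Subgroup (Perm α)) (V : Subgroup (Perm α)) : V ≤ ncl K V := by
  intro v hv
  unfold ncl
  apply Subgroup.subset_closure
  exact ⟨1, K.one_mem, v, hv, by simp⟩

theorem map_conj_le_ncl (K V : Subgroup (Perm α)) {k : Perm α} (hk : k ∈ K) :
    V.map (MulAut.conj k).toMonoidHom ≤ ncl K V := by
  rintro _ ⟨v, hv, rfl⟩
  unfold ncl
  apply Subgroup.subset_closure
  exact ⟨k, hk, v, hv, rfl⟩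

theorem jk_of_ncl (K : Subgroup (Perm α)) {a b c d : α} (hab : a ≠ b) (hac : a ≠ c) (had : a ≠ d)
    (hbc : b ≠ c) (hbd : b ≠ d) (hcd : c ≠ d) (hle : K ≤ ncl K (klein a b c d)) :
    JK {W | ∃ k ∈ K, W = klein (k a) (k b) (k c) (k d)} (ncl K (klein a b c d))
      {x | ∃ g ∈ ncl K (klein a b c d), g a = x} := by
  set V := klein a b c d with hV
  set G := ncl K V with hG
  have hVG : V ≤ G := klein_le_ncl K V
  -- the two generators and their product
  have hv0 : swap a b * swap c d ∈ V := Subgroup.subset_closure (by simp)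
  have hv1 : swap a c * swap b d ∈ V := Subgroup.subset_closure (by simp)
  have hb : (swap a b * swap c d) a = b := by
    rw [Perm.mul_apply, swap_apply_of_ne_of_ne hac had, swap_apply_left]
  have hc : (swap a c * swap b d) a = c := by
    rw [Perm.mul_apply, swap_apply_of_ne_of_ne hab had, swap_apply_left]
  have hd : ((swap a b * swap c d) * (swap a c * swap b d)) a = d := by
    rw [Perm.mul_apply, hc, Perm.mul_apply, swap_apply_left,
      swap_apply_of_ne_of_ne had.symm hbd.symm]
  -- images of a b c d under K lie in the orbit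
  have hΔ : ∀ k ∈ K, ∀ y, (y = a ∨ y = b ∨ y = c ∨ y = d) →
      k y ∈ {x | ∃ g ∈ G, g a = x} := by
    intro k hk y hy
    have hkG : k ∈ G := hle hk
    rcases hy with h | h | h | h
    · subst h
      exact ⟨k, hkG, rfl⟩
    · subst h
      exact ⟨k * (swap a y * swap c d), G.mul_mem hkG (hVG hv0), by
        rw [Perm.mul_apply, hb]⟩
    · subst h
      exact ⟨k * (swap a y * swap b d), G.mul_mem hkG (hVG hv1), by
        rw [Perm.mul_apply, hc]⟩
    · subst h
      exact ⟨k * ((swap a b * swap c y) * (swap a c * swap b y)),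
        G.mul_mem hkG (hVG (V.mul_mem hv0 hv1)), by rw [Perm.mul_apply, hd]⟩
  refine ⟨?_, ?_, ?_, ?_⟩
  · rintro W ⟨k, _, rfl⟩
    exact ⟨k a, k b, k c, k d, fun h => hab (k.injective h), fun h => hac (k.injective h),
      fun h => had (k.injective h), fun h => hbc (k.injective h), fun h => hbd (k.injective h),
      fun h => hcd (k.injective h), rfl⟩
  · apply le_antisymm
    · rw [hG]
      unfold ncl
      rw [Subgroup.closure_le]
      rintro _ ⟨k, hk, v, hv, rfl⟩
      have hmem : klein (k a) (k b) (k c) (k d) ∈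
          {W | ∃ k ∈ K, W = klein (k a) (k b) (k c) (k d)} := ⟨k, hk, rfl⟩
      apply (le_sSup hmem)
      rw [← klein_map_conj]
      exact ⟨v, hv, rfl⟩
    · apply sSup_le
      rintro W ⟨k, hk, rfl⟩
      rw [← klein_map_conj]
      exact map_conj_le_ncl K V hk
  · intro g hg x hx
    rw [hG] at hg
    unfold ncl at hg
    induction hg using Subgroup.closure_induction with
    | mem g hg =>
      obtain ⟨k, hk, v, hv, rfl⟩ := hg
      rw [Perm.mul_apply, Perm.mul_apply]
      have hne : ∀ y, (y = a ∨ y = b ∨ y = c ∨ y = d) → k⁻¹ x ≠ y := by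
        intro y hy hxy
        apply hx
        have := hΔ k hk y hy
        rw [← hxy] at this
        simpa using this
      rw [klein_apply_of_ne (hne a (Or.inl rfl)) (hne b (Or.inr (Or.inl rfl)))
        (hne c (Or.inr (Or.inr (Or.inl rfl)))) (hne d (Or.inr (Or.inr (Or.inr rfl)))) hv]
      simp
    | one => rfl
    | mul g h _ _ ihg ihh => rw [Perm.mul_apply, ihh, ihg]
    | inv g _ ih => rw [Perm.inv_eq_iff_eq]; exact ih.symm
  · rintro x ⟨g1, hg1, rfl⟩ y ⟨g2, hg2, rfl⟩
    exact ⟨g2 * g1⁻¹, G.mul_mem hg2 (G.inv_mem hg1), by simp⟩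

end Perm

end Cfsg.Agent.Lib.Helper01.SylTwo
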