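import Mathlib
import Cfsg.Agent.Lib.Helper01.SolvableNP
import Cfsg.Agent.Lib.Helper01.Basic

set_option autoImplicit false

namespace Cfsg.Agent.Lib.Helper01

open scoped Pointwise

universe u

/-- the statement of the three-solvable-subgroups theorem for a group `G` -/
def ThreeSolv (G : Type u) [Group G] : Prop :=
  ∀ H₁ H₂ H₃ : Subgroup G, Group.IsSolvable H₁ → Group.IsSolvable H₂ → Group.IsSolvable H₃ →
    (∀ g : G, ∃ x ∈ H₁, ∃ y ∈ H₂, g = x * y) → (∀ g : G, ∃ x ∈ H₁, ∃ y ∈ H₃, g = x * y) →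
    H₂.index.Coprime H₃.index → Group.IsSolvable G

/-- A `p`-subgroup `N` is conjugate into any subgroup `H` of index prime to `p`. -/
theorem exists_conj_le_of_not_dvd_index {G : Type*} [Group G] [Finite G] {p : ℕ} [Fact p.Prime]
    {N H : Subgroup G} (hN : IsPGroup p N) (hH : ¬ p ∣ H.index) :
    ∃ g : G, ∀ n ∈ N, g⁻¹ * n * g ∈ H := by
  obtain ⟨q, hq⟩ := hN.nonempty_fixed_point_of_prime_not_dvd_card (G ⧸ H) hH
  obtain ⟨g, rfl⟩ := QuotientGroup.mk_surjective q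
  refine ⟨g, fun n hn => ?_⟩
  have := MulAction.mem_fixedPoints.mp hq ⟨n, hn⟩
  have h2 : ((n * g : G) : G ⧸ H) = (g : G ⧸ H) := this
  rw [QuotientGroup.eq] at h2
  have h3 := H.inv_mem h2
  have h4 : ((n * g)⁻¹ * g)⁻¹ = g⁻¹ * n * g := by group
  rwa [h4] at h3

/-- One step of the induction: quotient by the normal closure of a normal `p`-subgroup of `H₁`
that lies in `H₂`. -/
theorem threeSolv_step {G : Type u} [Group G] [Finite G]
    (IH : ∀ (G' : Type u) [Group G'] [Finite G'], Nat.card G' < Nat.card G → ThreeSolv G')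
    (H₁ H₂ H₃ : Subgroup G) (h₁ : Group.IsSolvable H₁) (h₂ : Group.IsSolvable H₂)
    (h₃ : Group.IsSolvable H₃)
    (h12 : ∀ g : G, ∃ x ∈ H₁, ∃ y ∈ H₂, g = x * y) (h13 : ∀ g : G, ∃ x ∈ H₁, ∃ y ∈ H₃, g = x * y)
    (hcop : H₂.index.Coprime H₃.index) (p : ℕ) [Fact p.Prime] (N : Subgroup G)
    (hNH₁ : H₁ ≤ Subgroup.normalizer (N : Set G)) (hNp : IsPGroup p N) (hNne : N ≠ ⊥)
    (hp : ¬ p ∣ H₂.index) : Group.IsSolvable G := by
  -- N ≤ H₂
  have hNH₂ : N ≤ H₂ := by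
    obtain ⟨g, hg⟩ := exists_conj_le_of_not_dvd_index hNp hp
    obtain ⟨x, hx, y, hy, hgxy⟩ := h12 g
    intro n hn
    -- x⁻¹ n x ∈ N... we use n' = x n x⁻¹ ∈ N, then g⁻¹ n' g = y⁻¹ n y ∈ H₂
    have hn' : x * n * x⁻¹ ∈ N := (Subgroup.mem_normalizer_iff.mp (hNH₁ hx) n).mp hn
    have h1 := hg _ hn'
    have h2 : g⁻¹ * (x * n * x⁻¹) * g = y⁻¹ * n * y := by rw [hgxy]; group
    rw [h2] at h1
    have h3 := H₂.mul_mem (H₂.mul_mem hy h1) (H₂.inv_mem hy)
    have h4 : y * (y⁻¹ * n * y) * y⁻¹ = n := by group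
    rwa [h4] at h3
  -- normal closure of N lies in H₂
  set M : Subgroup G := Subgroup.normalClosure (N : Set G) with hM
  have hMn : M.Normal := Subgroup.normalClosure_normal
  have hNM : N ≤ M := Subgroup.subset_normalClosure
  have hMH₂ : M ≤ H₂ := by
    rw [hM, Subgroup.normalClosure, Subgroup.closure_le]
    intro a ha
    obtain ⟨n, hn, hconj⟩ := Group.mem_conjugatesOfSet_iff.mp ha
    obtain ⟨c, rfl⟩ := isConj_iff.mp hconj
    obtain ⟨x, hx, y, hy, hc⟩ := h12 c⁻¹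
    have hc' : c = y⁻¹ * x⁻¹ := by
      have : c = (c⁻¹)⁻¹ := by group
      rw [this, hc]; group
    have hn' : x⁻¹ * n * x⁻¹⁻¹ ∈ N :=
      (Subgroup.mem_normalizer_iff.mp (hNH₁ (H₁.inv_mem hx)) n).mp hn
    have h2 : c * n * c⁻¹ = y⁻¹ * (x⁻¹ * n * x⁻¹⁻¹) * y := by rw [hc']; group
    rw [SetLike.mem_coe, h2]
    exact H₂.mul_mem (H₂.mul_mem (H₂.inv_mem hy) (hNH₂ hn')) hy
  have hMsolv : Group.IsSolvable M :=
    Group.isSolvable_of_isSolvable_injective (f := Subgroup.inclusion hMH₂)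
      (Subgroup.inclusion_injective hMH₂)
  have hMne : M ≠ ⊥ := fun h => hNne (le_bot_iff.mp (h ▸ hNM))
  -- pass to the quotient
  let f : G →* G ⧸ M := QuotientGroup.mk' M
  have hf : Function.Surjective f := QuotientGroup.mk'_surjective M
  have hker : f.ker = M := QuotientGroup.ker_mk' M
  have hQlt : Nat.card (G ⧸ M) < Nat.card G := by
    rw [Subgroup.card_eq_card_quotient_mul_card_subgroup M]
    have hpos : 0 < Nat.card (G ⧸ M) := Nat.card_pos
    have h1 : 1 < Nat.card M := by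
      rcases Nat.lt_or_ge 1 (Nat.card M) with h | h
      · exact h
      · exact absurd (Subgroup.card_eq_one.mp (le_antisymm h Nat.card_pos)) hMne
    nlinarith
  have hsolvmap : ∀ X : Subgroup G, Group.IsSolvable X → Group.IsSolvable (X.map f) := by
    intro X hX
    exact Group.isSolvable_of_surjective (f := f.subgroupMap X) (f.subgroupMap_surjective X)
  have hprod : ∀ X Y : Subgroup G, (∀ g : G, ∃ x ∈ X, ∃ y ∈ Y, g = x * y) →
      ∀ q : G ⧸ M, ∃ x ∈ X.map f, ∃ y ∈ Y.map f, q = x * y := by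
    intro X Y h q
    obtain ⟨g, rfl⟩ := hf q
    obtain ⟨x, hx, y, hy, rfl⟩ := h g
    exact ⟨f x, ⟨x, hx, rfl⟩, f y, ⟨y, hy, rfl⟩, map_mul f x y⟩
  have hcop' : (H₂.map f).index.Coprime (H₃.map f).index := by
    rw [Subgroup.index_map_eq H₂ hf (hker.le.trans hMH₂)]
    exact Nat.Coprime.coprime_dvd_right (Subgroup.index_map_dvd H₃ hf) hcop
  have hQsolv : Group.IsSolvable (G ⧸ M) :=
    IH (G ⧸ M) hQlt (H₁.map f) (H₂.map f) (H₃.map f) (hsolvmap _ h₁) (hsolvmap _ h₂)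
      (hsolvmap _ h₃) (hprod _ _ h12) (hprod _ _ h13) hcop'
  exact Group.isSolvable_of_ker_le_range M.subtype f (by rw [hker, Subgroup.range_subtype])

theorem threeSolv_aux (n : ℕ) : ∀ (G : Type u) [Group G] [Finite G], Nat.card G = n →
    ThreeSolv G := by
  induction n using Nat.strong_induction_on with
  | _ n ih =>
  intro G _ _ hn H₁ H₂ H₃ h₁ h₂ h₃ h12 h13 hcop
  have IH : ∀ (G' : Type u) [Group G'] [Finite G'], Nat.card G' < Nat.card G → ThreeSolv G' :=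
    fun G' _ _ hlt => ih _ (hn ▸ hlt) G' rfl
  by_cases hH₁ : H₁ = ⊥
  · -- G = H₂
    have htop : H₂ = ⊤ := by
      rw [eq_top_iff]
      intro g _
      obtain ⟨x, hx, y, hy, rfl⟩ := h12 g
      rw [hH₁, Subgroup.mem_bot] at hx
      rw [hx, one_mul]; exact hy
    have : Group.IsSolvable (⊤ : Subgroup G) := htop ▸ h₂
    exact Group.isSolvable_of_surjective (f := (⊤ : Subgroup G).subtype)
      (fun g => ⟨⟨g, Subgroup.mem_top g⟩, rfl⟩)
  · have hnontriv : Nontrivial H₁ := (Subgroup.nontrivial_iff_ne_bot H₁).mpr hH₁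
    obtain ⟨p, hp, N₀, hN₀n, hN₀p, hN₀ne⟩ := exists_normal_pSubgroup_of_solvable h₁
    have : Fact p.Prime := ⟨hp⟩
    set N : Subgroup G := N₀.map H₁.subtype with hN
    have hNp : IsPGroup p N := hN₀p.map _
    have hNne : N ≠ ⊥ := by
      intro h
      rw [hN, Subgroup.map_eq_bot_iff_of_injective _ H₁.subtype_injective] at h
      exact hN₀ne h
    have hNH₁ : H₁ ≤ Subgroup.normalizer (N : Set G) := by
      rw [Subgroup.le_normalizer_iff]
      rintro h hh _ ⟨k, hk, rfl⟩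
      refine ⟨⟨h, hh⟩ * k * ⟨h, hh⟩⁻¹, hN₀n.conj_mem k hk ⟨h, hh⟩, ?_⟩
      simp
    by_cases hp2 : p ∣ H₂.index
    · have hp3 : ¬ p ∣ H₃.index := by
        intro hp3
        have := Nat.eq_one_of_dvd_coprimes hcop hp2 hp3
        exact hp.one_lt.ne' this
      exact threeSolv_step IH H₁ H₃ H₂ h₁ h₃ h₂ h13 h12 hcop.symm p N hNH₁ hNp hNne hp3
    · exact threeSolv_step IH H₁ H₂ H₃ h₁ h₂ h₃ h12 h13 hcop p N hNH₁ hNp hNne hp2

theorem threeSolv {G : Type u} [Group G] [Finite G] : ThreeSolv G := threeSolv_aux _ G rfl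

end Cfsg.Agent.Lib.Helper01
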