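import Cfsg.Agent.Lib.Helper46.UTiDefs

set_option autoImplicit false
set_option linter.unusedSectionVars false
set_option linter.unusedVariables false

/-! K-UTi-S1 (S5953 pack, architect helper46): invariant subspaces of `V1 r y` have dimension a
multiple of `b = ord_r(q^2)`, and all multiples occur. -/

namespace Cfsg.Agent.Lib.Helper01.UTi

open Module Polynomial Cfsg.Agent.Lib.Helper98.Elus Cfsg.Agent.Lib.Helper46.UTi

universe u

variable {F : Type u} [Field F] [Fintype F] {V : Type u} [AddCommGroup V] [Module F V]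
  [FiniteDimensional F V] {q : ℕ} {H : V → V → F}

theorem dvd_finrank_of_le_V1 (hF : Fintype.card F = q ^ 2) (r : ℕ) [Fact r.Prime]
    (hrF : (r : F) ≠ 0) (y : V →ₗ[F] V) (hy : y ^ r = 1) (L : Submodule F V)
    (hL : L ≤ V1 r y) (hLinv : Inv y L) : orderOf ((q ^ 2 : ℕ) : ZMod r) ∣ finrank F L := by
  rw [← hF]
  exact Cfsg.Agent.Lib.Helper98.Elus.dvd_finrank_of_le_V1 r hrF y hy L hLinv hL

theorem exists_inv_sub_of_le_V1 (hF : Fintype.card F = q ^ 2) (r : ℕ) [Fact r.Prime]
    (hrF : (r : F) ≠ 0) (y : V →ₗ[F] V) (hy : y ^ r = 1) (L : Submodule F V)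
    (hL : L ≤ V1 r y) (hLinv : Inv y L) (a : ℕ)
    (ha : a * orderOf ((q ^ 2 : ℕ) : ZMod r) ≤ finrank F L) :
    ∃ L' : Submodule F V, L' ≤ L ∧ Inv y L' ∧
      finrank F L' = a * orderOf ((q ^ 2 : ℕ) : ZMod r) := by
  rw [← hF] at ha ⊢
  obtain ⟨p, hp⟩ := CharP.exists F
  have hpp : p.Prime := by
    rcases CharP.char_is_prime_or_zero F p with h | h
    · exact h
    · exfalso
      subst h
      have : CharZero F := CharP.charP_to_charZero F
      exact not_finite F
  have : Fact p.Prime := ⟨hpp⟩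
  obtain ⟨⟨f, hf0⟩, hcard⟩ := FiniteField.card F p
  have hpr : p ≠ r := by
    rintro rfl
    exact hrF (CharP.cast_eq_zero F p)
  set i := orderOf ((Fintype.card F : ℕ) : ZMod r) with hi
  have hcard' : Fintype.card F = p ^ f := hcard.2
  have hi1 : 1 ≤ i := orderOf_card_pos p f hcard' r hpr
  obtain ⟨fs, hmonic, hdeg, hprod⟩ := cyclo_factors (F := F) p f hcard' r hpr
  obtain ⟨W, hWL, hW, hWd⟩ := greedy y L hLinv i hi1 fs hmonic
    (fun g hg => le_of_eq (hdeg g hg))
    (by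
      intro v hv
      rw [hprod, aeval_cyclotomic_eq_gsum]
      exact (mem_V1 r y v).mp (hL hv))
    (fun W hWL hW =>
      Cfsg.Agent.Lib.Helper98.Elus.dvd_finrank_of_le_V1 r hrF y hy W hW (hWL.trans hL)) a
    (by rw [mul_comm]; exact ha)
  exact ⟨W, hWL, hW, by rw [hWd, mul_comm]⟩

end Cfsg.Agent.Lib.Helper01.UTi
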