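import Mathlib
import Cfsg.Agent.Lib.Helper66.ConjFixed

/-!
# The "unipotent trick" (pure group theory), for S1376 (BG 14.4(g) / 15.8)

`A` an abelian subgroup of order `t ^ 2` of a finite group, `n` a `t`-element normalizing but not
centralizing `A`.  Then `A₀ = C_A(n)` has order `t`, `[A, n] = A₀`, and `⟨n⟩` is transitive on the
cyclic subgroups of `A` generated by the elements outside `A₀`: for `a₁, a₂ ∈ A` not centralized by
`n` there is `j` with `⟨n ^ j a₁ n ^ (-j)⟩ = ⟨a₂⟩`.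
-/

set_option autoImplicit false

namespace Cfsg.Agent.Lib.Helper01.UnipLines

open Subgroup

variable {G : Type*} [Group G] [Finite G] {t : ℕ} [Fact t.Prime] {A : Subgroup G} {n : G}

/-- `B = C_A(n) = [A, n]` of order `t`. -/
theorem exists_fix_subgroup (hAcard : Nat.card A = t ^ 2)
    (hAcomm : ∀ a ∈ A, ∀ b ∈ A, a * b = b * a)
    (hnN : n ∈ normalizer (A : Set G)) (hnt : IsPGroup t (zpowers n))
    (hmove : ∃ a ∈ A, n * a * n⁻¹ ≠ a) :
    ∃ B : Subgroup G, B ≤ A ∧ Nat.card B = t ∧ (∀ b ∈ B, n * b = b * n) ∧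
      (∀ a ∈ A, n * a * n⁻¹ * a⁻¹ ∈ B) ∧ (∀ a ∈ A, n * a = a * n → a ∈ B) := by
  have ht : t.Prime := Fact.out
  have hconj : ∀ a ∈ A, n * a * n⁻¹ ∈ A := fun a ha => (mem_normalizer_iff.mp hnN a).mp ha
  have hconj' : ∀ a ∈ A, n⁻¹ * a * n ∈ A := by
    intro a ha
    apply (mem_normalizer_iff.mp hnN (n⁻¹ * a * n)).mpr
    have : n * (n⁻¹ * a * n) * n⁻¹ = a := by group
    rw [this]; exact ha
  -- the fixed subgroup
  set A0 : Subgroup G := A ⊓ centralizer {n} with hA0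
  have hA0mem : ∀ a, a ∈ A0 ↔ a ∈ A ∧ n * a = a * n := by
    intro a
    rw [hA0, mem_inf, mem_centralizer_iff]
    constructor
    · rintro ⟨h1, h2⟩
      exact ⟨h1, h2 n (Set.mem_singleton n)⟩
    · rintro ⟨h1, h2⟩
      refine ⟨h1, ?_⟩
      intro g hg
      rw [Set.mem_singleton_iff] at hg
      rw [hg]; exact h2
  have h0 : Nat.card A ≡ Nat.card A0 [MOD t] :=
    Cfsg.Agent.Lib.Helper66.card_modEq_card_inf_centralizer_singleton n A hnt hnN
  have hA0pos : 0 < Nat.card A0 := Nat.card_pos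
  have htA0 : t ∣ Nat.card A0 := by
    have h1 : Nat.card A0 % t = 0 := by
      have := h0.symm
      unfold Nat.ModEq at this
      rw [this, hAcard]
      exact Nat.mod_eq_zero_of_dvd (dvd_pow_self t (by norm_num))
    exact Nat.dvd_of_mod_eq_zero h1
  have hA0le : A0 ≤ A := inf_le_left
  have hA0card : Nat.card A0 = t := by
    have hdvd : Nat.card A0 ∣ t ^ 2 := hAcard ▸ card_dvd_of_le hA0le
    obtain ⟨k, hk2, hk⟩ := (Nat.dvd_prime_pow ht).mp hdvd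
    interval_cases k
    · exfalso
      rw [hk, pow_zero] at htA0
      exact ht.one_lt.ne' (Nat.dvd_one.mp htA0)
    · rw [hk, pow_one]
    · exfalso
      have hEq : A0 = A := eq_of_le_of_card_ge hA0le (by rw [hk, hAcard])
      obtain ⟨a, ha, hna⟩ := hmove
      have : a ∈ A0 := hEq ▸ ha
      have h2 := ((hA0mem a).mp this).2
      apply hna
      rw [h2]; group
  -- the commutator homomorphism
  let cHom : A →* A :=
    { toFun := fun a => ⟨n * a.1 * n⁻¹ * a.1⁻¹, A.mul_mem (hconj a.1 a.2) (A.inv_mem a.2)⟩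
      map_one' := by
        apply Subtype.ext
        show n * ((1 : A) : G) * n⁻¹ * ((1 : A) : G)⁻¹ = ((1 : A) : G)
        simp
      map_mul' := by
        intro a b
        apply Subtype.ext
        show n * ((a * b : A) : G) * n⁻¹ * ((a * b : A) : G)⁻¹ =
          (n * a.1 * n⁻¹ * a.1⁻¹) * (n * b.1 * n⁻¹ * b.1⁻¹)
        have hc := hAcomm a.1⁻¹ (A.inv_mem a.2) (n * b.1 * n⁻¹ * b.1⁻¹)
          (A.mul_mem (hconj b.1 b.2) (A.inv_mem b.2))
        have e1 : ((a * b : A) : G) = a.1 * b.1 := rfl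
        rw [e1]
        calc n * (a.1 * b.1) * n⁻¹ * (a.1 * b.1)⁻¹
            = n * a.1 * n⁻¹ * ((n * b.1 * n⁻¹ * b.1⁻¹) * a.1⁻¹) := by group
          _ = n * a.1 * n⁻¹ * (a.1⁻¹ * (n * b.1 * n⁻¹ * b.1⁻¹)) := by rw [hc]
          _ = (n * a.1 * n⁻¹ * a.1⁻¹) * (n * b.1 * n⁻¹ * b.1⁻¹) := by group }
  have hcHom : ∀ a : A, ((cHom a : A) : G) = n * a.1 * n⁻¹ * a.1⁻¹ := fun _ => rfl
  have hker : ∀ a : A, a ∈ cHom.ker ↔ n * a.1 = a.1 * n := by
    intro a
    rw [MonoidHom.mem_ker]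
    constructor
    · intro h
      have h1 : n * a.1 * n⁻¹ * a.1⁻¹ = 1 := by
        rw [← hcHom, h]; rfl
      calc n * a.1 = (n * a.1 * n⁻¹ * a.1⁻¹) * a.1 * n := by group
        _ = a.1 * n := by rw [h1, one_mul]
    · intro h
      apply Subtype.ext
      rw [hcHom, h]
      show a.1 * n * n⁻¹ * a.1⁻¹ = 1
      group
  have hkercard : Nat.card cHom.ker = t := by
    rw [← hA0card]
    apply Nat.card_congr
    exact
      { toFun := fun x => ⟨x.1.1, (hA0mem _).mpr ⟨x.1.2, (hker x.1).mp x.2⟩⟩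
        invFun := fun y => ⟨⟨y.1, ((hA0mem _).mp y.2).1⟩, (hker _).mpr ((hA0mem _).mp y.2).2⟩
        left_inv := fun x => rfl
        right_inv := fun y => rfl }
  have hrangecard : Nat.card cHom.range = t := by
    have h1 := card_eq_card_quotient_mul_card_subgroup cHom.ker
    rw [Nat.card_congr (QuotientGroup.quotientKerEquivRange cHom).toEquiv, hkercard, hAcard] at h1
    have : t * t = Nat.card cHom.range * t := by rw [← h1]; ring
    exact (Nat.eq_of_mul_eq_mul_right ht.pos this).symm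
  set B : Subgroup G := cHom.range.map A.subtype with hB
  have hBcard : Nat.card B = t := by
    rw [hB, card_map_of_injective (subtype_injective A), hrangecard]
  have hBle : B ≤ A := by
    rw [hB]; exact map_subtype_le _
  have hBmem : ∀ b, b ∈ B ↔ ∃ a ∈ A, b = n * a * n⁻¹ * a⁻¹ := by
    intro b
    rw [hB, mem_map]
    constructor
    · rintro ⟨y, ⟨a, rfl⟩, rfl⟩
      exact ⟨a.1, a.2, rfl⟩
    · rintro ⟨a, ha, rfl⟩
      exact ⟨cHom ⟨a, ha⟩, ⟨⟨a, ha⟩, rfl⟩, rfl⟩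
  have hnB : n ∈ normalizer (B : Set G) := by
    rw [mem_normalizer_iff]
    intro h
    constructor
    · intro hh
      obtain ⟨a, ha, rfl⟩ := (hBmem h).mp hh
      exact (hBmem _).mpr ⟨n * a * n⁻¹, hconj a ha, by group⟩
    · intro hh
      obtain ⟨a, ha, hEq⟩ := (hBmem _).mp hh
      refine (hBmem h).mpr ⟨n⁻¹ * a * n, hconj' a ha, ?_⟩
      calc h = n⁻¹ * (n * h * n⁻¹) * n := by group
        _ = n⁻¹ * (n * a * n⁻¹ * a⁻¹) * n := by rw [hEq]
        _ = n * (n⁻¹ * a * n) * n⁻¹ * (n⁻¹ * a * n)⁻¹ := by group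
  have h1 : Nat.card B ≡ Nat.card (B ⊓ centralizer {n} : Subgroup G) [MOD t] :=
    Cfsg.Agent.Lib.Helper66.card_modEq_card_inf_centralizer_singleton n B hnt hnB
  have hBC : B ⊓ centralizer {n} = B := by
    apply eq_of_le_of_card_ge inf_le_left
    have hpos : 0 < Nat.card (B ⊓ centralizer {n} : Subgroup G) := Nat.card_pos
    have hdvd : t ∣ Nat.card (B ⊓ centralizer {n} : Subgroup G) := by
      have h2 : Nat.card (B ⊓ centralizer {n} : Subgroup G) % t = 0 := by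
        have := h1.symm
        unfold Nat.ModEq at this
        rw [this, hBcard]
        exact Nat.mod_self t
      exact Nat.dvd_of_mod_eq_zero h2
    rw [hBcard]
    exact Nat.le_of_dvd hpos hdvd
  have hBcomm : ∀ b ∈ B, n * b = b * n := by
    intro b hb
    have : b ∈ B ⊓ centralizer {n} := hBC.symm ▸ hb
    exact (mem_centralizer_iff.mp (mem_inf.mp this).2) n (Set.mem_singleton n)
  have hBA0 : B = A0 := by
    apply eq_of_le_of_card_ge
    · intro b hb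
      exact (hA0mem b).mpr ⟨hBle hb, hBcomm b hb⟩
    · rw [hBcard, hA0card]
  refine ⟨B, hBle, hBcard, hBcomm, ?_, ?_⟩
  · intro a ha
    exact (hBmem _).mpr ⟨a, ha, rfl⟩
  · intro a ha hna
    rw [hBA0]
    exact (hA0mem a).mpr ⟨ha, hna⟩

/-- Conjugation by `n ^ j` on an element `a` with `[n, a]` central for `n`. -/
theorem conj_pow_eq {a c : G} (hc : n * a * n⁻¹ = c * a) (hnc : n * c = c * n) (j : ℕ) :
    n ^ j * a * (n ^ j)⁻¹ = c ^ j * a := by
  induction j with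
  | zero => simp
  | succ j ih =>
    have hncj : n * c ^ j = c ^ j * n := by
      have : Commute n c := hnc
      exact (this.pow_right j).eq
    calc n ^ (j + 1) * a * (n ^ (j + 1))⁻¹
        = n * (n ^ j * a * (n ^ j)⁻¹) * n⁻¹ := by rw [pow_succ']; group
      _ = n * (c ^ j * a) * n⁻¹ := by rw [ih]
      _ = (n * c ^ j) * n⁻¹ * (n * a * n⁻¹) := by group
      _ = (c ^ j * n) * n⁻¹ * (c * a) := by rw [hncj, hc]
      _ = c ^ (j + 1) * a := by rw [pow_succ]; group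

/-- **Unipotent trick, power form.** -/
theorem exists_pow_conj_pow_eq (hAcard : Nat.card A = t ^ 2)
    (hAcomm : ∀ a ∈ A, ∀ b ∈ A, a * b = b * a)
    (hnN : n ∈ normalizer (A : Set G)) (hnt : IsPGroup t (zpowers n))
    {a₁ a₂ : G} (h₁ : a₁ ∈ A) (h₂ : a₂ ∈ A) (h₁n : n * a₁ * n⁻¹ ≠ a₁) (h₂n : n * a₂ * n⁻¹ ≠ a₂) :
    ∃ j m : ℕ, ¬ t ∣ m ∧ a₂ = (n ^ j * a₁ * (n ^ j)⁻¹) ^ m := by
  have ht : t.Prime := Fact.out
  obtain ⟨B, hBA, hBcard, hBcomm, hBc, hBfix⟩ :=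
    exists_fix_subgroup hAcard hAcomm hnN hnt ⟨a₁, h₁, h₁n⟩
  set c₁ : G := n * a₁ * n⁻¹ * a₁⁻¹ with hc₁
  have hc₁B : c₁ ∈ B := hBc a₁ h₁
  have hc₁ne : c₁ ≠ 1 := by
    intro h
    apply h₁n
    calc n * a₁ * n⁻¹ = (n * a₁ * n⁻¹ * a₁⁻¹) * a₁ := by group
      _ = a₁ := by rw [← hc₁, h, one_mul]
  have hc₁t : c₁ ^ t = 1 := by
    have h := pow_card_eq_one' (G := B) (x := ⟨c₁, hc₁B⟩)
    rw [hBcard] at h
    have := congrArg Subtype.val h
    simpa using this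
  -- every element of `B` is a natural power of `c₁`
  have hBpow : ∀ b ∈ B, ∃ k : ℕ, b = c₁ ^ k := by
    intro b hb
    have hne : (⟨c₁, hc₁B⟩ : B) ≠ 1 := by
      intro h
      exact hc₁ne (congrArg Subtype.val h)
    have hmem : (⟨b, hb⟩ : B) ∈ zpowers (⟨c₁, hc₁B⟩ : B) :=
      mem_zpowers_of_prime_card hBcard hne
    obtain ⟨k, hk⟩ := mem_zpowers_iff.mp hmem
    have hk' : c₁ ^ k = b := by
      have := congrArg Subtype.val hk
      simpa using this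
    refine ⟨(k % (t : ℤ)).toNat, ?_⟩
    have hmod : c₁ ^ k = c₁ ^ (k % (t : ℤ)) := by
      conv_lhs => rw [← Int.emod_add_mul_ediv k (t : ℤ)]
      rw [zpow_add, zpow_mul, zpow_natCast, hc₁t, one_zpow, mul_one]
    have hnonneg : 0 ≤ k % (t : ℤ) := Int.emod_nonneg k (by exact_mod_cast ht.ne_zero)
    rw [← hk', hmod]
    conv_lhs => rw [← Int.toNat_of_nonneg hnonneg]
    rw [zpow_natCast]
  have hna₁ : n * a₁ * n⁻¹ = c₁ * a₁ := by rw [hc₁]; group
  have hnc₁ : n * c₁ = c₁ * n := hBcomm c₁ hc₁B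
  -- `[n, a₂] = c₁ ^ m`
  set c₂ : G := n * a₂ * n⁻¹ * a₂⁻¹ with hc₂
  obtain ⟨m, hm⟩ := hBpow c₂ (hBc a₂ h₂)
  have hc₂ne : c₂ ≠ 1 := by
    intro h
    apply h₂n
    calc n * a₂ * n⁻¹ = (n * a₂ * n⁻¹ * a₂⁻¹) * a₂ := by group
      _ = a₂ := by rw [← hc₂, h, one_mul]
  have htm : ¬ t ∣ m := by
    rintro ⟨q, rfl⟩
    apply hc₂ne
    rw [hm, pow_mul, hc₁t, one_pow]
  -- `n` conjugates `a₁ ^ m` to `c₁ ^ m * a₁ ^ m`
  have hca : c₁ * a₁ = a₁ * c₁ := hAcomm c₁ (hBA hc₁B) a₁ h₁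
  have hna₁m : n * a₁ ^ m * n⁻¹ = c₁ ^ m * a₁ ^ m := by
    have h1 : n * a₁ ^ m * n⁻¹ = (n * a₁ * n⁻¹) ^ m := by
      rw [conj_pow]
    rw [h1, hna₁]
    exact (show Commute c₁ a₁ from hca).mul_pow m
  -- `z = a₂ * (a₁ ^ m)⁻¹` is fixed by `n`
  set z : G := a₂ * (a₁ ^ m)⁻¹ with hz
  have hzA : z ∈ A := A.mul_mem h₂ (A.inv_mem (A.pow_mem h₁ m))
  have hna₂ : n * a₂ * n⁻¹ = c₁ ^ m * a₂ := by rw [← hm, hc₂]; group
  have hnz : n * z = z * n := by
    have hcm_a₂ : c₁ ^ m * a₂ = a₂ * c₁ ^ m :=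
      hAcomm _ (A.pow_mem (hBA hc₁B) m) a₂ h₂
    have h1 : n * z * n⁻¹ = z := by
      calc n * z * n⁻¹ = (n * a₂ * n⁻¹) * (n * a₁ ^ m * n⁻¹)⁻¹ := by rw [hz]; group
        _ = (c₁ ^ m * a₂) * (c₁ ^ m * a₁ ^ m)⁻¹ := by rw [hna₂, hna₁m]
        _ = (a₂ * c₁ ^ m) * (a₁ ^ m * c₁ ^ m)⁻¹ := by
            rw [hcm_a₂, ((show Commute c₁ a₁ from hca).pow_pow m m).eq]
        _ = z := by rw [hz]; group
    calc n * z = (n * z * n⁻¹) * n := by group
      _ = z * n := by rw [h1]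
  obtain ⟨l, hl⟩ := hBpow z (hBfix z hzA hnz)
  -- choose `j` with `j * m ≡ l` mod `t`
  have hm0 : ((m : ZMod t)) ≠ 0 := by
    intro h
    exact htm ((ZMod.natCast_eq_zero_iff m t).mp h)
  set j : ℕ := ((l : ZMod t) * (m : ZMod t)⁻¹).val with hj
  have hjm : ((j * m : ℕ) : ZMod t) = (l : ZMod t) := by
    rw [Nat.cast_mul, hj, ZMod.natCast_val, ZMod.cast_id', id, mul_assoc, inv_mul_cancel₀ hm0,
      mul_one]
  have hpow : c₁ ^ (j * m) = c₁ ^ l := by
    have h1 : (j * m) % t = l % t := by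
      have := (ZMod.natCast_eq_natCast_iff' (j * m) l t).mp hjm
      exact this
    rw [pow_eq_pow_mod (j * m) hc₁t, pow_eq_pow_mod l hc₁t, h1]
  refine ⟨j, m, htm, ?_⟩
  rw [conj_pow_eq hna₁ hnc₁ j]
  have hcomm : Commute (c₁ ^ j) a₁ := (show Commute c₁ a₁ from hca).pow_left j
  rw [hcomm.mul_pow, ← pow_mul, hpow, ← hl, hz]
  group

/-- **Unipotent trick.**  `⟨n⟩` is transitive on the cyclic subgroups generated by the elements of `A`
that `n` does not centralize. -/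
theorem exists_pow_conj_zpowers_eq (hAcard : Nat.card A = t ^ 2)
    (hAcomm : ∀ a ∈ A, ∀ b ∈ A, a * b = b * a)
    (hnN : n ∈ normalizer (A : Set G)) (hnt : IsPGroup t (zpowers n))
    {a₁ a₂ : G} (h₁ : a₁ ∈ A) (h₂ : a₂ ∈ A) (h₁n : n * a₁ * n⁻¹ ≠ a₁) (h₂n : n * a₂ * n⁻¹ ≠ a₂) :
    ∃ j : ℕ, zpowers (n ^ j * a₁ * (n ^ j)⁻¹) = zpowers a₂ := by
  have ht : t.Prime := Fact.out
  obtain ⟨j, m, htm, hEq⟩ := exists_pow_conj_pow_eq hAcard hAcomm hnN hnt h₁ h₂ h₁n h₂n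
  refine ⟨j, ?_⟩
  set g : G := n ^ j * a₁ * (n ^ j)⁻¹ with hg
  have hgA : g ∈ A := by
    have hpow : n ^ j ∈ normalizer (A : Set G) := (normalizer (A : Set G)).pow_mem hnN j
    exact (mem_normalizer_iff.mp hpow a₁).mp h₁
  have hord : orderOf g ∣ t ^ 2 := by
    have h := orderOf_dvd_natCard (⟨g, hgA⟩ : A)
    rw [hAcard] at h
    have h2 : orderOf (⟨g, hgA⟩ : A) = orderOf g := by
      rw [← Subgroup.orderOf_coe]
    rwa [h2] at h
  have hcop : (orderOf g).Coprime m := by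
    obtain ⟨k, -, hk⟩ := (Nat.dvd_prime_pow ht).mp hord
    rw [hk]
    exact Nat.Coprime.pow_left k ((Nat.Prime.coprime_iff_not_dvd ht).mpr htm)
  symm
  apply eq_of_le_of_card_ge
  · rw [hEq]
    exact zpowers_le.mpr (Subgroup.pow_mem _ (mem_zpowers g) m)
  · rw [Nat.card_zpowers, Nat.card_zpowers, hEq, hcop.orderOf_pow]

end Cfsg.Agent.Lib.Helper01.UnipLines
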